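import Mathlib

/-!
Linear groups over the field with two elements that act two-transitively on the non-zero vectors:
common definitions for the theorem of Cameron and Kantor in prime dimension.
-/

set_option autoImplicit false

namespace Cfsg.Lib.AntiflagTwo

universe u

variable {V : Type*} [AddCommGroup V] [Module (ZMod 2) V]

/-- `H` is transitive on ordered pairs of distinct non-zero vectors. -/
def TwoTrans (H : Subgroup (V ≃ₗ[ZMod 2] V)) : Prop :=
  ∀ a b c d : V, a ≠ 0 → b ≠ 0 → a ≠ b → c ≠ 0 → d ≠ 0 → c ≠ d → ∃ h ∈ H, h a = c ∧ h b = d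

/-- `H` contains no transvection. -/
def NoTransvection (H : Subgroup (V ≃ₗ[ZMod 2] V)) : Prop :=
  ∀ g ∈ H, ∀ (f : Module.Dual (ZMod 2) V) (a : V), (∀ v, g v = v + f v • a) → g = 1

/-- The subgroup of `H` fixing the two vectors `x` and `y`. -/
def fix2 (H : Subgroup (V ≃ₗ[ZMod 2] V)) (x y : V) : Subgroup (V ≃ₗ[ZMod 2] V) :=
  H ⊓ MulAction.stabilizer (V ≃ₗ[ZMod 2] V) x ⊓ MulAction.stabilizer (V ≃ₗ[ZMod 2] V) y

/-- The moved space of a linear map. -/
def moved (g : V ≃ₗ[ZMod 2] V) : Submodule (ZMod 2) V :=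
  LinearMap.range ((g : V →ₗ[ZMod 2] V) - LinearMap.id)

/-- Two-transitive groups in Mersenne dimension below `n` are the general linear groups. -/
def SmallIH (n : ℕ) : Prop :=
  ∀ (W : Type u) [AddCommGroup W] [Module (ZMod 2) W] [Finite W] (K : Subgroup (W ≃ₗ[ZMod 2] W)),
    Module.finrank (ZMod 2) W < n → 3 ≤ Module.finrank (ZMod 2) W →
      (2 ^ Module.finrank (ZMod 2) W - 1).Prime → TwoTrans K → K = ⊤

end Cfsg.Lib.AntiflagTwo
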