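import Mathlib
import Cfsg.Agent.AntiflagTwo.Defs

/-!
The action on functionals, orbit counting, character sums and transvections over the field with two
elements.
-/

set_option autoImplicit false

namespace Cfsg.Lib.AntiflagTwo

open Module

variable {V : Type*} [AddCommGroup V] [Module (ZMod 2) V]

/-- Linear automorphisms act on functionals. -/
scoped instance dualAction : MulAction (V ≃ₗ[ZMod 2] V) (Dual (ZMod 2) V) where
  smul g f := f ∘ₗ (g.symm : V →ₗ[ZMod 2] V)
  one_smul f := LinearMap.ext fun _ => rfl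
  mul_smul _ _ f := LinearMap.ext fun _ => rfl

theorem smul_dual_apply (g : V ≃ₗ[ZMod 2] V) (f : Dual (ZMod 2) V) (v : V) :
    (g • f) v = f (g.symm v) := rfl

theorem smul_dual_smul (g : V ≃ₗ[ZMod 2] V) (f : Dual (ZMod 2) V) (v : V) : (g • f) (g v) = f v := by
  rw [smul_dual_apply, LinearEquiv.symm_apply_apply]

theorem zmod_two (a : ZMod 2) : a = 0 ∨ a = 1 := by revert a; decide

theorem eq_one_of_ne_zero {a : ZMod 2} (h : a ≠ 0) : a = 1 := (zmod_two a).resolve_left h

theorem add_self' (v : V) : v + v = 0 := by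
  rw [← two_smul (ZMod 2) v, show (2 : ZMod 2) = 0 from rfl, zero_smul]

theorem sub_eq_add' (v w : V) : v - w = v + w := by
  rw [sub_eq_iff_eq_add, add_assoc, add_self', add_zero]

theorem eq_of_add_eq_zero' {v w : V} (h : v + w = 0) : v = w := by
  rw [← sub_eq_add'] at h; exact sub_eq_zero.1 h

theorem exists_dual_of_notMem (Y : Submodule (ZMod 2) V) {v : V} (hv : v ∉ Y) :
    ∃ f : Dual (ZMod 2) V, f v = 1 ∧ f ∈ Y.dualAnnihilator := by
  obtain ⟨f, hfv, hf⟩ := Submodule.exists_dual_map_eq_bot_of_notMem hv inferInstance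
  refine ⟨f, eq_one_of_ne_zero hfv, (Submodule.mem_dualAnnihilator f).2 fun w hw => ?_⟩
  have : f w ∈ Y.map f := Submodule.mem_map_of_mem hw
  rwa [hf, Submodule.mem_bot] at this

theorem exists_dual {v : V} (hv : v ≠ 0) : ∃ f : Dual (ZMod 2) V, f v = 1 := by
  obtain ⟨f, hf, -⟩ := exists_dual_of_notMem (⊥ : Submodule (ZMod 2) V) (v := v) (by simpa using hv)
  exact ⟨f, hf⟩

section Orbits

variable {G : Type*} [Group G] [Finite G] {X : Type*} [MulAction G X]

theorem card_group_eq (x : X) :
    Nat.card G = Nat.card (MulAction.orbit G x) * Nat.card (MulAction.stabilizer G x) := by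
  rw [Nat.card_congr (MulAction.orbitEquivQuotientStabilizer G x)]
  exact Subgroup.card_eq_card_quotient_mul_card_subgroup _

/-- A transitive invariant set is an orbit. -/
theorem orbit_eq_of_trans {A : Set X} {x : X} (hx : x ∈ A) (hinv : ∀ (g : G), ∀ a ∈ A, g • a ∈ A)
    (htr : ∀ a ∈ A, ∃ g : G, g • x = a) : MulAction.orbit G x = A := by
  ext a
  constructor
  · rintro ⟨g, rfl⟩; exact hinv g x hx
  · intro ha; obtain ⟨g, hg⟩ := htr a ha; exact ⟨g, hg⟩

/-- An orbit inside a set of the same size is that set. -/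
theorem orbit_eq_of_card {A : Set X} [Finite A] {x : X} (hx : x ∈ A)
    (hinv : ∀ (g : G), ∀ a ∈ A, g • a ∈ A) (hdvd : Nat.card A ∣ Nat.card (MulAction.orbit G x)) :
    MulAction.orbit G x = A := by
  have hsub : MulAction.orbit G x ⊆ A := by rintro _ ⟨g, rfl⟩; exact hinv g x hx
  haveI : Nonempty (MulAction.orbit G x) := ⟨⟨x, MulAction.mem_orbit_self x⟩⟩
  haveI : Finite (MulAction.orbit G x) := Finite.Set.subset A hsub
  refine Set.eq_of_subset_of_ncard_le hsub ?_ (Set.toFinite A)
  rw [← Nat.card_coe_set_eq, ← Nat.card_coe_set_eq]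
  exact Nat.le_of_dvd Nat.card_pos hdvd

/-- Comparing the orbits of a subgroup with those of the group. -/
theorem orbit_dvd (T : Subgroup G) (x : X) :
    Nat.card T * Nat.card (MulAction.orbit G x) ∣ Nat.card (MulAction.orbit T x) * Nat.card G := by
  rw [card_group_eq (G := T) x, card_group_eq (G := G) x]
  have h : Nat.card (MulAction.stabilizer T x) ∣ Nat.card (MulAction.stabilizer G x) := by
    refine Subgroup.card_dvd_of_injective
      (MonoidHom.mk' (fun t : MulAction.stabilizer T x => (⟨(t.1.1 : G), t.2⟩ : MulAction.stabilizer G x))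
        fun _ _ => rfl) ?_
    intro a b h
    exact Subtype.ext (Subtype.ext (congrArg (fun z : MulAction.stabilizer G x => (z : G)) h))
  calc _ = Nat.card (MulAction.orbit T x) * Nat.card (MulAction.orbit G x) *
          Nat.card (MulAction.stabilizer T x) := by ring
    _ ∣ Nat.card (MulAction.orbit T x) * Nat.card (MulAction.orbit G x) *
          Nat.card (MulAction.stabilizer G x) := Nat.mul_dvd_mul_left _ h
    _ = _ := by ring

end Orbits

section Finite

variable [Finite V]

instance finite_dual : Finite (Dual (ZMod 2) V) := Finite.of_injective _ DFunLike.coe_injective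

theorem finite_equiv : Finite (V ≃ₗ[ZMod 2] V) :=
  Finite.of_injective (fun g : V ≃ₗ[ZMod 2] V => (g : V → V)) DFunLike.coe_injective

theorem card_eq_two_pow (Y : Submodule (ZMod 2) V) : Nat.card Y = 2 ^ finrank (ZMod 2) Y := by
  rw [Module.natCard_eq_pow_finrank (K := ZMod 2), Nat.card_zmod]

theorem card_annihilator (Y : Submodule (ZMod 2) V) :
    Nat.card Y.dualAnnihilator * Nat.card Y = Nat.card V := by
  haveI : Module.Finite (ZMod 2) V := Module.Finite.of_finite
  rw [card_eq_two_pow Y, Module.natCard_eq_pow_finrank (K := ZMod 2) (V := V),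
    Module.natCard_eq_pow_finrank (K := ZMod 2) (V := Y.dualAnnihilator), Nat.card_zmod, ← pow_add,
    add_comm, Subspace.finrank_add_finrank_dualAnnihilator_eq]

theorem card_annihilator' (Y : Submodule (ZMod 2) V) :
    Nat.card Y.dualAnnihilator = 2 ^ (finrank (ZMod 2) V - finrank (ZMod 2) Y) := by
  haveI : Module.Finite (ZMod 2) V := Module.Finite.of_finite
  rw [Module.natCard_eq_pow_finrank (K := ZMod 2), Nat.card_zmod]
  congr 1
  have := Subspace.finrank_add_finrank_dualAnnihilator_eq Y
  omega

/-- A linear map fixes as many vectors as functionals. -/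
theorem card_fixedBy_dual (g : V ≃ₗ[ZMod 2] V) :
    Nat.card (MulAction.fixedBy (Dual (ZMod 2) V) g) = Nat.card (MulAction.fixedBy V g) := by
  haveI : Module.Finite (ZMod 2) V := Module.Finite.of_finite
  set D : V →ₗ[ZMod 2] V := (g : V →ₗ[ZMod 2] V) - LinearMap.id with hD
  have h1 : MulAction.fixedBy V g = (LinearMap.ker D : Set V) := by
    ext v
    simp [hD, MulAction.mem_fixedBy, LinearEquiv.smul_def, sub_eq_zero]
  have h2 : MulAction.fixedBy (Dual (ZMod 2) V) g =
      ((LinearMap.range D).dualAnnihilator : Set (Dual (ZMod 2) V)) := by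
    ext f
    simp only [MulAction.mem_fixedBy, SetLike.mem_coe, Submodule.mem_dualAnnihilator,
      LinearMap.mem_range, forall_exists_index, forall_apply_eq_imp_iff]
    constructor
    · intro h v
      have h' := smul_dual_smul g f v
      rw [h] at h'
      simp [hD, h']
    · intro h
      refine LinearMap.ext fun v => ?_
      have h' := h (g.symm v)
      simp only [hD, LinearMap.sub_apply, LinearEquiv.coe_coe, LinearEquiv.apply_symm_apply,
        LinearMap.id_apply, map_sub, sub_eq_zero] at h'
      rw [smul_dual_apply, ← h']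
  have h3 := LinearMap.finrank_range_add_finrank_ker D
  rw [h1, h2, SetLike.coe_sort_coe, SetLike.coe_sort_coe, card_annihilator', card_eq_two_pow]
  congr 1
  omega

/-- The lemma of Block: as many orbits on vectors as on functionals. -/
theorem card_orbits_eq (G : Subgroup (V ≃ₗ[ZMod 2] V)) :
    Nat.card (Quotient (MulAction.orbitRel G V)) =
      Nat.card (Quotient (MulAction.orbitRel G (Dual (ZMod 2) V))) := by
  classical
  haveI := finite_equiv (V := V)
  haveI := Fintype.ofFinite V
  haveI := Fintype.ofFinite (Dual (ZMod 2) V)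
  haveI := Fintype.ofFinite G
  haveI := Fintype.ofFinite (Quotient (MulAction.orbitRel G V))
  haveI := Fintype.ofFinite (Quotient (MulAction.orbitRel G (Dual (ZMod 2) V)))
  have hV := MulAction.sum_card_fixedBy_eq_card_orbits_mul_card_group G V
  have hD := MulAction.sum_card_fixedBy_eq_card_orbits_mul_card_group G (Dual (ZMod 2) V)
  have he : ∀ g : G, Fintype.card (MulAction.fixedBy V g) =
      Fintype.card (MulAction.fixedBy (Dual (ZMod 2) V) g) := by
    intro g
    rw [← Nat.card_eq_fintype_card, ← Nat.card_eq_fintype_card]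
    exact (card_fixedBy_dual (g : V ≃ₗ[ZMod 2] V)).symm
  rw [Finset.sum_congr rfl fun g _ => he g, hD] at hV
  rw [Nat.card_eq_fintype_card, Nat.card_eq_fintype_card]
  exact (Nat.eq_of_mul_eq_mul_right Fintype.card_pos hV).symm

/-- Block's lemma in the form used below: if the functionals fall into at most as many orbits as
there are invariant classes of vectors, then the classes of vectors are orbits. -/
theorem block {ι ι' : Type*} [Finite ι] [Finite ι'] (G : Subgroup (V ≃ₗ[ZMod 2] V)) (lab : V → ι)
    (hsurj : Function.Surjective lab) (hinv : ∀ g ∈ G, ∀ v, lab (g v) = lab v)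
    (lab' : Dual (ZMod 2) V → ι') (htr : ∀ f f', lab' f = lab' f' → ∃ g ∈ G, g • f = f')
    (hle : Nat.card ι' ≤ Nat.card ι) {v w : V} (hvw : lab v = lab w) : ∃ g ∈ G, g v = w := by
  classical
  let φ : Quotient (MulAction.orbitRel G V) → ι := Quotient.lift lab (by
    rintro a b ⟨g, rfl⟩
    exact hinv g.1 g.2 b)
  have hφ : Function.Surjective φ := fun i => by
    obtain ⟨a, ha⟩ := hsurj i
    exact ⟨Quotient.mk _ a, ha⟩
  let ψ : Quotient (MulAction.orbitRel G (Dual (ZMod 2) V)) → ι' := fun c => lab' c.out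
  have hψ : Function.Injective ψ := fun c c' h => by
    obtain ⟨g, hg, hgc⟩ := htr _ _ h
    rw [← Quotient.out_eq c, ← Quotient.out_eq c']
    exact (Quotient.sound (show MulAction.orbitRel G (Dual (ZMod 2) V) c'.out c.out from
      ⟨⟨g, hg⟩, hgc⟩)).symm
  have h1 := Nat.card_le_card_of_surjective φ hφ
  have h2 := Nat.card_le_card_of_injective ψ hψ
  have h3 := card_orbits_eq G
  have hbij := hφ.bijective_of_nat_card_le (by omega)
  have h4 := hbij.1 (show φ (Quotient.mk _ v) = φ (Quotient.mk _ w) from hvw)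
  obtain ⟨⟨g, hg⟩, hgw⟩ := Quotient.exact h4.symm
  exact ⟨g, hg, hgw⟩

/-- The sign of a bit. -/
def sgn (a : ZMod 2) : ℤ := if a = 0 then 1 else -1

theorem sgn_add (a b : ZMod 2) : sgn (a + b) = sgn a * sgn b := by revert a b; decide

/-- Character sums over the annihilator of a subspace. -/
theorem sum_annihilator [DecidableEq V] (Y : Submodule (ZMod 2) V) [Fintype Y.dualAnnihilator] (u : V)
    [Decidable (u ∈ Y)] : ∑ f : Y.dualAnnihilator, sgn (f.1 u) =
      if u ∈ Y then (Fintype.card Y.dualAnnihilator : ℤ) else 0 := by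
  split_ifs with hu
  · rw [Finset.sum_congr rfl fun f _ => show sgn (f.1 u) = 1 by
      rw [(Submodule.mem_dualAnnihilator f.1).1 f.2 u hu]; rfl]
    simp
  · obtain ⟨f0, h0, hf0⟩ := exists_dual_of_notMem Y hu
    have h := Fintype.sum_equiv (Equiv.addLeft (⟨f0, hf0⟩ : Y.dualAnnihilator))
      (fun f => sgn ((⟨f0, hf0⟩ + f : Y.dualAnnihilator).1 u)) (fun f => sgn (f.1 u)) fun f => rfl
    have h' : ∀ f : Y.dualAnnihilator,
        sgn ((⟨f0, hf0⟩ + f : Y.dualAnnihilator).1 u) = - sgn (f.1 u) := by
      intro f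
      show sgn (f0 u + f.1 u) = _
      rw [sgn_add, h0, show sgn 1 = -1 from rfl, neg_one_mul]
    rw [Finset.sum_congr rfl fun f _ => h' f, Finset.sum_neg_distrib] at h
    omega

/-- A set whose character sums vanish off the annihilator of a subspace is invariant under
translations by that subspace. -/
theorem translate_mem [DecidableEq V] (O : Finset V) (W : Submodule (ZMod 2) V)
    (h : ∀ f : Dual (ZMod 2) V, f ∉ W.dualAnnihilator → ∑ v ∈ O, sgn (f v) = 0) {u w : V}
    (hu : u ∈ O) (hw : w ∈ W) : u + w ∈ O := by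
  classical
  haveI := Fintype.ofFinite (⊥ : Submodule (ZMod 2) V).dualAnnihilator
  have hN : ∀ z : V, ∑ f : (⊥ : Submodule (ZMod 2) V).dualAnnihilator, sgn (f.1 z) *
      ∑ v ∈ O, sgn (f.1 v) = if z ∈ O then (Fintype.card
        (⊥ : Submodule (ZMod 2) V).dualAnnihilator : ℤ) else 0 := by
    intro z
    rw [Finset.sum_congr rfl fun f _ => Finset.mul_sum O _ _, Finset.sum_comm]
    have h' : ∀ v ∈ O, ∑ f : (⊥ : Submodule (ZMod 2) V).dualAnnihilator,
        sgn (f.1 z) * sgn (f.1 v) = if z = v then (Fintype.card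
          (⊥ : Submodule (ZMod 2) V).dualAnnihilator : ℤ) else 0 := by
      intro v _
      rw [Finset.sum_congr rfl fun f _ => show sgn (f.1 z) * sgn (f.1 v) = sgn (f.1 (z + v)) by
        rw [map_add, sgn_add], sum_annihilator]
      congr 1
      simp only [Submodule.mem_bot, eq_iff_iff]
      exact ⟨eq_of_add_eq_zero', fun hzv => hzv ▸ add_self' z⟩
    rw [Finset.sum_congr rfl h', Finset.sum_ite_eq]
  have he : ∑ f : (⊥ : Submodule (ZMod 2) V).dualAnnihilator, sgn (f.1 (u + w)) *
      ∑ v ∈ O, sgn (f.1 v) = ∑ f : (⊥ : Submodule (ZMod 2) V).dualAnnihilator, sgn (f.1 u) *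
      ∑ v ∈ O, sgn (f.1 v) := by
    refine Finset.sum_congr rfl fun f _ => ?_
    by_cases hf : f.1 ∈ W.dualAnnihilator
    · rw [map_add, (Submodule.mem_dualAnnihilator f.1).1 hf w hw, add_zero]
    · rw [h f.1 hf, mul_zero, mul_zero]
  rw [hN, hN, if_pos hu] at he
  by_contra hc
  rw [if_neg hc] at he
  have : (0 : ℤ) < (Fintype.card (⊥ : Submodule (ZMod 2) V).dualAnnihilator : ℤ) := by
    exact_mod_cast Fintype.card_pos
  omega

/-- Transvections generate the general linear group. -/
theorem eq_top_of_transvections (H : Subgroup (V ≃ₗ[ZMod 2] V))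
    (h : ∀ (f : Dual (ZMod 2) V) (a : V) (hfa : f a = 0), LinearEquiv.transvection hfa ∈ H) :
    H = ⊤ := by
  haveI : Module.Finite (ZMod 2) V := Module.Finite.of_finite
  refine eq_top_iff.2 fun g _ => ?_
  suffices hk : ∀ k, ∀ g : V ≃ₗ[ZMod 2] V,
      finrank (ZMod 2) V - finrank (ZMod 2) (LinearMap.ker ((g : V →ₗ[ZMod 2] V) - LinearMap.id)) = k →
        g ∈ H from hk _ g rfl
  intro k
  induction k using Nat.strong_induction_on with
  | _ k ih =>
    intro g hg
    set K := LinearMap.ker ((g : V →ₗ[ZMod 2] V) - LinearMap.id) with hK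
    have hmem : ∀ v, v ∈ K ↔ g v = v := fun v => by simp [hK, sub_eq_zero]
    by_cases h1 : ∀ v, g v = v
    · have : g = 1 := LinearEquiv.ext h1
      rw [this]; exact one_mem H
    push Not at h1
    obtain ⟨v, hv⟩ := h1
    set a := v + g v with ha
    have hvK : v ∉ K ⊔ Submodule.span (ZMod 2) {a} := by
      intro hc
      obtain ⟨x, hx, y, hy, hxy⟩ := Submodule.mem_sup.1 hc
      obtain ⟨c, rfl⟩ := Submodule.mem_span_singleton.1 hy
      rcases zmod_two c with rfl | rfl
      · rw [zero_smul, add_zero] at hxy; exact hv ((hmem v).1 (hxy ▸ hx))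
      · rw [one_smul, ha] at hxy
        have : x + g v = 0 := by
          have := congrArg (fun z => z + v) hxy
          simp only [add_self'] at this
          rw [← this]; abel_nf; rw [two_smul, add_self', add_zero]
        have hgv : g v ∈ K := (eq_of_add_eq_zero' this) ▸ hx
        exact hv (g.injective ((hmem _).1 hgv))
    obtain ⟨f, hfv, hf⟩ := exists_dual_of_notMem _ hvK
    rw [Submodule.mem_dualAnnihilator] at hf
    have hfa : f a = 0 := hf a (Submodule.mem_sup_right (Submodule.mem_span_singleton_self a))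
    set t := LinearEquiv.transvection hfa with ht
    have hlt : K < LinearMap.ker (((t * g : V ≃ₗ[ZMod 2] V) : V →ₗ[ZMod 2] V) - LinearMap.id) := by
      refine lt_of_le_of_ne (fun x hx => ?_) fun he => ?_
      · simp [ht, sub_eq_zero, (hmem x).1 hx, LinearMap.transvection.apply,
          hf x (Submodule.mem_sup_left hx)]
      · have hv' : v ∈ K := by
          have hfg : f (g v) = 1 := by
            rw [show g v = v + a by rw [ha, ← add_assoc, add_self', zero_add], map_add, hfv, hfa,
              add_zero]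
          rw [he]
          simp [ht, sub_eq_zero, LinearMap.transvection.apply, hfg, ha]
          rw [add_comm v, ← add_assoc, add_self', zero_add]
        exact hv ((hmem v).1 hv')
    have hfin := Submodule.finrank_lt_finrank_of_lt hlt
    have hle := Submodule.finrank_le
      (LinearMap.ker (((t * g : V ≃ₗ[ZMod 2] V) : V →ₗ[ZMod 2] V) - LinearMap.id))
    have hm := ih _ (by omega) (t * g) rfl
    have hg' := H.mul_mem (H.inv_mem (h f a hfa)) hm
    rwa [inv_mul_cancel_left] at hg'

end Finite

end Cfsg.Lib.AntiflagTwo
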