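import Mathlib
import Cfsg.Agent.AntiflagTwo.Defs

/-!
Linear groups over the field with two elements: a commutative transitive subgroup is the multiplicative
group of a field, and non-trivial normal subgroups of the general linear group contain transvections.
-/

set_option autoImplicit false
set_option linter.style.haveILetI false

namespace Cfsg.Lib.AntiflagTwo

universe u

variable {V : Type u} [AddCommGroup V] [Module (ZMod 2) V]

theorem zmod_two_cases : ∀ a : ZMod 2, a = 0 ∨ a = 1 := by decide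

theorem add_self_zero (v : V) : v + v = 0 := by
  rw [← two_smul (ZMod 2) v, show (2 : ZMod 2) = 0 by decide, zero_smul]

theorem sub_eq_add_two (v w : V) : v - w = v + w := by
  rw [sub_eq_iff_eq_add, add_assoc, add_self_zero, add_zero]

section Field

variable [Finite V] {k : ℕ}

theorem card_nonzero (hk : Module.finrank (ZMod 2) V = k) : Nat.card {w : V // w ≠ 0} = 2 ^ k - 1 := by
  classical
  haveI := Fintype.ofFinite V
  rw [Nat.card_eq_fintype_card, Fintype.card_subtype_compl, Fintype.card_subtype_eq,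
    Module.card_eq_pow_finrank (K := ZMod 2) (V := V), hk, ZMod.card]

theorem card_dvd_of_abelian_transitive {H C : Subgroup (V ≃ₗ[ZMod 2] V)}
    (hk : Module.finrank (ZMod 2) V = k) (hk1 : 1 ≤ k) (hCH : C ≤ H)
    (hnorm : ∀ h ∈ H, ∀ c ∈ C, h * c * h⁻¹ ∈ C) (hcomm : ∀ c ∈ C, ∀ d ∈ C, c * d = d * c)
    (htrans : ∀ v w : V, v ≠ 0 → w ≠ 0 → ∃ c ∈ C, c v = w) :
    Nat.card C = 2 ^ k - 1 ∧ Nat.card H ∣ k * (2 ^ k - 1) := by
  haveI : Nontrivial V := Module.nontrivial_of_finrank_pos (R := ZMod 2) (by omega)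
  obtain ⟨v₀, hv₀⟩ := exists_ne (0 : V)
  have hreg : ∀ c ∈ C, ∀ d ∈ C, c v₀ = d v₀ → c = d := fun c hc d hd e => by
    refine LinearEquiv.ext fun w => ?_
    by_cases hw : w = 0
    · subst hw; simp
    obtain ⟨a, ha, rfl⟩ := htrans v₀ w hv₀ hw
    have e1 : c (a v₀) = (c * a) v₀ := rfl
    have e2 : d (a v₀) = (d * a) v₀ := rfl
    rw [e1, e2, hcomm c hc a ha, hcomm d hd a ha]
    show a (c v₀) = a (d v₀)
    rw [e]
  have hC : Nat.card C = 2 ^ k - 1 := by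
    rw [← card_nonzero hk]
    refine Nat.card_congr (Equiv.ofBijective
      (fun c => ⟨c.1 v₀, fun e => hv₀ (c.1.injective (by rw [e, map_zero]))⟩) ⟨?_, ?_⟩)
    · intro c d e
      exact Subtype.ext (hreg c c.2 d d.2 (congrArg Subtype.val e))
    · rintro ⟨w, hw⟩
      obtain ⟨c, hc, e⟩ := htrans v₀ w hv₀ hw
      exact ⟨⟨c, hc⟩, Subtype.ext e⟩
  refine ⟨hC, ?_⟩
  -- the field
  set S : Set (Module.End (ZMod 2) V) :=
    Set.range fun c : C => ((c.1 : V ≃ₗ[ZMod 2] V) : Module.End (ZMod 2) V)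
  set A := Subalgebra.centralizer (ZMod 2) S
  have hA : ∀ (φ : A) (c : C) (w : V), φ.1 (c.1 w) = c.1 (φ.1 w) := fun φ c w => by
    have := LinearMap.congr_fun ((Subalgebra.mem_centralizer_iff (ZMod 2)).1 φ.2 _ ⟨c, rfl⟩) w
    exact this.symm
  have hext : ∀ φ ψ : A, φ.1 v₀ = ψ.1 v₀ → φ = ψ := fun φ ψ e => by
    refine Subtype.ext (LinearMap.ext fun w => ?_)
    by_cases hw : w = 0
    · subst hw; simp
    obtain ⟨c, hc, rfl⟩ := htrans v₀ w hv₀ hw
    rw [hA φ ⟨c, hc⟩, hA ψ ⟨c, hc⟩, e]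
  have hmem : ∀ c : C, ((c.1 : V ≃ₗ[ZMod 2] V) : Module.End (ZMod 2) V) ∈ A := fun c => by
    rw [Subalgebra.mem_centralizer_iff]
    rintro _ ⟨d, rfl⟩
    refine LinearMap.ext fun w => ?_
    show d.1 (c.1 w) = c.1 (d.1 w)
    exact LinearEquiv.congr_fun (hcomm d d.2 c c.2) w
  let ev : A →ₗ[ZMod 2] V :=
    { toFun := fun φ => φ.1 v₀, map_add' := fun _ _ => rfl, map_smul' := fun _ _ => rfl }
  have hsurj : Function.Surjective ev := fun w => by
    by_cases hw : w = 0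
    · exact ⟨0, by rw [hw]; rfl⟩
    obtain ⟨c, hc, e⟩ := htrans v₀ w hv₀ hw
    exact ⟨⟨_, hmem ⟨c, hc⟩⟩, e⟩
  have hunit : ∀ φ : A, φ ≠ 0 → ∃ c : C, φ = ⟨_, hmem c⟩ := fun φ hφ => by
    have h0 : φ.1 v₀ ≠ 0 := fun e => hφ (hext φ 0 e)
    obtain ⟨c, hc, e⟩ := htrans v₀ _ hv₀ h0
    exact ⟨⟨c, hc⟩, hext _ _ e.symm⟩
  have hfield : IsField A := by
    refine ⟨⟨0, 1, fun e => hv₀ ?_⟩, fun φ ψ => ?_, fun {φ} hφ => ?_⟩
    · exact (congrArg ev e).symm
    · by_cases hφ : φ = 0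
      · subst hφ; simp
      obtain ⟨c, rfl⟩ := hunit φ hφ
      refine Subtype.ext (LinearMap.ext fun w => ?_)
      exact (hA ψ c w).symm
    · obtain ⟨c, rfl⟩ := hunit φ hφ
      refine ⟨⟨_, hmem ⟨c.1⁻¹, inv_mem c.2⟩⟩, Subtype.ext (LinearMap.ext fun w => ?_)⟩
      exact c.1.apply_symm_apply w
  letI : Field A := hfield.toField
  haveI : Finite (Module.End (ZMod 2) V) := Finite.of_injective (fun φ => (φ : V → V)) DFunLike.coe_injective
  have hfin : Module.finrank (ZMod 2) A = k := by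
    rw [← hk]
    exact LinearEquiv.finrank_eq (LinearEquiv.ofBijective ev ⟨hext, hsurj⟩)
  have hcard : Nat.card (A ≃ₐ[ZMod 2] A) = k := by
    rw [IsGalois.card_aut_eq_finrank, hfin]
  -- the stabiliser acts on the field by conjugation
  have hconj : ∀ h ∈ H, ∀ φ ∈ A, LinearEquiv.conjAlgEquiv (ZMod 2) h φ ∈ A := fun h hh φ hφ => by
    rw [Subalgebra.mem_centralizer_iff]
    rintro _ ⟨d, rfl⟩
    refine LinearMap.ext fun w => ?_
    have hd : h⁻¹ * d.1 * h⁻¹⁻¹ ∈ C := hnorm _ (inv_mem hh) _ d.2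
    have := hA ⟨φ, hφ⟩ ⟨_, hd⟩ (h⁻¹ w)
    change d.1 (h (φ (h⁻¹ w))) = h (φ (h⁻¹ (d.1 w)))
    rw [show (h⁻¹ * d.1 * h⁻¹⁻¹) (h⁻¹ w) = h⁻¹ (d.1 w) by
      show h⁻¹ (d.1 (h⁻¹⁻¹ (h⁻¹ w))) = _
      rw [inv_inv]
      exact congrArg (fun z => h⁻¹ (d.1 z)) (h.apply_symm_apply w)] at this
    rw [this]
    show d.1 (h (φ (h⁻¹ w))) = h (h⁻¹ (d.1 ((h⁻¹⁻¹) (φ (h⁻¹ w)))))
    rw [inv_inv]
    exact (h.apply_symm_apply _).symm
  set H₀ := MulAction.stabilizer H v₀ with hH₀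
  let ψ : ∀ h : H, A →ₐ[ZMod 2] A := fun h =>
    AlgHom.codRestrict ((LinearEquiv.conjAlgEquiv (ZMod 2) h.1).toAlgHom.comp A.val) A
      fun φ => hconj h.1 h.2 φ.1 φ.2
  have hψ : ∀ (h : H) (φ : A) (w : V), (ψ h φ).1 w = h.1 (φ.1 (h.1⁻¹ w)) := fun h φ w => rfl
  let Ψ : H₀ →* (A ≃ₐ[ZMod 2] A) :=
    { toFun := fun h => AlgEquiv.ofBijective (ψ h.1)
        (Finite.injective_iff_bijective.1 (ψ h.1).toRingHom.injective)
      map_one' := AlgEquiv.ext fun φ => Subtype.ext (LinearMap.ext fun w => rfl)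
      map_mul' := fun g h => AlgEquiv.ext fun φ => Subtype.ext (LinearMap.ext fun w => rfl) }
  have hinj : Function.Injective Ψ := fun g g' e => by
    refine Subtype.ext (Subtype.ext (LinearEquiv.ext fun w => ?_))
    have hg : ∀ g : H₀, ∀ φ : A, (Ψ g φ).1 v₀ = g.1.1 (φ.1 v₀) := fun g φ => by
      show g.1.1 (φ.1 (g.1.1⁻¹ v₀)) = _
      have : g.1.1 v₀ = v₀ := g.2
      rw [show g.1.1⁻¹ v₀ = v₀ from (LinearEquiv.symm_apply_eq _).2 this.symm]
    obtain ⟨φ, rfl⟩ := hsurj w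
    show g.1.1 (φ.1 v₀) = g'.1.1 (φ.1 v₀)
    rw [← hg, ← hg, e]
  have horb : MulAction.orbit H v₀ = {w : V | w ≠ 0} := by
    ext w
    refine ⟨?_, fun hw => ?_⟩
    · rintro ⟨g, rfl⟩ e
      exact hv₀ (g.1.injective (by rw [show g.1 v₀ = 0 from e, map_zero]))
    · obtain ⟨c, hc, e⟩ := htrans v₀ w hv₀ hw
      exact ⟨⟨c, hCH hc⟩, e⟩
  have hidx : H₀.index = 2 ^ k - 1 := by
    rw [hH₀, MulAction.index_stabilizer, horb, ← card_nonzero hk]
    exact Nat.card_coe_set_eq _ |>.symm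
  rw [← H₀.card_mul_index, hidx]
  exact Nat.mul_dvd_mul_right (hcard ▸ Subgroup.card_dvd_of_injective Ψ hinj) _

theorem eq_bot_of_abelian_normal {H C : Subgroup (V ≃ₗ[ZMod 2] V)} (hk : Module.finrank (ZMod 2) V = k)
    (hk3 : 3 ≤ k) (h2 : TwoTrans H) (hCH : C ≤ H) (hnorm : ∀ h ∈ H, ∀ c ∈ C, h * c * h⁻¹ ∈ C)
    (hcomm : ∀ c ∈ C, ∀ d ∈ C, c * d = d * c) : C = ⊥ := by
  by_contra hne
  obtain ⟨c, hc, hc1⟩ := (Subgroup.ne_bot_iff_exists_ne_one.1 hne).elim fun x hx =>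
    (⟨x.1, x.2, fun e => hx (Subtype.ext e)⟩ : ∃ c ∈ C, c ≠ 1)
  obtain ⟨v, hv⟩ : ∃ v, c v ≠ v := by
    by_contra h'
    push Not at h'
    exact hc1 (LinearEquiv.ext h')
  have hv0 : v ≠ 0 := fun e => hv (by rw [e, map_zero])
  have hcv0 : c v ≠ 0 := fun e => hv0 (c.injective (by rw [e, map_zero]))
  have hfrom : ∀ w, w ≠ 0 → ∃ d ∈ C, d v = w := fun w hw => by
    by_cases hwv : w = v
    · exact ⟨1, one_mem C, hwv.symm⟩
    obtain ⟨h, hh, e1, e2⟩ := h2 v (c v) v w hv0 hcv0 (Ne.symm hv) hv0 hw (Ne.symm hwv)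
    refine ⟨h * c * h⁻¹, hnorm h hh c hc, ?_⟩
    show h (c (h⁻¹ v)) = w
    rw [show h⁻¹ v = v from (LinearEquiv.symm_apply_eq _).2 e1.symm, e2]
  have htrans : ∀ a b : V, a ≠ 0 → b ≠ 0 → ∃ d ∈ C, d a = b := fun a b ha hb => by
    obtain ⟨d, hd, rfl⟩ := hfrom a ha
    obtain ⟨d', hd', rfl⟩ := hfrom b hb
    refine ⟨d' * d⁻¹, mul_mem hd' (inv_mem hd), ?_⟩
    show d' (d⁻¹ (d v)) = d' v
    exact congrArg d' (d.symm_apply_apply v)
  obtain ⟨-, hdvd⟩ := card_dvd_of_abelian_transitive hk (by omega) hCH hnorm hcomm htrans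
  have hpow : ∀ j : ℕ, 3 ≤ j → j + 3 ≤ 2 ^ j := by
    intro j hj
    induction j, hj using Nat.le_induction with
    | base => norm_num
    | succ j hj ih => rw [pow_succ]; omega
  have hk' := hpow k hk3
  have hle : Nat.card H ≤ k * (2 ^ k - 1) := Nat.le_of_dvd (by positivity [show 0 < 2 ^ k - 1 by omega]) hdvd
  -- ordered pairs of distinct non-zero vectors
  have hpairs : (2 ^ k - 1) * (2 ^ k - 2) ≤ Nat.card H := by
    classical
    haveI := Fintype.ofFinite V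
    let Pr := {p : V × V // p.1 ≠ 0 ∧ p.2 ≠ 0 ∧ p.1 ≠ p.2}
    have hPr : Nat.card Pr = (2 ^ k - 1) * (2 ^ k - 2) := by
      rw [← card_nonzero hk, show 2 ^ k - 2 = 2 ^ k - 1 - 1 by omega, ← card_nonzero hk]
      haveI := Fintype.ofFinite {w : V // w ≠ 0}
      rw [Nat.card_eq_fintype_card (α := {w : V // w ≠ 0}), Nat.mul_sub_one]
      have e : Nat.card Pr = Nat.card {p : {w : V // w ≠ 0} × {w : V // w ≠ 0} // p.1 ≠ p.2} :=
        Nat.card_congr ⟨fun p => ⟨(⟨_, p.2.1⟩, ⟨_, p.2.2.1⟩), fun e => p.2.2.2 (congrArg Subtype.val e)⟩,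
          fun p => ⟨(p.1.1.1, p.1.2.1), p.1.1.2, p.1.2.2, fun e => p.2 (Subtype.ext e)⟩,
          fun p => rfl, fun p => rfl⟩
      rw [e, Nat.card_eq_fintype_card, Fintype.card_subtype, ← Finset.card_univ, ← Finset.offDiag_card]
      congr 1
      ext p
      simp
    rw [← hPr]
    haveI : Finite (V ≃ₗ[ZMod 2] V) := Finite.of_injective (fun φ => (φ : V → V)) DFunLike.coe_injective
    obtain ⟨h0⟩ : Nonempty Pr := ⟨⟨(v, c v), hv0, hcv0, Ne.symm hv⟩⟩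
    refine Nat.card_le_card_of_surjective (fun h : H => (⟨(h.1 h0.1.1, h.1 h0.1.2),
      fun e => h0.2.1 (h.1.injective (by rw [show h.1 h0.1.1 = 0 from e, map_zero])),
      fun e => h0.2.2.1 (h.1.injective (by rw [show h.1 h0.1.2 = 0 from e, map_zero])),
      fun e => h0.2.2.2 (h.1.injective e)⟩ : Pr)) ?_
    rintro ⟨⟨a, b⟩, ha, hb, hab⟩
    obtain ⟨h, hh, e1, e2⟩ := h2 h0.1.1 h0.1.2 a b h0.2.1 h0.2.2.1 h0.2.2.2 ha hb hab
    exact ⟨⟨h, hh⟩, Subtype.ext (Prod.ext e1 e2)⟩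
  have h3 := hpairs.trans hle
  rw [mul_comm k] at h3
  have := Nat.le_of_mul_le_mul_left h3 (by omega)
  omega

end Field

section Normal

variable [Finite V] {k : ℕ}

theorem exists_transvection_of_normal {K : Subgroup (V ≃ₗ[ZMod 2] V)} (hk : Module.finrank (ZMod 2) V = k)
    (hk3 : 3 ≤ k) (hK : K.Normal) (hne : K ≠ ⊥) :
    ∃ g ∈ K, g ≠ 1 ∧ ∃ (f : Module.Dual (ZMod 2) V) (a : V), ∀ v, g v = v + f v • a := by
  obtain ⟨g₀, hg₀, hg₁⟩ := (Subgroup.ne_bot_iff_exists_ne_one.1 hne).elim fun x hx =>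
    (⟨x.1, x.2, fun e => hx (Subtype.ext e)⟩ : ∃ g ∈ K, g ≠ 1)
  obtain ⟨v, hv⟩ : ∃ v, g₀ v ≠ v := by
    by_contra h'
    push Not at h'
    exact hg₁ (LinearEquiv.ext h')
  have hv0 : v ≠ 0 := fun e => hv (by rw [e, map_zero])
  have hdual : ∀ (W : Submodule (ZMod 2) V) (x : V), x ∉ W → ∃ f : Module.Dual (ZMod 2) V, f x = 1 ∧ ∀ w ∈ W, f w = 0 := by
    intro W x hx
    obtain ⟨f, hfx, hf⟩ := W.exists_dual_map_eq_bot_of_notMem hx inferInstance
    refine ⟨f, (zmod_two_cases _).resolve_left hfx, fun w hw => ?_⟩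
    have : f w ∈ W.map f := Submodule.mem_map_of_mem hw
    rwa [hf, Submodule.mem_bot] at this
  have hlt : (Submodule.span (ZMod 2) {v}) ≠ ⊤ := fun e => by
    have h1 := finrank_span_singleton (K := ZMod 2) hv0
    rw [e, finrank_top, hk] at h1
    omega
  obtain ⟨x, -, hx⟩ := SetLike.exists_of_lt (lt_top_iff_ne_top.2 hlt)
  obtain ⟨f, hfx, hf⟩ := hdual _ x hx
  have hfv : f v = 0 := hf v (Submodule.mem_span_singleton_self v)
  set t := LinearEquiv.transvection hfv with ht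
  have htu : ∀ u, t u = u + f u • v := fun u => LinearEquiv.transvection.apply hfv u
  -- a product of two transvections in `K`
  set s := g₀ * t * g₀⁻¹ * t⁻¹ with hs
  have hsK : s ∈ K := by
    rw [hs, mul_assoc g₀, mul_assoc g₀, mul_assoc]
    exact mul_mem hg₀ (by simpa [mul_assoc] using hK.conj_mem _ (inv_mem hg₀) t)
  have htinv : ∀ u, t⁻¹ u = u + f u • v := fun u => by
    show t.symm u = _
    rw [LinearEquiv.symm_apply_eq, htu, map_add, map_smul, hfv, smul_zero, add_zero, add_assoc, add_self_zero,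
      add_zero]
  have hsu : ∀ u, s u = (u + f u • v) + f (g₀⁻¹ (u + f u • v)) • g₀ v := fun u => by
    show g₀ (t (g₀⁻¹ (t⁻¹ u))) = _
    rw [htu, map_add, map_smul, htinv]
    congr 1
    exact g₀.apply_symm_apply _
  have hs1 : s ≠ 1 := fun e => by
    have h1 : s x = x := by rw [e]; rfl
    rw [hsu, hfx, one_smul, add_assoc, add_eq_left] at h1
    rcases zmod_two_cases (f (g₀⁻¹ (x + v))) with e' | e'
    · rw [e', zero_smul, add_zero] at h1
      exact hv0 h1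
    · rw [e', one_smul, ← sub_eq_add_two, sub_eq_zero] at h1
      exact hv h1.symm
  obtain ⟨a₀, ha₀, hsa⟩ : ∃ a₀, a₀ ≠ 0 ∧ s a₀ = a₀ := by
    let Φ : V →ₗ[ZMod 2] ZMod 2 × ZMod 2 := f.prod (f.comp (g₀⁻¹ : V ≃ₗ[ZMod 2] V).toLinearMap)
    have hlt : Module.finrank (ZMod 2) (ZMod 2 × ZMod 2) < Module.finrank (ZMod 2) V := by
      rw [Module.finrank_prod, Module.finrank_self, hk]; omega
    obtain ⟨a, ha, ha0⟩ := Submodule.exists_mem_ne_zero_of_ne_bot (LinearMap.ker_ne_bot_of_finrank_lt (f := Φ) hlt)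
    rw [LinearMap.mem_ker] at ha
    have e1 : f a = 0 := congrArg Prod.fst ha
    have e2 : f (g₀⁻¹ a) = 0 := congrArg Prod.snd ha
    exact ⟨a, ha0, by rw [hsu, e1, zero_smul, add_zero, e2, zero_smul, add_zero]⟩
  by_cases hrange : ∀ u, s u - u ∈ Submodule.span (ZMod 2) {a₀}
  · refine ⟨s, hsK, hs1, ?_⟩
    obtain ⟨φ, hφ, -⟩ := hdual ⊥ a₀ (by simpa using ha₀)
    refine ⟨φ.comp ((s : V →ₗ[ZMod 2] V) - LinearMap.id), a₀, fun u => ?_⟩
    obtain ⟨r, hr⟩ := Submodule.mem_span_singleton.1 (hrange u)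
    have : φ.comp ((s : V →ₗ[ZMod 2] V) - LinearMap.id) u = r := by
      show φ (s u - u) = r
      rw [← hr, map_smul, hφ, smul_eq_mul, mul_one]
    rw [this, hr, add_sub_cancel]
  · push Not at hrange
    obtain ⟨w, hw⟩ := hrange
    obtain ⟨f₀, hf₀, hf₀a⟩ := hdual _ (s w - w) hw
    have hfa : f₀ a₀ = 0 := hf₀a a₀ (Submodule.mem_span_singleton_self a₀)
    set t₀ := LinearEquiv.transvection hfa
    have ht₀u : ∀ u, t₀ u = u + f₀ u • a₀ := fun u => LinearEquiv.transvection.apply hfa u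
    have ht₀inv : ∀ u, t₀⁻¹ u = u + f₀ u • a₀ := fun u => by
      show t₀.symm u = _
      rw [LinearEquiv.symm_apply_eq, ht₀u, map_add, map_smul, hfa, smul_zero, add_zero, add_assoc, add_self_zero,
        add_zero]
    refine ⟨s * t₀ * s⁻¹ * t₀⁻¹, ?_, ?_,
      f₀ + f₀.comp (s⁻¹ : V ≃ₗ[ZMod 2] V).toLinearMap, a₀, fun u => ?_⟩
    · rw [show s * t₀ * s⁻¹ * t₀⁻¹ = s * (t₀ * s⁻¹ * t₀⁻¹) by simp only [mul_assoc]]
      exact mul_mem hsK (hK.conj_mem _ (inv_mem hsK) t₀)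
    rotate_left
    · show s (t₀ (s⁻¹ (t₀⁻¹ u))) = _
      have hsinv : s⁻¹ a₀ = a₀ := (LinearEquiv.symm_apply_eq _).2 hsa.symm
      rw [ht₀inv, ht₀u, map_add s, map_smul s, hsa, map_add (s⁻¹), map_smul (s⁻¹), hsinv, map_add f₀, map_smul f₀,
        hfa, smul_zero, add_zero, map_add s, map_smul s, hsa]
      rw [show s (s⁻¹ u) = u from s.apply_symm_apply u]
      simp only [LinearMap.add_apply, LinearMap.comp_apply, LinearEquiv.coe_coe, add_smul]
      abel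
    · intro e
      have h1 : (s * t₀ * s⁻¹ * t₀⁻¹) (s w) = s w := by rw [e]; rfl
      have h2 : (s * t₀ * s⁻¹ * t₀⁻¹) (s w) = s w + (f₀ (s w) + f₀ w) • a₀ := by
        show s (t₀ (s⁻¹ (t₀⁻¹ (s w)))) = _
        have hsinv : s⁻¹ a₀ = a₀ := (LinearEquiv.symm_apply_eq _).2 hsa.symm
        rw [ht₀inv, ht₀u, map_add (s⁻¹), map_smul (s⁻¹), hsinv, show s⁻¹ (s w) = w from s.symm_apply_apply w,
          map_add f₀, map_smul f₀, hfa, smul_zero, add_zero, map_add s, map_add s, map_smul s, map_smul s, hsa,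
          add_smul]
        abel
      rw [h1, left_eq_add] at h2
      rw [map_sub, sub_eq_add_two] at hf₀
      rw [hf₀, one_smul] at h2
      exact ha₀ h2

end Normal

end Cfsg.Lib.AntiflagTwo
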