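import Mathlib
import Cfsg.Agent.AntiflagTwo.Basic
import Cfsg.Agent.AntiflagTwo.Linear

/-!
Elements of Mersenne prime order are transitive, and the normalisers of the groups they generate are small.
-/

set_option autoImplicit false

namespace Cfsg.Lib.AntiflagTwo

open Module

universe u

variable {V : Type u} [AddCommGroup V] [Module (ZMod 2) V] [Finite V] {n : ℕ}

theorem trans_of_orderOf_eq (hn : finrank (ZMod 2) V = n) (hp : (2 ^ n - 1).Prime)
    {g : V ≃ₗ[ZMod 2] V} (hg : orderOf g = 2 ^ n - 1) {v w : V} (hv : v ≠ 0) (hw : w ≠ 0) :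
    ∃ c ∈ Subgroup.zpowers g, c v = w := by
  haveI := finite_equiv (V := V)
  set C := Subgroup.zpowers g with hC
  have hcard : Nat.card C = 2 ^ n - 1 := by rw [hC, Nat.card_zpowers, hg]
  obtain ⟨u, hu⟩ : ∃ u, g u ≠ u := by
    by_contra h
    push Not at h
    rw [show g = 1 from LinearEquiv.ext h, orderOf_one] at hg
    exact hp.ne_one hg.symm
  have hu0 : u ≠ 0 := fun e => hu (by rw [e, map_zero])
  have hsub : MulAction.orbit C u ⊆ {z : V | z ≠ 0} := by
    rintro _ ⟨c, rfl⟩ e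
    exact hu0 (c.1.map_eq_zero_iff.1 e)
  have hd : Nat.card (MulAction.orbit C u) ∣ 2 ^ n - 1 :=
    hcard ▸ ⟨_, card_group_eq (G := C) u⟩
  rcases (Nat.dvd_prime hp).1 hd with h1 | h1
  · obtain ⟨hsing, -⟩ := Nat.card_eq_one_iff_unique.1 h1
    have := congrArg Subtype.val (Subsingleton.elim (α := MulAction.orbit C u)
      ⟨g u, ⟨⟨g, Subgroup.mem_zpowers g⟩, rfl⟩⟩ ⟨u, MulAction.mem_orbit_self u⟩)
    exact absurd this hu
  · have he : MulAction.orbit C u = {z : V | z ≠ 0} :=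
      Set.eq_of_subset_of_ncard_le hsub (le_of_eq (by
        rw [← Nat.card_coe_set_eq, ← Nat.card_coe_set_eq, h1]
        exact card_nonzero hn)) (Set.toFinite _)
    obtain ⟨a, rfl⟩ : v ∈ MulAction.orbit C u := he ▸ hv
    obtain ⟨c, rfl⟩ : w ∈ MulAction.orbit C u := he ▸ hw
    refine ⟨c.1 * a.1⁻¹, mul_mem c.2 (inv_mem a.2), ?_⟩
    show c.1 (a.1⁻¹ (a.1 u)) = c.1 u
    exact congrArg c.1 (a.1.symm_apply_apply u)

theorem card_dvd_of_normalizes (hn : finrank (ZMod 2) V = n) (hp : (2 ^ n - 1).Prime)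
    {g : V ≃ₗ[ZMod 2] V} (hg : orderOf g = 2 ^ n - 1) {N : Subgroup (V ≃ₗ[ZMod 2] V)} (hgN : g ∈ N)
    (hnorm : ∀ h ∈ N, h * g * h⁻¹ ∈ Subgroup.zpowers g) : Nat.card N ∣ n * (2 ^ n - 1) := by
  refine (card_dvd_of_abelian_transitive (C := Subgroup.zpowers g) hn ?_ (Subgroup.zpowers_le.2 hgN) ?_ ?_
    fun v w hv hw => trans_of_orderOf_eq hn hp hg hv hw).2
  · by_contra h
    obtain rfl : n = 0 := by omega
    exact absurd hp (by norm_num)
  · intro h hh c hc
    obtain ⟨i, rfl⟩ := Subgroup.mem_zpowers_iff.1 hc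
    rw [← conj_zpow]
    exact Subgroup.zpow_mem _ (hnorm h hh) i
  · intro c hc d hd
    obtain ⟨i, rfl⟩ := Subgroup.mem_zpowers_iff.1 hc
    obtain ⟨j, rfl⟩ := Subgroup.mem_zpowers_iff.1 hd
    exact zpow_mul_comm g i j

theorem lt_mersenne {n : ℕ} (hn : 2 ≤ n) : n < 2 ^ n - 1 := by
  induction n, hn using Nat.le_induction with
  | base => norm_num
  | succ n hn ih => rw [pow_succ]; omega

theorem two_le_of_mersenne {n : ℕ} (hp : (2 ^ n - 1).Prime) : 2 ≤ n := by
  by_contra h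
  interval_cases n <;> norm_num at hp

/-- A Sylow subgroup of Mersenne prime order, and its normaliser. -/
theorem card_sylow (hn : finrank (ZMod 2) V = n) {p : ℕ} (hpn : 2 ^ n - 1 = p) [Fact p.Prime]
    (H : Subgroup (V ≃ₗ[ZMod 2] V)) (hdvd : p ∣ Nat.card H) (P : Sylow p H) :
    Nat.card P = p ∧ ∃ e, (e = 1 ∨ e = n) ∧
      Nat.card (Subgroup.normalizer ((P : Subgroup H) : Set H)) = p * e := by
  haveI := finite_equiv (V := V)
  have hp : (2 ^ n - 1).Prime := hpn ▸ Fact.out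
  have hp' : p.Prime := Fact.out
  have hn2 := two_le_of_mersenne hp
  have hnp : n.Prime := Nat.prime_of_pow_sub_one_prime (by omega) hp |>.2
  have hdP : p ∣ Nat.card P := P.dvd_card_of_dvd_card hdvd
  haveI : Nontrivial (P : Subgroup H) := Finite.one_lt_card_iff_nontrivial.1
    (lt_of_lt_of_le hp'.one_lt (Nat.le_of_dvd Nat.card_pos hdP))
  haveI := P.isPGroup'.center_nontrivial
  obtain ⟨z, hz⟩ := exists_prime_orderOf_dvd_card' (G := Subgroup.center (P : Subgroup H)) p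
    ((IsPGroup.iff_card.1 (P.isPGroup'.to_subgroup _)).elim fun k hk => hk ▸ dvd_pow_self p (fun h0 => by
      rw [h0, pow_zero] at hk
      exact absurd hk (ne_of_gt Finite.one_lt_card)))
  set g : V ≃ₗ[ZMod 2] V := ((z.1 : H) : V ≃ₗ[ZMod 2] V) with hgdef
  have hg : orderOf g = p := by
    rw [hgdef, Subgroup.orderOf_coe, Subgroup.orderOf_coe, Subgroup.orderOf_coe, hz]
  set P' := (P : Subgroup H).map H.subtype with hP'
  have hcP : Nat.card P' = Nat.card P := Subgroup.card_subtype H P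
  have hgP : g ∈ P' := ⟨z.1.1, z.1.2, rfl⟩
  have h1 := card_dvd_of_normalizes hn hp (hg.trans hpn.symm) hgP (fun h hh => by
    obtain ⟨h, hh, rfl⟩ := hh
    have hc := Subgroup.mem_center_iff.1 z.2 ⟨h, hh⟩
    have e : H.subtype h * g * (H.subtype h)⁻¹ = g := by
      rw [mul_inv_eq_iff_eq_mul]
      exact congrArg (fun a : (P : Subgroup H) => ((a : H) : V ≃ₗ[ZMod 2] V)) hc
    rw [e]
    exact Subgroup.mem_zpowers g)
  have hPp : Nat.card P = p := by
    rw [hcP, hpn] at h1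
    obtain ⟨k, hk⟩ := IsPGroup.iff_card.1 P.isPGroup'
    have hk0 : 1 ≤ k := by
      by_contra h0
      obtain rfl : k = 0 := by omega
      rw [hk, pow_zero] at hdP
      exact hp'.ne_one (Nat.dvd_one.1 hdP)
    have hk2 : k < 2 := by
      by_contra h2
      have : p ^ 2 ∣ n * p := (pow_dvd_pow p (by omega : 2 ≤ k)).trans (hk ▸ h1)
      rw [pow_two] at this
      exact absurd (Nat.le_of_dvd (by omega) (Nat.dvd_of_mul_dvd_mul_right hp'.pos this))
        (not_le.2 (hpn ▸ lt_mersenne hn2))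
    rw [hk, show k = 1 by omega, pow_one]
  refine ⟨hPp, ?_⟩
  set N := Subgroup.normalizer ((P : Subgroup H) : Set H)
  have hzp : Subgroup.zpowers g = P' := Subgroup.eq_of_le_of_card_ge (Subgroup.zpowers_le.2 hgP)
    (by rw [hcP, hPp, Nat.card_zpowers, hg])
  have hN := card_dvd_of_normalizes hn hp (hg.trans hpn.symm) (N := N.map H.subtype)
    (Subgroup.map_mono Subgroup.le_normalizer hgP) (fun h hh => by
      obtain ⟨h, hh, rfl⟩ := hh
      rw [hzp]
      exact ⟨h * z.1.1 * h⁻¹, (Subgroup.mem_normalizer_iff.1 hh _).1 z.1.2, rfl⟩)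
  rw [Subgroup.card_subtype, hpn] at hN
  obtain ⟨e, he⟩ : p ∣ Nat.card N := hPp ▸ Subgroup.card_dvd_of_le Subgroup.le_normalizer
  refine ⟨e, (Nat.dvd_prime hnp).1 ?_, he⟩
  rw [he, mul_comm n] at hN
  exact Nat.dvd_of_mul_dvd_mul_left hp'.pos hN

end Cfsg.Lib.AntiflagTwo
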