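import Mathlib
import Cfsg.Agent.AntiflagTwo.Basic

/-!
Orbit unions, the lemma of Block on an invariant subspace, and the two-part bookkeeping.
-/

set_option autoImplicit false

namespace Cfsg.Lib.AntiflagTwo

open Module

section Orbits

variable {G : Type*} [Group G] {X : Type*} [MulAction G X]

/-- An invariant set whose orbits all have size divisible by `c` has size divisible by `c`. -/
theorem dvd_of_orbits (T : Subgroup G) (A : Set X) [Finite A]
    (hinv : ∀ g ∈ T, ∀ a ∈ A, g • a ∈ A) (c : ℕ)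
    (h : ∀ a ∈ A, c ∣ Nat.card (MulAction.orbit T a)) : c ∣ Nat.card A := by
  suffices hk : ∀ k, ∀ B : Set X, B.Finite → B ⊆ A → (∀ g ∈ T, ∀ a ∈ B, g • a ∈ B) → B.ncard = k →
      c ∣ k by
    rw [Nat.card_coe_set_eq]
    exact hk _ A (Set.toFinite A) subset_rfl hinv rfl
  intro k
  induction k using Nat.strong_induction_on with
  | _ k ih =>
    intro B hBf hBA hB hk
    rcases B.eq_empty_or_nonempty with rfl | ⟨a, ha⟩
    · rw [← hk, Set.ncard_empty]; exact dvd_zero c
    · have hsub : MulAction.orbit T a ⊆ B := by rintro _ ⟨g, rfl⟩; exact hB g.1 g.2 a ha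
      have hlt : (B \ MulAction.orbit T a).ncard < k := hk ▸ Set.ncard_lt_ncard
        ⟨Set.sdiff_subset, fun hs => (hs ha).2 (MulAction.mem_orbit_self a)⟩ hBf
      have h1 := ih _ hlt (B \ MulAction.orbit T a) (hBf.subset Set.sdiff_subset)
        (Set.sdiff_subset.trans hBA) (fun g hg u hu => ⟨hB g hg u hu.1, fun hgu => hu.2 ?_⟩) rfl
      · rw [← hk, ← Set.ncard_sdiff_add_ncard_of_subset hsub hBf]
        refine dvd_add h1 ?_
        rw [← Nat.card_coe_set_eq]
        exact h a (hBA ha)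
      · exact MulAction.mem_orbit_of_mem_orbit (⟨g⁻¹, T.inv_mem hg⟩ : T) hgu |>
          fun h' => by simpa [Subgroup.smul_def] using h'

variable [Finite G]

/-- Comparing the orbits of two subgroups. -/
theorem orbit_dvd' {T S : Subgroup G} (hle : T ≤ S) (x : X) :
    Nat.card T * Nat.card (MulAction.orbit S x) ∣ Nat.card (MulAction.orbit T x) * Nat.card S := by
  rw [card_group_eq (G := T) x, card_group_eq (G := S) x]
  have h : Nat.card (MulAction.stabilizer T x) ∣ Nat.card (MulAction.stabilizer S x) := by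
    refine Subgroup.card_dvd_of_injective
      (MonoidHom.mk' (fun t : MulAction.stabilizer T x =>
        (⟨⟨(t.1.1 : G), hle t.1.2⟩, t.2⟩ : MulAction.stabilizer S x)) fun _ _ => rfl) ?_
    intro a b h
    exact Subtype.ext (Subtype.ext
      (congrArg (fun z : MulAction.stabilizer S x => ((z.1 : S) : G)) h))
  calc _ = Nat.card (MulAction.orbit T x) * Nat.card (MulAction.orbit S x) *
          Nat.card (MulAction.stabilizer T x) := by ring
    _ ∣ Nat.card (MulAction.orbit T x) * Nat.card (MulAction.orbit S x) *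
          Nat.card (MulAction.stabilizer S x) := Nat.mul_dvd_mul_left _ h
    _ = _ := by ring

theorem card_subgroup_eq (S : Subgroup G) (x : X) :
    Nat.card S = Nat.card (MulAction.orbit S x) *
      Nat.card (S ⊓ MulAction.stabilizer G x : Subgroup G) := by
  rw [card_group_eq (G := S) x]
  congr 1
  refine Nat.card_congr
    ⟨fun s => ⟨s.1.1, s.1.2, s.2⟩, fun g => ⟨⟨g.1, g.2.1⟩, g.2.2⟩, fun _ => rfl, fun _ => rfl⟩

end Orbits

/-- If a power of two divides a product and the second factor has small two-part, it divides the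
first. -/
theorem two_pow_dvd {a c x y : ℕ} (h : 2 ^ (a + c) ∣ x * y) (hy : ¬ 2 ^ (c + 1) ∣ y) :
    2 ^ a ∣ x := by
  have hy0 : y ≠ 0 := fun h0 => hy (h0 ▸ dvd_zero _)
  obtain ⟨e, o, ho, rfl⟩ := Nat.exists_eq_pow_mul_and_not_dvd hy0 2 (by norm_num)
  have he : e ≤ c := by
    by_contra hc
    exact hy (dvd_mul_of_dvd_left (pow_dvd_pow 2 (by omega)) o)
  have hco : Nat.Coprime (2 ^ (a + c)) o :=
    Nat.Coprime.pow_left _ ((Nat.Prime.coprime_iff_not_dvd Nat.prime_two).2 ho)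
  rw [← mul_assoc] at h
  have h' := hco.dvd_of_dvd_mul_right h
  have : 2 ^ (a + c) ∣ x * 2 ^ c := h'.trans (Nat.mul_dvd_mul_left x (pow_dvd_pow 2 he))
  rw [pow_add] at this
  exact Nat.dvd_of_mul_dvd_mul_right (by positivity) this

variable {V : Type*} [AddCommGroup V] [Module (ZMod 2) V]

/-- Restriction to an invariant subspace. -/
def restrictHom (T : Subgroup (V ≃ₗ[ZMod 2] V)) (Y : Submodule (ZMod 2) V)
    (hY : ∀ g ∈ T, ∀ y ∈ Y, g y ∈ Y) : T →* (Y ≃ₗ[ZMod 2] Y) where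
  toFun g :=
    { toFun := fun y => ⟨g.1 y.1, hY g.1 g.2 y.1 y.2⟩
      invFun := fun y => ⟨(g.1)⁻¹ y.1, hY _ (T.inv_mem g.2) y.1 y.2⟩
      map_add' := fun a b => Subtype.ext (map_add g.1 a.1 b.1)
      map_smul' := fun c a => Subtype.ext (map_smul g.1 c a.1)
      left_inv := fun y => Subtype.ext (LinearEquiv.symm_apply_apply g.1 y.1)
      right_inv := fun y => Subtype.ext (LinearEquiv.apply_symm_apply g.1 y.1) }
  map_one' := LinearEquiv.ext fun _ => rfl
  map_mul' _ _ := LinearEquiv.ext fun _ => rfl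

variable [Finite V]

/-- Block's lemma on an invariant subspace. -/
theorem block_sub {ι ι' : Type*} [Finite ι] [Finite ι'] (T : Subgroup (V ≃ₗ[ZMod 2] V))
    (Y : Submodule (ZMod 2) V) (hY : ∀ g ∈ T, ∀ y ∈ Y, g y ∈ Y) (lab : V → ι)
    (hsurj : ∀ i, ∃ y ∈ Y, lab y = i) (hinv : ∀ g ∈ T, ∀ y ∈ Y, lab (g y) = lab y)
    (lab' : Dual (ZMod 2) V → ι')
    (htr : ∀ f f', lab' f = lab' f' → ∃ g ∈ T, ∀ y ∈ Y, (g • f) y = f' y)
    (hle : Nat.card ι' ≤ Nat.card ι) {v w : V} (hv : v ∈ Y) (hw : w ∈ Y) (hvw : lab v = lab w) :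
    ∃ g ∈ T, g v = w := by
  let ext : Dual (ZMod 2) Y → Dual (ZMod 2) V := fun f => (LinearMap.exists_extend f).choose
  have hext : ∀ (f : Dual (ZMod 2) Y) (y : Y), ext f y.1 = f y := fun f y =>
    LinearMap.congr_fun (LinearMap.exists_extend f).choose_spec y
  obtain ⟨_, ⟨g, -, rfl⟩, hg⟩ := block (Subgroup.map (restrictHom T Y hY) ⊤) (fun y => lab y.1)
    (fun i => by obtain ⟨y, hy, hyi⟩ := hsurj i; exact ⟨⟨y, hy⟩, hyi⟩)
    (by rintro _ ⟨g, -, rfl⟩ y; exact hinv g.1 g.2 y.1 y.2) (fun f => lab' (ext f))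
    (fun f f' hff => by
      obtain ⟨g, hg, hgf⟩ := htr _ _ hff
      refine ⟨_, ⟨⟨g, hg⟩, trivial, rfl⟩, LinearMap.ext fun y => ?_⟩
      rw [← hext f' y, ← hgf y.1 y.2, smul_dual_apply, smul_dual_apply]
      exact (hext f _).symm) hle (v := ⟨v, hv⟩) (w := ⟨w, hw⟩) hvw
  exact ⟨g.1, g.2, congrArg Subtype.val hg⟩

end Cfsg.Lib.AntiflagTwo
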