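import Mathlib
import Cfsg.Agent.AntiflagTwo.Cycle
import Cfsg.Agent.AntiflagTwo.Sub

/-!
Without transvections, the stabiliser of a vector acts on the quotient as an antiflag transitive group.
-/

set_option autoImplicit false
set_option linter.unusedSectionVars false

namespace Cfsg.Lib.AntiflagTwo

open Module

universe u

/-- If a group has as many orbits on two sets, and the classes on the first are orbits, then so are the
classes on the second, provided that there are enough of them. -/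
theorem trans_of_orbit_count {G X Y ι ι' : Type*} [Group G] [MulAction G X] [MulAction G Y]
    [Finite ι] [Finite ι'] [Finite X] [Finite Y]
    (heq : Nat.card (Quotient (MulAction.orbitRel G X)) = Nat.card (Quotient (MulAction.orbitRel G Y)))
    (lab : X → ι) (htr : ∀ a b, lab a = lab b → ∃ g : G, g • a = b) (lab' : Y → ι')
    (hsurj : Function.Surjective lab') (hinv : ∀ (g : G) y, lab' (g • y) = lab' y)
    (hle : Nat.card ι ≤ Nat.card ι') {v w : Y} (hvw : lab' v = lab' w) : ∃ g : G, g • v = w := by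
  let φ : Quotient (MulAction.orbitRel G Y) → ι' := Quotient.lift lab' (by
    rintro a b ⟨g, rfl⟩
    exact hinv g b)
  have hφ : Function.Surjective φ := fun i => by
    obtain ⟨a, ha⟩ := hsurj i
    exact ⟨Quotient.mk _ a, ha⟩
  let ψ : Quotient (MulAction.orbitRel G X) → ι := fun c => lab c.out
  have hψ : Function.Injective ψ := fun c c' h => by
    obtain ⟨g, hgc⟩ := htr _ _ h
    rw [← Quotient.out_eq c, ← Quotient.out_eq c']
    exact (Quotient.sound (show MulAction.orbitRel G X c'.out c.out from ⟨g, hgc⟩)).symm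
  have h1 := Nat.card_le_card_of_surjective φ hφ
  have h2 := Nat.card_le_card_of_injective ψ hψ
  have h4 := (hφ.bijective_of_nat_card_le (by omega)).1
    (show φ (Quotient.mk _ v) = φ (Quotient.mk _ w) from hvw)
  obtain ⟨g, hgw⟩ := Quotient.exact h4.symm
  exact ⟨g, hgw⟩

variable {V : Type u} [AddCommGroup V] [Module (ZMod 2) V]

theorem mem_span_two {x v : V} : v ∈ Submodule.span (ZMod 2) {x} ↔ v = 0 ∨ v = x := by
  rw [Submodule.mem_span_singleton]
  constructor
  · rintro ⟨c, rfl⟩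
    rcases zmod_two c with rfl | rfl <;> simp
  · rintro (rfl | rfl)
    · exact ⟨0, zero_smul _ _⟩
    · exact ⟨1, one_smul _ _⟩

theorem exists_dual_eq {x y : V} (hy0 : y ≠ 0) (hyx : y ≠ x) :
    ∃ f : Dual (ZMod 2) V, f x = 0 ∧ f y = 1 := by
  obtain ⟨f, hfy, hf⟩ := exists_dual_of_notMem (Submodule.span (ZMod 2) {x}) (v := y)
    (fun hc => (mem_span_two.1 hc).elim hy0 hyx)
  exact ⟨f, (Submodule.mem_dualAnnihilator f).1 hf x (Submodule.mem_span_singleton_self x), hfy⟩

theorem map_span_fix {g : V ≃ₗ[ZMod 2] V} {x : V} (hx : g x = x) :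
    (Submodule.span (ZMod 2) {x}).map (g : V →ₗ[ZMod 2] V) = Submodule.span (ZMod 2) {x} := by
  rw [Submodule.map_span, Set.image_singleton, LinearEquiv.coe_coe, hx]

/-- The stabiliser of a vector, acting on the quotient by the line of that vector. -/
noncomputable def quotHom (H : Subgroup (V ≃ₗ[ZMod 2] V)) (x : V) :
    ↥(H ⊓ MulAction.stabilizer (V ≃ₗ[ZMod 2] V) x) →*
      ((V ⧸ Submodule.span (ZMod 2) {x}) ≃ₗ[ZMod 2] (V ⧸ Submodule.span (ZMod 2) {x})) where
  toFun g := Submodule.Quotient.equiv _ _ g.1 (map_span_fix g.2.2)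
  map_one' := LinearEquiv.ext fun c => Submodule.Quotient.induction_on _ c fun _ => rfl
  map_mul' _ _ := LinearEquiv.ext fun c => Submodule.Quotient.induction_on _ c fun _ => rfl

theorem quotHom_mk (H : Subgroup (V ≃ₗ[ZMod 2] V)) (x v : V)
    (g : ↥(H ⊓ MulAction.stabilizer (V ≃ₗ[ZMod 2] V) x)) :
    quotHom H x g (Submodule.Quotient.mk v) = Submodule.Quotient.mk (g.1 v) := rfl

variable {H : Subgroup (V ≃ₗ[ZMod 2] V)} {x : V}

theorem quotHom_injective (hT : NoTransvection H) (hx : x ≠ 0) : Function.Injective (quotHom H x) := by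
  rw [injective_iff_map_eq_one]
  intro g hg
  obtain ⟨φ, hφ⟩ := exists_dual hx
  refine Subtype.ext (hT g.1 g.2.1 (φ ∘ₗ ((g.1 : V →ₗ[ZMod 2] V) - LinearMap.id)) x fun v => ?_)
  have h1 := LinearEquiv.congr_fun hg (Submodule.Quotient.mk v)
  rw [quotHom_mk] at h1
  change Submodule.Quotient.mk (g.1 v) = Submodule.Quotient.mk v at h1
  rw [Submodule.Quotient.eq, mem_span_two] at h1
  show g.1 v = v + φ (g.1 v - v) • x
  rcases h1 with h1 | h1
  · rw [h1, map_zero, zero_smul, add_zero, sub_eq_zero.1 h1]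
  · rw [h1, hφ, one_smul, ← sub_add_cancel (g.1 v) v, h1, add_comm]

variable (H) in
/-- The setwise stabiliser of the line through `x` and `y`, fixing `x`. -/
def pairStab (x y : V) : Subgroup (V ≃ₗ[ZMod 2] V) where
  carrier := {g | g ∈ H ∧ g x = x ∧ (g y = y ∨ g y = y + x)}
  one_mem' := ⟨H.one_mem, rfl, Or.inl rfl⟩
  mul_mem' := by
    rintro a c ⟨ha, hax, hay⟩ ⟨hc, hcx, hcy⟩
    refine ⟨H.mul_mem ha hc, show a (c x) = x by rw [hcx, hax], ?_⟩
    show a (c y) = y ∨ a (c y) = y + x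
    rcases hcy with e | e <;> rcases hay with e' | e'
    all_goals simp only [e, e', map_add, hax, add_assoc, add_self', add_zero]
    all_goals simp
  inv_mem' := by
    rintro a ⟨ha, hax, hay⟩
    have hix : a⁻¹ x = x := (LinearEquiv.symm_apply_eq a).2 hax.symm
    refine ⟨H.inv_mem ha, hix, hay.imp (fun e => (LinearEquiv.symm_apply_eq a).2 e.symm) fun e =>
      (LinearEquiv.symm_apply_eq a).2 ?_⟩
    rw [map_add, e, hax, add_assoc, add_self', add_zero]

variable [Finite V] {n : ℕ}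

theorem card_ne_zero_x (hn : finrank (ZMod 2) V = n) (hx : x ≠ 0) :
    Nat.card {v : V | v ≠ 0 ∧ v ≠ x} = 2 ^ n - 2 := by
  have h1 : {v : V | v ≠ 0 ∧ v ≠ x} = ({0, x} : Set V)ᶜ := by ext v; simp
  rw [h1, Nat.card_coe_set_eq, Set.ncard_compl, Set.ncard_pair (Ne.symm hx),
    Module.natCard_eq_pow_finrank (K := ZMod 2), Nat.card_zmod, hn]

theorem card_dual_one (hn : finrank (ZMod 2) V = n) (hx : x ≠ 0) :
    Nat.card {f : Dual (ZMod 2) V | f x = 1} = 2 ^ (n - 1) := by
  have h1 : {f : Dual (ZMod 2) V | f x = 1} =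
      ((Submodule.span (ZMod 2) {x}).dualAnnihilator : Set (Dual (ZMod 2) V))ᶜ := by
    ext f
    simp only [Set.mem_ofPred_eq, Set.mem_compl_iff, SetLike.mem_coe, Submodule.mem_dualAnnihilator,
      mem_span_two, forall_eq_or_imp, forall_eq, map_zero, true_and]
    exact ⟨fun h h' => one_ne_zero (h.symm.trans h'), eq_one_of_ne_zero⟩
  rw [h1, Nat.card_coe_set_eq, Set.ncard_compl, ← Nat.card_coe_set_eq, SetLike.coe_sort_coe,
    card_annihilator', finrank_span_singleton hx, hn, Module.natCard_eq_pow_finrank (K := ZMod 2),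
    Subspace.dual_finrank_eq, hn, Nat.card_zmod]
  have hn1 : 1 ≤ n := hn ▸ Nat.one_le_iff_ne_zero.2 fun h0 => hx (by
    haveI : Module.Finite (ZMod 2) V := Module.Finite.of_finite
    haveI := (Module.finrank_zero_iff (R := ZMod 2)).1 h0
    exact Subsingleton.elim _ _)
  have : 2 ^ n = 2 ^ (n - 1) * 2 := by rw [← pow_succ, Nat.sub_add_cancel hn1]
  omega

variable (hn : finrank (ZMod 2) V = n) (h3 : 3 ≤ n) (h2 : TwoTrans H) (hx : x ≠ 0)
include hn h3 h2 hx

/-- A vector stabiliser is transitive on the functionals not vanishing at that vector. -/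
theorem trans_dual_one {f f' : Dual (ZMod 2) V} (hf : f x = 1) (hf' : f' x = 1) :
    ∃ g ∈ H, g x = x ∧ g • f = f' := by
  classical
  set S := H ⊓ MulAction.stabilizer (V ≃ₗ[ZMod 2] V) x
  obtain ⟨⟨g, hg⟩, hgf⟩ := trans_of_orbit_count (G := S) (card_orbits_eq S)
    (fun v => if v = 0 then (0 : Fin 3) else if v = x then 1 else 2)
    (fun a c hac => by
      by_cases ha : a = 0 <;> by_cases hc : c = 0
      · exact ⟨1, by rw [one_smul, ha, hc]⟩
      · simp only [ha, hc, if_true, if_false] at hac; split_ifs at hac <;> simp at hac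
      · simp only [ha, hc, if_true, if_false] at hac; split_ifs at hac <;> simp at hac
      · by_cases hax : a = x <;> by_cases hcx : c = x
        · exact ⟨1, by rw [one_smul, hax, hcx]⟩
        · simp [hax, hcx, hx, hc] at hac
        · simp [hax, hcx, hx, ha] at hac
        · obtain ⟨h, hh, h1, h1'⟩ := h2 x a x c hx ha (Ne.symm hax) hx hc (Ne.symm hcx)
          exact ⟨⟨h, hh, h1⟩, h1'⟩)
    (fun φ => if φ = 0 then (0 : Fin 3) else if φ x = 0 then 1 else 2)
    (fun i => by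
      obtain ⟨φ, hφ⟩ := exists_dual hx
      fin_cases i
      · exact ⟨0, by simp⟩
      · obtain ⟨y, -, hy⟩ := SetLike.exists_of_lt (lt_top_iff_ne_top.2
          (show Submodule.span (ZMod 2) {x} ≠ ⊤ from fun e => by
            have h1 := finrank_span_singleton (K := ZMod 2) hx
            rw [e, finrank_top, hn] at h1
            omega))
        obtain ⟨ψ, hψx, hψy⟩ := exists_dual_eq (x := x) (y := y)
          (fun e => hy (e ▸ Submodule.zero_mem _)) (fun e => hy (by rw [e]; exact Submodule.mem_span_singleton_self x))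
        refine ⟨ψ, ?_⟩
        have : ψ ≠ 0 := fun e => by simp [e] at hψy
        simp [this, hψx]
      · refine ⟨φ, ?_⟩
        have : φ ≠ 0 := fun e => by simp [e] at hφ
        simp [this, hφ])
    (fun g φ => by
      have h0 : g • φ = 0 ↔ φ = 0 := by
        constructor
        · intro e
          refine LinearMap.ext fun v => ?_
          have := smul_dual_smul g.1 φ v
          rw [show (g.1 • φ) = g • φ from rfl, e] at this
          exact this.symm
        · rintro rfl; exact LinearMap.ext fun v => rfl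
      have hx' : (g • φ) x = φ x := by
        have h1 := smul_dual_smul g.1 φ x
        rwa [show g.1 x = x from g.2.2] at h1
      simp only [h0, hx'])
    le_rfl (v := f) (w := f') (by
      have h1 : f ≠ 0 := fun e => by simp [e] at hf
      have h1' : f' ≠ 0 := fun e => by simp [e] at hf'
      simp [h1, h1', hf, hf'])
  exact ⟨g, hg.1, hg.2, hgf⟩

theorem card_vecStab {y : V} (hy0 : y ≠ 0) (hyx : y ≠ x) :
    Nat.card ↥(H ⊓ MulAction.stabilizer (V ≃ₗ[ZMod 2] V) x) =
      (2 ^ n - 2) * Nat.card (fix2 H x y) := by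
  haveI := finite_equiv (V := V)
  rw [card_subgroup_eq _ y, orbit_eq_of_trans (A := {v : V | v ≠ 0 ∧ v ≠ x}) ⟨hy0, hyx⟩,
    card_ne_zero_x hn hx]
  · rfl
  · rintro g v ⟨hv0, hvx⟩
    exact ⟨fun e => hv0 (g.1.map_eq_zero_iff.1 e),
      fun e => hvx (g.1.injective (e.trans g.2.2.symm))⟩
  · rintro v ⟨hv0, hvx⟩
    obtain ⟨h, hh, h1, h1'⟩ := h2 x y x v hx hy0 (Ne.symm hyx) hx hv0 (Ne.symm hvx)
    exact ⟨⟨h, hh, h1⟩, h1'⟩

theorem card_pairStab {y : V} (hy0 : y ≠ 0) (hyx : y ≠ x) :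
    Nat.card (pairStab H x y) = 2 * Nat.card (fix2 H x y) := by
  haveI := finite_equiv (V := V)
  have hne : y + x ≠ y := fun e => hx (by rwa [add_eq_left] at e)
  rw [card_subgroup_eq _ y, orbit_eq_of_trans (A := ({y, y + x} : Set V)) (Set.mem_insert y _),
    Nat.card_coe_set_eq, Set.ncard_pair hne.symm]
  · have e : pairStab H x y ⊓ MulAction.stabilizer (V ≃ₗ[ZMod 2] V) y = fix2 H x y :=
      le_antisymm (fun g hg => ⟨⟨hg.1.1, hg.1.2.1⟩, hg.2⟩)
        (fun g hg => ⟨⟨hg.1.1, hg.1.2, Or.inl hg.2⟩, hg.2⟩)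
    rw [e]
  · rintro g a (rfl | rfl)
    · exact g.2.2.2
    · show g.1 (y + x) ∈ ({y, y + x} : Set V)
      rw [map_add, g.2.2.1]
      rcases g.2.2.2 with e | e
      · rw [e]; exact Or.inr rfl
      · rw [e, add_assoc, add_self', add_zero]; exact Or.inl rfl
  · rintro a (rfl | rfl)
    · exact ⟨1, one_smul _ _⟩
    · obtain ⟨h, hh, h1, h1'⟩ := h2 x y x (y + x) hx hy0 (Ne.symm hyx) hx
        (fun e => hyx (eq_of_add_eq_zero' e)) (fun e => hy0 (by rwa [right_eq_add] at e))
      exact ⟨⟨h, hh, h1, Or.inr h1'⟩, h1'⟩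

/-- The two-point stabiliser is transitive on the functionals that separate the two points. -/
theorem trans_separating {y : V} (hy0 : y ≠ 0) (hyx : y ≠ x) {f f' : Dual (ZMod 2) V}
    (hf : f x = 1) (hfy : f y = 0) (hf' : f' x = 1) (hfy' : f' y = 0) :
    ∃ g ∈ fix2 H x y, g • f = f' := by
  haveI := finite_equiv (V := V)
  haveI := finite_dual (V := V)
  set S := H ⊓ MulAction.stabilizer (V ≃ₗ[ZMod 2] V) x
  set T := pairStab H x y
  have hTS : T ≤ S := fun g hg => ⟨hg.1, hg.2.1⟩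
  have hdvd := orbit_dvd' hTS f
  have hinv : ∀ g ∈ S, ∀ φ : Dual (ZMod 2) V, φ x = 1 → (g • φ) x = 1 := fun g hg φ hφ => by
    have h1 := smul_dual_smul g φ x
    rw [show g x = x from hg.2] at h1
    rw [h1, hφ]
  have hS : MulAction.orbit S f = {φ : Dual (ZMod 2) V | φ x = 1} :=
    orbit_eq_of_trans hf (fun g a ha => hinv g.1 g.2 a ha) fun a ha => by
      obtain ⟨g, hg, hgx, hga⟩ := trans_dual_one hn h3 h2 hx hf ha
      exact ⟨⟨g, hg, hgx⟩, hga⟩
  rw [hS, card_vecStab hn h3 h2 hx hy0 hyx, card_pairStab hn h3 h2 hx hy0 hyx, card_dual_one hn hx] at hdvd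
  have hodd : 2 ^ n - 2 = 2 * (2 ^ (n - 1) - 1) := by
    have : 2 ^ n = 2 ^ (n - 1) * 2 := by rw [← pow_succ, Nat.sub_add_cancel (by omega : 1 ≤ n)]
    omega
  rw [hodd, show ∀ a c : ℕ, Nat.card (MulAction.orbit T f) * (2 * a * c) =
    2 * c * (Nat.card (MulAction.orbit T f) * a) from fun a c => by ring] at hdvd
  have h1 := Nat.dvd_of_mul_dvd_mul_left (Nat.mul_pos two_pos Nat.card_pos) hdvd
  have hco : Nat.Coprime (2 ^ (n - 1)) (2 ^ (n - 1) - 1) := by
    refine Nat.Coprime.pow_left _ ((Nat.Prime.coprime_iff_not_dvd Nat.prime_two).2 ?_)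
    have : 2 ∣ 2 ^ (n - 1) := dvd_pow_self 2 (by omega)
    have := Nat.one_le_two_pow (n := n - 1)
    omega
  have hT : MulAction.orbit T f = {φ : Dual (ZMod 2) V | φ x = 1} :=
    orbit_eq_of_card (G := T) hf (fun g a ha => hinv g.1 (hTS g.2) a ha)
      (by rw [card_dual_one hn hx]; exact hco.dvd_of_dvd_mul_right h1)
  obtain ⟨⟨g, hg⟩, hgf⟩ : f' ∈ MulAction.orbit T f := hT ▸ hf'
  refine ⟨g, ⟨⟨hg.1, hg.2.1⟩, hg.2.2.resolve_right fun e => ?_⟩, hgf⟩
  have h4 := smul_dual_smul g f y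
  rw [show g • f = f' from hgf, e, map_add, hf', hfy', hfy] at h4
  exact absurd h4 (by decide)

/-- The induced group on the quotient is transitive on antiflags. -/
theorem antiflag (u u' : V ⧸ Submodule.span (ZMod 2) {x})
    (f f' : Dual (ZMod 2) (V ⧸ Submodule.span (ZMod 2) {x})) (hu : f u = 1) (hu' : f' u' = 1) :
    ∃ g ∈ (quotHom H x).range, g u = u' ∧ g • f = f' := by
  obtain ⟨y, rfl⟩ := Submodule.Quotient.mk_surjective _ u
  obtain ⟨y', rfl⟩ := Submodule.Quotient.mk_surjective _ u'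
  have hnz : ∀ (v : V) (φ : Dual (ZMod 2) (V ⧸ Submodule.span (ZMod 2) {x})),
      φ (Submodule.Quotient.mk v) = 1 → v ≠ 0 ∧ v ≠ x := by
    intro v φ hv
    constructor <;> rintro rfl
    · rw [Submodule.Quotient.mk_zero, map_zero] at hv; exact zero_ne_one hv
    · rw [(Submodule.Quotient.mk_eq_zero _).2 (Submodule.mem_span_singleton_self v), map_zero] at hv
      exact zero_ne_one hv
  obtain ⟨hy0, hyx⟩ := hnz y f hu
  obtain ⟨hy0', hyx'⟩ := hnz y' f' hu'
  have hxq : Submodule.Quotient.mk (p := Submodule.span (ZMod 2) {x}) x = 0 :=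
    (Submodule.Quotient.mk_eq_zero _).2 (Submodule.mem_span_singleton_self x)
  set F : Dual (ZMod 2) V := f ∘ₗ (Submodule.span (ZMod 2) {x}).mkQ with hF
  set F' : Dual (ZMod 2) V := f' ∘ₗ (Submodule.span (ZMod 2) {x}).mkQ with hF'
  obtain ⟨h, hh, hhx, hhy⟩ := h2 x y x y' hx hy0 (Ne.symm hyx) hx hy0' (Ne.symm hyx')
  obtain ⟨s, hs, hsx, hsy⟩ := h2 x y' y' x hx hy0' (Ne.symm hyx') hy0' hx hyx'
  -- interchange the two points
  have e1 : (s • (h • F)) x = 1 ∧ (s • (h • F)) y' = 0 := by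
    constructor
    · rw [← hsy, smul_dual_smul, ← hhy, smul_dual_smul]
      exact hu
    · rw [← hsx, smul_dual_smul]
      conv_lhs => rw [← hhx]
      rw [smul_dual_smul]
      show f (Submodule.Quotient.mk x) = 0
      rw [hxq, map_zero]
  have e2 : (s • F') x = 1 ∧ (s • F') y' = 0 := by
    constructor
    · rw [← hsy, smul_dual_smul]
      exact hu'
    · rw [← hsx, smul_dual_smul]
      show f' (Submodule.Quotient.mk x) = 0
      rw [hxq, map_zero]
  obtain ⟨k, hk, hkf⟩ := trans_separating hn h3 h2 hx hy0' hyx' e1.1 e1.2 e2.1 e2.2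
  have hk1 : k x = x := hk.1.2
  have hk2 : k y' = y' := hk.2
  have hgx : (s⁻¹ * k * s * h) x = x := by
    show s⁻¹ (k (s (h x))) = x
    rw [hhx, hsx, hk2]
    exact (LinearEquiv.symm_apply_eq s).2 hsx.symm
  set g : ↥(H ⊓ MulAction.stabilizer (V ≃ₗ[ZMod 2] V) x) :=
    ⟨s⁻¹ * k * s * h, H.mul_mem (H.mul_mem (H.mul_mem (H.inv_mem hs) hk.1.1) hs) hh, hgx⟩ with hg
  refine ⟨quotHom H x g, ⟨g, rfl⟩, ?_, ?_⟩
  · rw [quotHom_mk]
    show Submodule.Quotient.mk (s⁻¹ (k (s (h y)))) = _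
    rw [hhy, hsy, hk1]
    exact congrArg _ ((LinearEquiv.symm_apply_eq s).2 hsy.symm)
  · have hgF : (g.1 : V ≃ₗ[ZMod 2] V) • F = F' := by
      show (s⁻¹ * k * s * h) • F = F'
      rw [mul_smul, mul_smul, mul_smul, hkf, inv_smul_smul]
    refine LinearMap.ext fun c => ?_
    obtain ⟨v, rfl⟩ := Submodule.Quotient.mk_surjective _ c
    have h4 := LinearMap.congr_fun hgF v
    rw [smul_dual_apply]
    exact h4

variable (hT : NoTransvection H)
include hT

theorem card_range : Nat.card (quotHom H x).range =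
    Nat.card ↥(H ⊓ MulAction.stabilizer (V ≃ₗ[ZMod 2] V) x) :=
  (Nat.card_congr (MonoidHom.ofInjective (quotHom_injective hT hx)).toEquiv).symm

theorem card_stab {y : V} (hy0 : y ≠ 0) (hyx : y ≠ x) :
    Nat.card ↥((quotHom H x).range ⊓ MulAction.stabilizer _
      (Submodule.Quotient.mk (p := Submodule.span (ZMod 2) {x}) y)) = 2 * Nat.card (fix2 H x y) := by
  haveI : Finite (V ⧸ Submodule.span (ZMod 2) {x}) :=
    Finite.of_surjective _ (Submodule.mkQ_surjective _)
  haveI := finite_equiv (V := V ⧸ Submodule.span (ZMod 2) {x})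
  have hu : (Submodule.Quotient.mk (p := Submodule.span (ZMod 2) {x}) y) ≠ 0 := fun e =>
    ((mem_span_two.1 ((Submodule.Quotient.mk_eq_zero _).1 e))).elim hy0 hyx
  have hq : finrank (ZMod 2) (V ⧸ Submodule.span (ZMod 2) {x}) = n - 1 := by
    haveI : Module.Finite (ZMod 2) V := Module.Finite.of_finite
    rw [Submodule.finrank_quotient, hn, finrank_span_singleton hx]
  have h1 := card_subgroup_eq (quotHom H x).range (Submodule.Quotient.mk (p := Submodule.span (ZMod 2) {x}) y)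
  rw [orbit_eq_of_trans (A := {c : V ⧸ Submodule.span (ZMod 2) {x} | c ≠ 0}) hu,
    card_range hn h3 h2 hx hT, card_vecStab hn h3 h2 hx hy0 hyx] at h1
  · rw [show Nat.card {c : V ⧸ Submodule.span (ZMod 2) {x} | c ≠ 0} = 2 ^ (n - 1) - 1 from
      card_nonzero hq] at h1
    have hodd : 2 ^ n - 2 = (2 ^ (n - 1) - 1) * 2 := by
      have : 2 ^ n = 2 ^ (n - 1) * 2 := by rw [← pow_succ, Nat.sub_add_cancel (by omega : 1 ≤ n)]
      omega
    rw [hodd, mul_assoc] at h1
    refine (Nat.eq_of_mul_eq_mul_left ?_ h1).symm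
    have : 2 ≤ 2 ^ (n - 1) := by
      calc 2 = 2 ^ 1 := (pow_one 2).symm
        _ ≤ _ := Nat.pow_le_pow_right two_pos (by omega)
    omega
  · exact fun g c hc e => hc (g.1.map_eq_zero_iff.1 e)
  · intro c hc
    obtain ⟨f, hf⟩ := exists_dual hu
    obtain ⟨f', hf'⟩ := exists_dual (show c ≠ 0 from hc)
    obtain ⟨g, hg, hgu, -⟩ := antiflag hn h3 h2 hx _ _ f f' hf hf'
    exact ⟨⟨g, hg⟩, hgu⟩

theorem two_pow_dvd_card : 2 ^ (n - 1) ∣ Nat.card (quotHom H x).range := by
  haveI := finite_equiv (V := V)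
  haveI := finite_dual (V := V)
  obtain ⟨f, hf⟩ := exists_dual hx
  rw [card_range hn h3 h2 hx hT, card_subgroup_eq _ f, orbit_eq_of_trans
    (A := {φ : Dual (ZMod 2) V | φ x = 1}) hf, card_dual_one hn hx]
  · exact Dvd.intro _ rfl
  · intro g a ha
    have h1 := smul_dual_smul g.1 a x
    rw [show g.1 x = x from g.2.2] at h1
    exact h1.trans ha
  · intro a ha
    obtain ⟨g, hg, hgx, hga⟩ := trans_dual_one hn h3 h2 hx hf ha
    exact ⟨⟨g, hg, hgx⟩, hga⟩

omit hT

theorem card_fix2_mod (hp : (2 ^ n - 1).Prime) {y : V} (hy0 : y ≠ 0) (hyx : y ≠ x) :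
    ∃ e, (e = 1 ∨ e = n) ∧ (2 ^ n - 1) ∣ Nat.card (fix2 H x y) + e := by
  haveI := finite_equiv (V := V)
  obtain ⟨p, hpn⟩ : ∃ p, 2 ^ n - 1 = p := ⟨_, rfl⟩
  haveI : Fact p.Prime := ⟨hpn ▸ hp⟩
  have hH : Nat.card H = p * ((2 ^ n - 2) * Nat.card (fix2 H x y)) := by
    rw [card_subgroup_eq H x, card_vecStab hn h3 h2 hx hy0 hyx,
      orbit_eq_of_trans (A := {v : V | v ≠ 0}) hx, ← hpn,
      show Nat.card {v : V | v ≠ 0} = 2 ^ n - 1 from card_nonzero hn]
    · exact fun g a ha e => ha (g.1.map_eq_zero_iff.1 e)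
    · intro a ha
      by_cases hax : a = x
      · exact ⟨1, by rw [one_smul, hax]⟩
      · obtain ⟨h, hh, h1, -⟩ := h2 x a a x hx ha (Ne.symm hax) ha hx hax
        exact ⟨⟨h, hh⟩, h1⟩
  obtain ⟨P⟩ : Nonempty (Sylow p H) := inferInstance
  obtain ⟨-, e, he, hN⟩ := card_sylow hn hpn H (hH ▸ Dvd.intro _ rfl) P
  refine ⟨e, he, ?_⟩
  have h4 := (Subgroup.normalizer ((P : Subgroup H) : Set H)).card_mul_index
  rw [hN, hH, mul_assoc, show (Subgroup.normalizer ((P : Subgroup H) : Set H)).index = Nat.card (Sylow p H) from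
    P.card_eq_index_normalizer.symm] at h4
  have h5 := Nat.eq_of_mul_eq_mul_left (hpn ▸ hp).pos h4
  have h6 : (Nat.card (Sylow p H) : ZMod p) = 1 := by
    have := (ZMod.natCast_eq_natCast_iff' _ 1 p).2 (card_sylow_modEq_one p H)
    simpa using this
  have h7 := congrArg (fun a : ℕ => (a : ZMod p)) h5
  simp only [Nat.cast_mul, h6, mul_one] at h7
  have h8 : ((2 ^ n - 2 : ℕ) : ZMod p) = -1 := by
    have : 2 ≤ 2 ^ n := by
      calc 2 = 2 ^ 1 := (pow_one 2).symm
        _ ≤ _ := Nat.pow_le_pow_right two_pos (by omega)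
    rw [eq_neg_iff_add_eq_zero, ← Nat.cast_one, ← Nat.cast_add,
      show 2 ^ n - 2 + 1 = p by omega, ZMod.natCast_self]
  rw [hpn, ← ZMod.natCast_eq_zero_iff, Nat.cast_add, h7, h8]
  ring

end Cfsg.Lib.AntiflagTwo
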