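import Mathlib

/-!
The arithmetic of the endgame: dimensions of fixed spaces.
-/

set_option autoImplicit false

namespace Cfsg.Lib.AntiflagTwo

/-- The shapes of a component. -/
def Shape (D e N : ℕ) : Prop :=
  (D = e ∨ (D + 1 = e ∧ 4 ≤ e) ∨ (D = 3 ∧ (e = 6 ∨ e = 8))) ∧ (N = e ∨ N = 2 * e)

/-- The parameters that are excluded by congruences. -/
def Exceptional (b D e N : ℕ) : Prop :=
  (b = 3 ∧ D = 3 ∧ e = 4 ∧ N = 4) ∨ (b = 3 ∧ D = 3 ∧ e = 3 ∧ N = 6) ∨
  (b = 3 ∧ D = 3 ∧ e = 6 ∧ N = 6) ∨ (b = 2 ∧ D = 4 ∧ e = 4 ∧ N = 8) ∨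
  (b = 1 ∧ D = 7 ∧ e = 8 ∧ N = 16) ∨ (b = 1 ∧ D = 3 ∧ e = 6 ∧ N = 12) ∨
  (b = 1 ∧ D = 3 ∧ e = 8 ∧ N = 16)

theorem not_mersenne_eleven : ¬ (2 ^ 11 - 1).Prime :=
  Nat.not_prime_of_dvd_of_lt (m := 23) (by norm_num) (by norm_num) (by norm_num)

theorem not_mersenne_thirty_seven : ¬ (2 ^ 37 - 1).Prime :=
  Nat.not_prime_of_dvd_of_lt (m := 223) (by norm_num) (by norm_num) (by norm_num)

variable {n b D e N : ℕ} (hn : n = b * N + 1) (hb : 0 < b) (hD : 3 ≤ D) (hs : Shape D e N)
  (hpn : n.Prime) (hp : (2 ^ n - 1).Prime) (hx : ¬ Exceptional b D e N)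

include hn hb hD hs hpn hp hx

theorem not_six : b * (D - 1) ≠ 6 := by
  intro h6
  obtain ⟨hs1, hs2⟩ := hs
  have hb6 : b ≤ 3 := by
    by_contra hc
    have := Nat.mul_le_mul (Nat.not_le.1 hc) (show 2 ≤ D - 1 by omega)
    omega
  interval_cases b
  · obtain rfl : D = 7 := by omega
    obtain rfl | rfl | rfl | rfl : N = 7 ∨ N = 8 ∨ N = 14 ∨ N = 16 := by omega
    all_goals subst hn
    all_goals first | exact hx (by unfold Exceptional; omega) | omega | norm_num at hpn
  · obtain rfl : D = 4 := by omega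
    obtain rfl | rfl | rfl | rfl : N = 4 ∨ N = 5 ∨ N = 8 ∨ N = 10 := by omega
    all_goals subst hn
    all_goals first | exact hx (by unfold Exceptional; omega) | omega | exact not_mersenne_eleven hp | norm_num at hpn
  · obtain rfl : D = 3 := by omega
    obtain rfl | rfl | rfl | rfl | rfl | rfl : N = 3 ∨ N = 4 ∨ N = 6 ∨ N = 8 ∨ N = 12 ∨ N = 16 := by
      omega
    all_goals subst hn
    all_goals first | exact hx (by unfold Exceptional; omega) | omega | exact not_mersenne_thirty_seven hp | norm_num at hpn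

/-- The consequences for the fixed space. -/
theorem fixed_dim {k j : ℕ} (hkj : n = k + j * (b * (D - 1))) (hj : 0 < j) (hk : 2 ≤ k) :
    j < k ∧ (k = 6 → j < 3) ∧ b ∣ k - 1 ∧ b < k ∧
      (b = 1 → 4 ≤ k → k ≠ 5 → N = 2 * e ∧ e < k ∧ k ≠ 6) := by
  obtain ⟨hs1, hs2⟩ := hs
  have hlt : j * (D - 1) < N := by
    by_contra hc
    have := Nat.mul_le_mul_left b (Nat.not_lt.1 hc)
    rw [Nat.mul_left_comm] at hkj
    omega
  obtain ⟨t, ht⟩ : ∃ t, N = j * (D - 1) + t := ⟨N - j * (D - 1), by omega⟩
  have hkt : k = b * t + 1 := by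
    rw [hn, ht, Nat.mul_add, Nat.mul_left_comm] at hkj
    omega
  have ht1 : 1 ≤ t := by omega
  have hbk : b ≤ b * t := Nat.le_mul_of_pos_right b ht1
  have htk : t ≤ b * t := Nat.le_mul_of_pos_left t hb
  have main : j < k ∧ (k = 6 → j < 3) ∧
      (b = 1 → 4 ≤ k → k ≠ 5 → N = 2 * e ∧ e < k ∧ k ≠ 6) := by
    rcases hs1 with rfl | ⟨hDe, he4⟩ | ⟨rfl, he⟩
    · -- the distinguished subspace is the component
      have hj2 : j ≤ 2 := by
        by_contra hc
        have := Nat.mul_le_mul_right (D - 1) (Nat.not_le.1 hc)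
        omega
      refine ⟨by interval_cases j <;> omega, fun _ => by omega, fun hb1 hk4 hk5 => ?_⟩
      subst hb1
      interval_cases j
      · refine ⟨by omega, by omega, fun h6 => ?_⟩
        obtain rfl : D = 4 := by omega
        obtain rfl : N = 8 := by omega
        subst hn
        norm_num at hpn
      · exfalso; omega
    · -- polar
      have hj3 : j ≤ 3 := by
        by_contra hc
        have := Nat.mul_le_mul_right (D - 1) (Nat.not_le.1 hc)
        omega
      refine ⟨?_, ?_, ?_⟩
      · interval_cases j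
        · omega
        · omega
        · by_contra hc
          have hb2 : b ≤ 2 := by omega
          interval_cases b
          · obtain ⟨rfl, rfl⟩ | ⟨rfl, rfl⟩ : (D = 3 ∧ N = 8) ∨ (D = 4 ∧ N = 10) := by omega
            all_goals subst hn
            all_goals first | exact not_mersenne_eleven hp | norm_num at hpn
          · obtain ⟨rfl, rfl⟩ : D = 4 ∧ N = 10 := by omega
            subst hn
            norm_num at hpn
      · intro h6
        by_contra hc
        obtain rfl : j = 3 := by omega
        obtain ⟨rfl, rfl⟩ | ⟨rfl, rfl⟩ : (t = 1 ∧ D = 4) ∨ (t = 2 ∧ D = 3) := by omega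
        · obtain rfl : b = 5 := by omega
          obtain rfl : N = 10 := by omega
          subst hn
          norm_num at hpn
        · omega
      · intro hb1 hk4 hk5
        subst hb1
        interval_cases j
        · exact ⟨by omega, by omega, by omega⟩
        · exfalso; omega
        · exfalso; omega
    · -- polygons
      obtain ⟨s, rfl⟩ : ∃ s, t = 2 * s := ⟨t / 2, by omega⟩
      have hbs : 2 * b ≤ b * (2 * s) := by
        have := Nat.le_mul_of_pos_right b (show 0 < s by omega)
        rw [Nat.mul_left_comm]; omega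
      refine ⟨?_, ?_, ?_⟩
      · by_contra hc
        have hb3 : b ≤ 3 := by omega
        obtain rfl | rfl | rfl | rfl : N = 6 ∨ N = 8 ∨ N = 12 ∨ N = 16 := by omega
        all_goals interval_cases b
        all_goals first
          | omega
          | exact hx (by unfold Exceptional; omega)
          | (subst hn; first | exact not_mersenne_thirty_seven hp | norm_num at hpn)
      · intro h6
        rw [Nat.mul_left_comm] at hkt
        omega
      · intro hb1 hk4 hk5
        subst hb1
        exfalso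
        by_cases hN : N = 12 ∨ N = 16
        · exact hx (by unfold Exceptional; omega)
        obtain rfl | rfl : N = 6 ∨ N = 8 := by omega
        · omega
        · subst hn
          norm_num at hpn
  exact ⟨main.1, main.2.1, ⟨t, by omega⟩, by omega, main.2.2⟩

end Cfsg.Lib.AntiflagTwo
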