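import Mathlib
import Cfsg.Agent.AntiflagTwo.Sub

/-!
Antiflag transitive semilinear groups over a finite field of characteristic two: lines, annihilators
and their stabilisers.
-/

set_option autoImplicit false
set_option linter.unusedSectionVars false

namespace Cfsg.Lib.AntiflagTwo

open Module Pointwise

variable (F : Type*) [Field F] [Finite F] {U : Type*} [AddCommGroup U] [Module (ZMod 2) U]
  [Module F U] [Finite U]

/-- A group of semilinear maps, containing the scalars and transitive on antiflags. -/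
structure Setting (G : Subgroup (U ≃ₗ[ZMod 2] U)) : Prop where
  semi : ∀ g ∈ G, ∀ c : F, ∃ c' : F, ∀ u : U, g (c • u) = c' • g u
  scal : ∀ c : F, c ≠ 0 → ∃ g ∈ G, ∀ u : U, g u = c • u
  anti : ∀ (u u' : U) (f f' : Dual (ZMod 2) U), f u = 1 → f' u' = 1 →
    ∃ g ∈ G, g u = u' ∧ g • f = f'
  ne : ∃ u : U, u ≠ 0

variable {F}

/-- A subspace over the field, seen over the prime field. -/
def two (X : Submodule F U) : Submodule (ZMod 2) U :=
  AddSubgroup.toZModSubmodule 2 X.toAddSubgroup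

theorem mem_two {X : Submodule F U} {u : U} : u ∈ two X ↔ u ∈ X := Iff.rfl

/-- The functionals over the prime field that vanish on a subspace over the field. -/
def ann (X : Submodule F U) : Submodule (ZMod 2) (Dual (ZMod 2) U) := (two X).dualAnnihilator

theorem mem_ann {X : Submodule F U} {f : Dual (ZMod 2) U} : f ∈ ann X ↔ ∀ u ∈ X, f u = 0 :=
  Submodule.mem_dualAnnihilator f

theorem exists_ann {X : Submodule F U} {u : U} (hu : u ∉ X) : ∃ f ∈ ann X, f u = 1 := by
  obtain ⟨f, h1, h2⟩ := exists_dual_of_notMem (two X) hu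
  exact ⟨f, h2, h1⟩

theorem ann_le_iff {X Y : Submodule F U} : ann Y ≤ ann X ↔ X ≤ Y := by
  refine ⟨fun h u hu => ?_, fun h f hf => mem_ann.2 fun u hu => mem_ann.1 hf u (h hu)⟩
  by_contra hc
  obtain ⟨f, hf, hfu⟩ := exists_ann hc
  rw [mem_ann.1 (h hf) u hu] at hfu
  exact zero_ne_one hfu

theorem ann_inj {X Y : Submodule F U} (h : ann X = ann Y) : X = Y :=
  le_antisymm (ann_le_iff.1 h.ge) (ann_le_iff.1 h.le)

theorem exists_not_ann {X Y : Submodule F U} (h : X < Y) : ∃ f ∈ ann X, f ∉ ann Y := by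
  obtain ⟨u, huY, huX⟩ := Set.exists_of_ssubset h
  obtain ⟨f, hf, hfu⟩ := exists_ann huX
  exact ⟨f, hf, fun hc => zero_ne_one ((mem_ann.1 hc u huY).symm.trans hfu)⟩

theorem mem_ann_sup {X Y : Submodule F U} {f : Dual (ZMod 2) U} :
    f ∈ ann (X ⊔ Y) ↔ f ∈ ann X ∧ f ∈ ann Y := by
  refine ⟨fun h => ⟨ann_le_iff.2 le_sup_left h, ann_le_iff.2 le_sup_right h⟩, fun h => mem_ann.2 ?_⟩
  intro u hu
  obtain ⟨a, ha, c, hc, rfl⟩ := Submodule.mem_sup.1 hu
  rw [map_add, mem_ann.1 h.1 a ha, mem_ann.1 h.2 c hc, add_zero]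

variable (F) in
/-- The degree of the field over the prime field. -/
noncomputable def deg : ℕ := Nat.log 2 (Nat.card F)

variable {G : Subgroup (U ≃ₗ[ZMod 2] U)} (h : Setting F G)

include h

theorem char_two : CharP F 2 := by
  obtain ⟨u, hu⟩ := h.ne
  have h2 : (2 : F) • u = 0 := by rw [two_smul F u, add_self']
  exact CharTwo.of_one_ne_zero_of_two_eq_zero one_ne_zero ((smul_eq_zero.1 h2).resolve_right hu)

theorem card_F : Nat.card F = 2 ^ deg F ∧ 0 < deg F := by
  haveI := char_two h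
  haveI := Fintype.ofFinite F
  obtain ⟨n, -, hn⟩ := FiniteField.card F 2
  have : deg F = n := by
    rw [deg, Nat.card_eq_fintype_card, hn, Nat.log_pow one_lt_two]
  rw [this, Nat.card_eq_fintype_card, hn]
  exact ⟨rfl, n.pos⟩

theorem card_sub (X : Submodule F U) : Nat.card X = 2 ^ (deg F * finrank F X) := by
  rw [Module.natCard_eq_pow_finrank (K := F), (card_F h).1, ← pow_mul]

theorem finrank_two (X : Submodule F U) : finrank (ZMod 2) (two X) = deg F * finrank F X := by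
  have h1 := card_eq_two_pow (two X)
  rw [show Nat.card (two X) = Nat.card X from rfl, card_sub h] at h1
  exact (Nat.pow_right_injective le_rfl h1).symm

theorem finrank_prime : finrank (ZMod 2) U = deg F * finrank F U := by
  have h1 : Nat.card U = 2 ^ (deg F * finrank F U) := by
    rw [Module.natCard_eq_pow_finrank (K := F), (card_F h).1, ← pow_mul]
  rw [Module.natCard_eq_pow_finrank (K := ZMod 2), Nat.card_zmod] at h1
  exact Nat.pow_right_injective le_rfl h1

theorem card_ann (X : Submodule F U) :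
    Nat.card (ann X) = 2 ^ (deg F * (finrank F U - finrank F X)) := by
  rw [ann, card_annihilator', finrank_two h, finrank_prime h, Nat.mul_sub]


theorem semi_inv {g : U ≃ₗ[ZMod 2] U} (hg : g ∈ G) (c : F) : ∃ c' : F, ∀ u, c • g u = g (c' • u) := by
  obtain ⟨c', hc'⟩ := h.semi g⁻¹ (G.inv_mem hg) c
  refine ⟨c', fun u => g.symm.injective ?_⟩
  rw [LinearEquiv.symm_apply_apply, ← LinearEquiv.coe_inv, hc', LinearEquiv.coe_inv,
    LinearEquiv.symm_apply_apply]

/-- The image of a subspace. -/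
def img {g : U ≃ₗ[ZMod 2] U} (hg : g ∈ G) (X : Submodule F U) : Submodule F U where
  carrier := g '' X
  add_mem' := by
    rintro _ _ ⟨a, ha, rfl⟩ ⟨c, hc, rfl⟩
    exact ⟨a + c, X.add_mem ha hc, map_add g a c⟩
  zero_mem' := ⟨0, X.zero_mem, map_zero g⟩
  smul_mem' c u := by
    rintro ⟨a, ha, rfl⟩
    obtain ⟨c', hc'⟩ := semi_inv h hg c
    exact ⟨c' • a, X.smul_mem c' ha, (hc' a).symm⟩


theorem apply_mem_img {g : U ≃ₗ[ZMod 2] U} (hg : g ∈ G) {X : Submodule F U} {u : U} :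
    g u ∈ img h hg X ↔ u ∈ X :=
  g.injective.mem_set_image


theorem mem_img {g : U ≃ₗ[ZMod 2] U} (hg : g ∈ G) {X : Submodule F U} {u : U} :
    u ∈ img h hg X ↔ g.symm u ∈ X := by
  conv_lhs => rw [← g.apply_symm_apply u]
  exact apply_mem_img h hg


theorem smul_mem_ann {g : U ≃ₗ[ZMod 2] U} (hg : g ∈ G) {X : Submodule F U}
    {f : Dual (ZMod 2) U} : g • f ∈ ann (img h hg X) ↔ f ∈ ann X := by
  rw [mem_ann, mem_ann]
  refine ⟨fun hf u hu => ?_, fun hf u hu => ?_⟩
  · rw [← smul_dual_smul g f u]; exact hf _ ((apply_mem_img h hg).2 hu)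
  · rw [smul_dual_apply]; exact hf _ ((mem_img h hg).1 hu)

theorem finrank_img {g : U ≃ₗ[ZMod 2] U} (hg : g ∈ G) (X : Submodule F U) :
    finrank F (img h hg X) = finrank F X := by
  have h1 : Nat.card (img h hg X) = Nat.card X :=
    (Nat.card_congr (Equiv.Set.image g (X : Set U) g.injective)).symm
  rw [card_sub h, card_sub h] at h1
  exact Nat.eq_of_mul_eq_mul_left (card_F h).2 (Nat.pow_right_injective le_rfl h1)


theorem apply_mem_span {g : U ≃ₗ[ZMod 2] U} (hg : g ∈ G) {u y : U} :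
    g u ∈ Submodule.span F {g y} ↔ u ∈ Submodule.span F {y} := by
  simp only [Submodule.mem_span_singleton]
  constructor
  · rintro ⟨c, hc⟩
    obtain ⟨c', hc'⟩ := semi_inv h hg c
    exact ⟨c', g.injective ((hc' y).symm.trans hc)⟩
  · rintro ⟨c, rfl⟩
    obtain ⟨c', hc'⟩ := h.semi g hg c
    exact ⟨c', (hc' y).symm⟩


theorem img_span {g : U ≃ₗ[ZMod 2] U} (hg : g ∈ G) (y : U) :
    img h hg (Submodule.span F {y}) = Submodule.span F {g y} := by
  ext u
  rw [mem_img, ← apply_mem_span h hg, LinearEquiv.apply_symm_apply]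

omit h

variable (F G) in
/-- The stabiliser of the line through a vector. -/
def lineStab (y : U) : Subgroup (U ≃ₗ[ZMod 2] U) :=
  G ⊓ MulAction.stabilizer _ ((Submodule.span F {y} : Submodule F U) : Set U)

variable (F G) in
/-- The scalars of the group. -/
def scalars : Subgroup (U ≃ₗ[ZMod 2] U) where
  carrier := {g | g ∈ G ∧ ∃ c : F, c ≠ 0 ∧ ∀ u, g u = c • u}
  one_mem' := ⟨G.one_mem, 1, one_ne_zero, fun u => (one_smul F u).symm⟩
  mul_mem' := by
    rintro g g' ⟨hg, c, hc, hgc⟩ ⟨hg', c', hc', hgc'⟩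
    exact ⟨G.mul_mem hg hg', c * c', mul_ne_zero hc hc', fun u => by
      rw [LinearEquiv.mul_apply, hgc', hgc, mul_smul]⟩
  inv_mem' := by
    rintro g ⟨hg, c, hc, hgc⟩
    refine ⟨G.inv_mem hg, c⁻¹, inv_ne_zero hc, fun u => g.injective ?_⟩
    rw [hgc, hgc, smul_smul, mul_inv_cancel₀ hc, one_smul, ← hgc, LinearEquiv.coe_inv,
      LinearEquiv.apply_symm_apply]


theorem scalars_le : scalars F G ≤ G := fun _ hg => hg.1


theorem scalar_apply_mem {g : U ≃ₗ[ZMod 2] U} (hg : g ∈ scalars F G) {X : Submodule F U} {u : U}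
    (hu : u ∈ X) : g u ∈ X := by
  obtain ⟨-, c, -, hgc⟩ := hg
  rw [hgc]; exact X.smul_mem c hu

include h


theorem mem_lineStab {g : U ≃ₗ[ZMod 2] U} {y : U} (hy : y ≠ 0) :
    g ∈ lineStab F G y ↔ g ∈ G ∧ g y ∈ Submodule.span F {y} := by
  rw [lineStab, Subgroup.mem_inf, MulAction.mem_stabilizer_iff]
  refine and_congr_right fun hg => ?_
  constructor
  · intro hs
    rw [← SetLike.mem_coe, ← hs]
    exact Set.smul_mem_smul_set (Submodule.mem_span_singleton_self y)
  · intro hgy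
    have he : Submodule.span F {g y} = Submodule.span F {y} := by
      obtain ⟨c, hc⟩ := Submodule.mem_span_singleton.1 hgy
      have hc0 : c ≠ 0 := by
        rintro rfl; rw [zero_smul] at hc; exact hy (g.map_eq_zero_iff.1 hc.symm)
      rw [← hc, Submodule.span_singleton_smul_eq hc0.isUnit]
    have h1 := congrArg (fun X : Submodule F U => (X : Set U)) ((img_span h hg y).trans he)
    exact h1


theorem lineStab_le (y : U) : lineStab F G y ≤ G := inf_le_left


theorem scalars_le_lineStab {y : U} (hy : y ≠ 0) : scalars F G ≤ lineStab F G y := fun g hg =>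
  (mem_lineStab h hy).2 ⟨scalars_le hg, scalar_apply_mem hg (Submodule.mem_span_singleton_self y)⟩


theorem lineStab_apply_mem {g : U ≃ₗ[ZMod 2] U} {y u : U} (hy : y ≠ 0) (hg : g ∈ lineStab F G y)
    (hu : u ∈ Submodule.span F {y}) : g u ∈ Submodule.span F {y} := by
  obtain ⟨hgG, hgy⟩ := (mem_lineStab h hy).1 hg
  exact Submodule.span_le.2 (Set.singleton_subset_iff.2 hgy) ((apply_mem_span h hgG).2 hu)


theorem lineStab_smul {y : U} {c : F} (hc : c ≠ 0) : lineStab F G (c • y) = lineStab F G y := by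
  rw [lineStab, lineStab, Submodule.span_singleton_smul_eq hc.isUnit]

/-- Transitivity on non-zero vectors. -/
theorem trans_vec {u u' : U} (hu : u ≠ 0) (hu' : u' ≠ 0) : ∃ g ∈ G, g u = u' := by
  obtain ⟨f, hf⟩ := exists_dual hu
  obtain ⟨f', hf'⟩ := exists_dual hu'
  obtain ⟨g, hg, hgu, -⟩ := h.anti u u' f f' hf hf'
  exact ⟨g, hg, hgu⟩

theorem trans_dual {f f' : Dual (ZMod 2) U} (hf : f ≠ 0) (hf' : f' ≠ 0) : ∃ g ∈ G, g • f = f' := by
  obtain ⟨u, hu⟩ : ∃ u, f u = 1 := by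
    by_contra hc; push Not at hc
    exact hf (LinearMap.ext fun u => (zmod_two (f u)).resolve_right (hc u))
  obtain ⟨u', hu'⟩ : ∃ u, f' u = 1 := by
    by_contra hc; push Not at hc
    exact hf' (LinearMap.ext fun u => (zmod_two (f' u)).resolve_right (hc u))
  obtain ⟨g, hg, -, hgf⟩ := h.anti u u' f f' hu hu'
  exact ⟨g, hg, hgf⟩

/-- The stabiliser of a line is transitive on the functionals not vanishing on it. -/
theorem trans_not_ann {y : U} {f f' : Dual (ZMod 2) U} (hy : y ≠ 0)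
    (hf : f ∉ ann (Submodule.span F {y})) (hf' : f' ∉ ann (Submodule.span F {y})) :
    ∃ g ∈ lineStab F G y, g • f = f' := by
  rw [mem_ann] at hf hf'
  push Not at hf hf'
  obtain ⟨u, hu, hfu⟩ := hf
  obtain ⟨u', hu', hfu'⟩ := hf'
  obtain ⟨g, hg, hgu, hgf⟩ := h.anti u u' f f' (eq_one_of_ne_zero hfu) (eq_one_of_ne_zero hfu')
  obtain ⟨c, rfl⟩ := Submodule.mem_span_singleton.1 hu
  refine ⟨g, ?_, hgf⟩
  have hc0 : c ≠ 0 := by rintro rfl; rw [zero_smul, map_zero] at hfu; exact hfu rfl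
  rw [← lineStab_smul h hc0, mem_lineStab h (smul_ne_zero hc0 hy), hgu,
    Submodule.span_singleton_smul_eq hc0.isUnit]
  exact ⟨hg, hu'⟩

theorem card_lineStab {y z : U} (hy : y ≠ 0) (hz : z ≠ 0) :
    Nat.card (lineStab F G y) = Nat.card (lineStab F G z) := by
  obtain ⟨g, hg, rfl⟩ := trans_vec h hy hz
  refine Nat.card_congr ((MulAut.conj g).toEquiv.subtypeEquiv fun a => ?_)
  show a ∈ lineStab F G y ↔ g * a * g⁻¹ ∈ lineStab F G (g y)
  have hmem : g * a * g⁻¹ ∈ G ↔ a ∈ G := by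
    rw [G.mul_mem_cancel_right (G.inv_mem hg), G.mul_mem_cancel_left hg]
  rw [mem_lineStab h hy, mem_lineStab h hz, hmem, LinearEquiv.mul_apply, LinearEquiv.mul_apply,
    LinearEquiv.coe_inv, LinearEquiv.symm_apply_apply, apply_mem_span h hg]

/-- The scalar orbits of functionals are regular. -/
theorem card_orbit_scalars {f : Dual (ZMod 2) U} (hf : f ≠ 0) :
    Nat.card (MulAction.orbit (scalars F G) f) = Nat.card F - 1 := by
  classical
  haveI := Fintype.ofFinite F
  rw [← Nat.card_units F]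
  have hex : ∀ c : Fˣ, ∃ g : scalars F G, ∀ u, g.1 u = (c : F) • u := fun c => by
    obtain ⟨g, hg, hgc⟩ := h.scal c c.ne_zero
    exact ⟨⟨g, hg, c, c.ne_zero, hgc⟩, hgc⟩
  refine (Nat.card_eq_of_bijective (fun c : Fˣ =>
    (⟨(hex c).choose • f, MulAction.mem_orbit f _⟩ : MulAction.orbit (scalars F G) f)) ⟨?_, ?_⟩).symm
  · intro c d hcd
    have he : (hex c).choose.1 • f = (hex d).choose.1 • f := congrArg Subtype.val hcd
    by_contra hne
    apply hf
    have hd : ((c : F)⁻¹ + (d : F)⁻¹) ≠ 0 := by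
      haveI := char_two h
      rw [Ne, CharTwo.add_eq_zero, inv_inj]
      exact fun e => hne (Units.ext e)
    refine LinearMap.ext fun u => ?_
    have hs : ∀ (e : Fˣ) (v : U), ((hex e).choose.1).symm v = (e : F)⁻¹ • v := fun e v => by
      apply (hex e).choose.1.injective
      rw [LinearEquiv.apply_symm_apply, (hex e).choose_spec, smul_smul,
        mul_inv_cancel₀ e.ne_zero, one_smul]
    have := LinearMap.congr_fun he ((((c : F)⁻¹ + (d : F)⁻¹))⁻¹ • u)
    rw [smul_dual_apply, smul_dual_apply, hs, hs] at this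
    have hu : u = (c : F)⁻¹ • ((((c : F)⁻¹ + (d : F)⁻¹))⁻¹ • u) +
        (d : F)⁻¹ • ((((c : F)⁻¹ + (d : F)⁻¹))⁻¹ • u) := by
      rw [← add_smul, smul_smul, mul_inv_cancel₀ hd, one_smul]
    rw [hu, map_add, this, LinearMap.zero_apply]
    exact CharTwo.add_self_eq_zero _
  · rintro ⟨_, ⟨g, hgG, c, hc, hgc⟩, rfl⟩
    refine ⟨Units.mk0 c hc, Subtype.ext ?_⟩
    show (hex (Units.mk0 c hc)).choose.1 • f = g • f
    congr 1
    exact LinearEquiv.ext fun u => ((hex _).choose_spec u).trans (hgc u).symm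

/-- Transitivity on the functionals between two subspaces of codimension one apart. -/
theorem trans_ann_of_dvd {P Q : Submodule F U} (hPQ : P ≤ Q)
    (hrk : finrank F Q = finrank F P + 1) (T T0 : Subgroup (U ≃ₗ[ZMod 2] U))
    (hTG : T ≤ G) (hsc : scalars F G ≤ T) (hT0 : T0 ≤ T)
    (hP : ∀ g ∈ T, ∀ u ∈ P, g u ∈ P) (hQ : ∀ g ∈ T, ∀ u ∈ Q, g u ∈ Q)
    (hdvd : ∀ f ∈ ann P, f ∉ ann Q →
      2 ^ (deg F * (finrank F U - finrank F Q)) ∣ Nat.card (MulAction.orbit T0 f))
    {f f' : Dual (ZMod 2) U} (hf : f ∈ ann P) (hfn : f ∉ ann Q) (hf' : f' ∈ ann P)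
    (hfn' : f' ∉ ann Q) : ∃ g ∈ T, g • f = f' := by
  classical
  haveI := finite_equiv (V := U)
  haveI := finite_dual (V := U)
  set A : Set (Dual (ZMod 2) U) := {f | f ∈ ann P ∧ f ∉ ann Q} with hA
  have hsymm : ∀ (X : Submodule F U), (∀ g ∈ T, ∀ u ∈ X, g u ∈ X) →
      ∀ g ∈ T, ∀ f : Dual (ZMod 2) U, g • f ∈ ann X ↔ f ∈ ann X := by
    intro X hX g hg f
    rw [mem_ann, mem_ann]
    refine ⟨fun h' u hu => ?_, fun h' u hu => ?_⟩
    · rw [← smul_dual_smul g f u]; exact h' _ (hX g hg u hu)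
    · rw [smul_dual_apply]; exact h' _ (hX g⁻¹ (T.inv_mem hg) u hu)
  have hAinv : ∀ g ∈ T, ∀ a ∈ A, g • a ∈ A := fun g hg a ha =>
    ⟨(hsymm P hP g hg a).2 ha.1, fun hc => ha.2 ((hsymm Q hQ g hg a).1 hc)⟩
  have hQm : finrank F Q ≤ finrank F U := Submodule.finrank_le Q
  have hcard : Nat.card A = 2 ^ (deg F * (finrank F U - finrank F Q)) * (Nat.card F - 1) := by
    have h1 : A = (ann P : Set (Dual (ZMod 2) U)) \ (ann Q : Set (Dual (ZMod 2) U)) := rfl
    rw [h1, Nat.card_coe_set_eq, Set.ncard_sdiff (ann_le_iff.2 hPQ), ← Nat.card_coe_set_eq,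
      ← Nat.card_coe_set_eq]
    show Nat.card (ann P) - Nat.card (ann Q) = _
    rw [card_ann h, card_ann h, (card_F h).1, Nat.mul_sub_one, ← pow_add,
      show deg F * (finrank F U - finrank F Q) + deg F = deg F * (finrank F U - finrank F P) by
        rw [← Nat.mul_succ]; congr 1; omega]
  set B := MulAction.orbit T f
  have hBA : B ⊆ A := by rintro _ ⟨g, rfl⟩; exact hAinv g.1 g.2 f ⟨hf, hfn⟩
  have hBinv : ∀ g ∈ T, ∀ a ∈ B, g • a ∈ B := by
    rintro g hg _ ⟨k, rfl⟩; exact ⟨⟨g, hg⟩ * k, mul_smul g k.1 f⟩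
  have hd1 : 2 ^ (deg F * (finrank F U - finrank F Q)) ∣ Nat.card B :=
    dvd_of_orbits T0 B (fun g hg => hBinv g (hT0 hg)) _ fun a ha => hdvd a (hBA ha).1 (hBA ha).2
  have hd2 : Nat.card F - 1 ∣ Nat.card B :=
    dvd_of_orbits (scalars F G) B (fun g hg => hBinv g (hsc hg)) _ fun a ha => by
      rw [card_orbit_scalars h]
      exact fun ha0 => (hBA ha).2 (ha0 ▸ (ann Q).zero_mem)
  have hco : Nat.Coprime (2 ^ (deg F * (finrank F U - finrank F Q))) (Nat.card F - 1) := by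
    refine Nat.Coprime.pow_left _ ((Nat.Prime.coprime_iff_not_dvd Nat.prime_two).2 ?_)
    have h2 : 2 ∣ Nat.card F := (card_F h).1 ▸ dvd_pow_self 2 (card_F h).2.ne'
    have h0 : 0 < Nat.card F := Nat.card_pos
    omega
  have he : B = A := orbit_eq_of_card (G := T) ⟨hf, hfn⟩ (fun g a ha => hAinv g.1 g.2 a ha)
    (hcard ▸ hco.mul_dvd_of_dvd_of_dvd hd1 hd2)
  obtain ⟨g, hg⟩ : f' ∈ B := he ▸ (show f' ∈ A from ⟨hf', hfn'⟩)
  exact ⟨g.1, g.2, hg⟩

end Cfsg.Lib.AntiflagTwo
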