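import Mathlib
import Cfsg.Agent.AntiflagTwo.Setting

/-!
The distinguished subspace `wsp y` attached to a line.
-/

set_option autoImplicit false
set_option linter.unusedSectionVars false

namespace Cfsg.Lib.AntiflagTwo

open Module

variable {F : Type*} [Field F] [Finite F] {U : Type*} [AddCommGroup U] [Module (ZMod 2) U]
  [Module F U] [Finite U] {G : Subgroup (U ≃ₗ[ZMod 2] U)}

variable (F G) in
/-- The defining property of the distinguished subspace at a line. -/
def Good (y : U) (W : Submodule F U) : Prop :=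
  Submodule.span F {y} < W ∧ (∀ g ∈ lineStab F G y, ∀ u ∈ W, g u ∈ W) ∧
    ∀ f f' : Dual (ZMod 2) U, f ∈ ann (Submodule.span F {y}) → f ∉ ann W →
      f' ∈ ann (Submodule.span F {y}) → f' ∉ ann W → ∃ g ∈ lineStab F G y, g • f = f'

theorem smul_mem_ann_of_inv {T : Subgroup (U ≃ₗ[ZMod 2] U)} {X : Submodule F U}
    (hX : ∀ g ∈ T, ∀ u ∈ X, g u ∈ X) {g : U ≃ₗ[ZMod 2] U} (hg : g ∈ T) (f : Dual (ZMod 2) U) :
    g • f ∈ ann X ↔ f ∈ ann X := by
  rw [mem_ann, mem_ann]
  refine ⟨fun h' u hu => ?_, fun h' u hu => ?_⟩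
  · rw [← smul_dual_smul g f u]; exact h' _ (hX g hg u hu)
  · rw [smul_dual_apply]; exact h' _ (hX g⁻¹ (T.inv_mem hg) u hu)

theorem good_unique {y : U} {W W' : Submodule F U} (hW : Good F G y W) (hW' : Good F G y W') :
    W = W' := by
  obtain ⟨hlt, hinv, htr⟩ := hW
  obtain ⟨hlt', hinv', htr'⟩ := hW'
  set P := Submodule.span F {y}
  obtain ⟨f1, h1, h1'⟩ := exists_not_ann hlt
  obtain ⟨f2, h2, h2'⟩ := exists_not_ann hlt'
  obtain ⟨f0, hP, hW0, hW0'⟩ : ∃ f ∈ ann P, f ∉ ann W ∧ f ∉ ann W' := by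
    by_cases ha : f1 ∈ ann W'
    · by_cases hc : f2 ∈ ann W
      · exact ⟨f1 + f2, (ann P).add_mem h1 h2,
          fun hm => h1' ((Submodule.add_mem_iff_left _ hc).1 hm),
          fun hm => h2' ((Submodule.add_mem_iff_right _ ha).1 hm)⟩
      · exact ⟨f2, h2, hc, h2'⟩
    · exact ⟨f1, h1, h1', ha⟩
  apply ann_inj
  ext f
  by_cases hfP : f ∈ ann P
  · constructor
    · intro hf
      by_contra hc
      obtain ⟨g, hg, rfl⟩ := htr' f0 f hP hW0' hfP hc
      exact hW0 ((smul_mem_ann_of_inv hinv hg f0).1 hf)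
    · intro hf
      by_contra hc
      obtain ⟨g, hg, rfl⟩ := htr f0 f hP hW0 hfP hc
      exact hW0' ((smul_mem_ann_of_inv hinv' hg f0).1 hf)
  · exact ⟨fun hf => absurd (ann_le_iff.2 hlt.le hf) hfP,
      fun hf => absurd (ann_le_iff.2 hlt'.le hf) hfP⟩

theorem mem_lineStab_inf {y z : U} {g : U ≃ₗ[ZMod 2] U}
    (hg : g ∈ lineStab F G y ⊓ MulAction.stabilizer (U ≃ₗ[ZMod 2] U) z) :
    g ∈ lineStab F G y ∧ g z = z := hg

variable (h : Setting F G)
include h

theorem apply_mem_sup_span {y z : U} {g : U ≃ₗ[ZMod 2] U} (hy : y ≠ 0) (hz : z ≠ 0)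
    (hg : g ∈ lineStab F G y ⊓ lineStab F G z) {u : U}
    (hu : u ∈ Submodule.span F {y} ⊔ Submodule.span F {z}) :
    g u ∈ Submodule.span F {y} ⊔ Submodule.span F {z} := by
  obtain ⟨a, ha, c, hc, rfl⟩ := Submodule.mem_sup.1 hu
  rw [map_add]
  exact Submodule.add_mem_sup (lineStab_apply_mem h hy hg.1 ha) (lineStab_apply_mem h hz hg.2 hc)

theorem inv_ne_line {y u : U} {g : U ≃ₗ[ZMod 2] U} (hy : y ≠ 0) (hg : g ∈ lineStab F G y)
    (hu : u ∉ Submodule.span F {y}) : g u ∉ Submodule.span F {y} := fun hc => hu (by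
  have := lineStab_apply_mem h hy ((lineStab F G y).inv_mem hg) hc
  rwa [LinearEquiv.coe_inv, LinearEquiv.symm_apply_apply] at this)

/-- Existence, around a vector whose orbit has small two-part. -/
theorem exists_good {y z : U} (hy : y ≠ 0) (hz : z ∉ Submodule.span F {y})
    (hO : ¬ 2 ^ (deg F + 1) ∣ Nat.card (MulAction.orbit (lineStab F G y) z)) :
    ∃ W, Good F G y W ∧ z ∈ W := by
  haveI := finite_equiv (V := U)
  set P := Submodule.span F {y} with hP
  set S := lineStab F G y with hS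
  have hz0 : z ≠ 0 := fun h0 => hz (h0 ▸ P.zero_mem)
  have hP1 : finrank F P = 1 := finrank_span_singleton hy
  set Q := P ⊔ Submodule.span F {z} with hQ
  have hPQ : P ≤ Q := le_sup_left
  have hzQ : Submodule.span F {z} ≤ Q := le_sup_right
  have hQ2 : finrank F Q = finrank F P + 1 := by
    have h1 := Submodule.finrank_sup_add_finrank_inf_eq P (Submodule.span F {z})
    have h2 : finrank F (Submodule.span F {z}) = 1 := finrank_span_singleton hz0
    have h3 : finrank F ↥(P ⊓ Submodule.span F {z}) = 0 := by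
      rw [Submodule.finrank_eq_zero, eq_bot_iff]
      rintro u ⟨hu1, hu2⟩
      obtain ⟨c, rfl⟩ := Submodule.mem_span_singleton.1 hu2
      by_contra hc
      have hc0 : c ≠ 0 := fun h0 => hc (by simp [h0])
      exact hz ((Submodule.smul_mem_iff P hc0).1 hu1)
    rw [← hQ] at h1
    omega
  -- transitivity inside one codimension one step
  have step : ∀ f f' : Dual (ZMod 2) U, f ∈ ann P → f ∉ ann Q → f' ∈ ann P → f' ∉ ann Q →
      ∃ g ∈ S ⊓ lineStab F G z, g • f = f' := by
    intro f f' hf hfn hf' hfn'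
    refine trans_ann_of_dvd h hPQ hQ2 (S ⊓ lineStab F G z) (S ⊓ MulAction.stabilizer _ z)
      (inf_le_left.trans (lineStab_le h y))
      (le_inf (scalars_le_lineStab h hy) (scalars_le_lineStab h hz0)) ?_
      (fun g hg u hu => lineStab_apply_mem h hy hg.1 hu) (fun g hg u hu => apply_mem_sup_span h hy hz0 hg hu)
      ?_ hf hfn hf' hfn'
    · intro g hg
      obtain ⟨hg1, hg2⟩ := mem_lineStab_inf hg
      exact ⟨hg1, (mem_lineStab h hz0).2 ⟨lineStab_le h y hg1,
        hg2.symm ▸ Submodule.mem_span_singleton_self z⟩⟩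
    intro f hf hfn
    set T0 : Subgroup (U ≃ₗ[ZMod 2] U) := S ⊓ MulAction.stabilizer _ z with hT0
    have hle : T0 ≤ lineStab F G z := fun g hg => (mem_lineStab h hz0).2
      ⟨lineStab_le h y (mem_lineStab_inf hg).1,
        (mem_lineStab_inf hg).2.symm ▸ Submodule.mem_span_singleton_self z⟩
    have hfz : f ∉ ann (Submodule.span F {z}) := fun hc => hfn (mem_ann_sup.2 ⟨hf, hc⟩)
    have horb : MulAction.orbit (lineStab F G z) f =
        {a | a ∉ ann (Submodule.span F {z})} := by
      refine orbit_eq_of_trans hfz (fun g a ha hc => ha ?_) (fun a ha => ?_)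
      · exact (smul_mem_ann_of_inv (fun k hk u hu => lineStab_apply_mem h hz0 hk hu) g.2 a).1 hc
      · obtain ⟨g, hg, hgf⟩ := trans_not_ann h hz0 hfz ha
        exact ⟨⟨g, hg⟩, hgf⟩
    have hcardorb : 2 ^ (deg F * (finrank F U - 1)) ∣
        Nat.card (MulAction.orbit (lineStab F G z) f) := by
      rw [horb, show {a : Dual (ZMod 2) U | a ∉ ann (Submodule.span F {z})} =
        (ann (Submodule.span F {z}) : Set (Dual (ZMod 2) U))ᶜ from rfl, Nat.card_coe_set_eq,
        Set.ncard_compl]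
      refine Nat.dvd_sub ?_ ?_
      · rw [Module.natCard_eq_pow_finrank (K := ZMod 2), Nat.card_zmod, Subspace.dual_finrank_eq,
          finrank_prime h]
        exact pow_dvd_pow 2 (Nat.mul_le_mul_left _ (Nat.sub_le _ _))
      · rw [← Nat.card_coe_set_eq]
        show _ ∣ Nat.card (ann (Submodule.span F {z}))
        rw [card_ann h, finrank_span_singleton hz0]
    have hd := orbit_dvd' hle f
    have hS' : Nat.card (lineStab F G z) = Nat.card (MulAction.orbit S z) * Nat.card T0 := by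
      rw [← card_lineStab h hy hz0]; exact card_subgroup_eq S z
    rw [hS', ← mul_assoc] at hd
    have hd' := (Nat.mul_dvd_mul_left (Nat.card T0) hcardorb).trans hd
    rw [mul_comm (Nat.card T0)] at hd'
    have hd'' := Nat.dvd_of_mul_dvd_mul_right Nat.card_pos hd'
    have hQm : finrank F Q ≤ finrank F U := Submodule.finrank_le Q
    refine two_pow_dvd (c := deg F) ?_ hO
    rwa [← Nat.mul_succ, show (finrank F U - finrank F Q).succ = finrank F U - 1 by omega]
  let W : Submodule F U := Submodule.span F ({y} ∪ MulAction.orbit S z)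
  have hzW : z ∈ W := Submodule.subset_span (Or.inr (MulAction.mem_orbit_self z))
  have hPW : P ≤ W := Submodule.span_mono Set.subset_union_left
  refine ⟨W, ⟨lt_of_le_of_ne hPW fun he => hz ?_, ?_, ?_⟩, hzW⟩
  · change z ∈ Submodule.span F {y}
    rw [he]; exact hzW
  · intro g hg u hu
    have hgG := lineStab_le h y hg
    have hle : W ≤ img h hgG W := by
      refine Submodule.span_le.2 ?_
      rintro w (hw | ⟨k, rfl⟩) <;> rw [SetLike.mem_coe, mem_img]
      · rw [Set.mem_singleton_iff] at hw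
        rw [hw, ← LinearEquiv.coe_inv]
        exact hPW (lineStab_apply_mem h hy (S.inv_mem hg) (Submodule.mem_span_singleton_self y))
      · exact Submodule.subset_span (Or.inr ⟨(⟨g, hg⟩ : S)⁻¹ * k, rfl⟩)
    have heq := Submodule.eq_of_le_of_finrank_eq hle (finrank_img h hgG W).symm
    rw [heq]
    exact (apply_mem_img h hgG).2 hu
  · intro f f' hf hfn hf' hfn'
    have key : ∀ a : Dual (ZMod 2) U, a ∈ ann P → a ∉ ann W → ∃ g ∈ S, g • a ∉ ann Q := by
      intro a ha han
      by_contra hc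
      push Not at hc
      refine han (mem_ann.2 fun u hu => ?_)
      induction hu using Submodule.span_induction generalizing a with
      | mem w hw =>
        rcases hw with hw | ⟨k, rfl⟩
        · rw [Set.mem_singleton_iff] at hw
          exact mem_ann.1 ha w (hw ▸ Submodule.mem_span_singleton_self y)
        · have := mem_ann.1 (hc k.1⁻¹ (S.inv_mem k.2)) z (hzQ (Submodule.mem_span_singleton_self z))
          rwa [smul_dual_apply, ← LinearEquiv.coe_inv, inv_inv] at this
      | zero => exact map_zero a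
      | add u v _ _ hu' hv' => rw [map_add, hu' a ha han hc, hv' a ha han hc, add_zero]
      | smul c w hw _ =>
        -- a scalar moves into the functional
        rename_i ih
        by_cases hc0 : c = 0
        · rw [hc0, zero_smul, map_zero]
        · obtain ⟨s, hs, hsu⟩ := h.scal c hc0
          have hss : s ∈ S := scalars_le_lineStab h hy ⟨hs, c, hc0, hsu⟩
          have := ih (s⁻¹ • a) ?_ ?_ ?_
          · rwa [smul_dual_apply, ← LinearEquiv.coe_inv, inv_inv, hsu] at this
          · exact (smul_mem_ann_of_inv (fun k hk v hv => lineStab_apply_mem h hy hk hv)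
              (S.inv_mem hss) a).2 ha
          · intro hm
            refine han (mem_ann.2 fun v hv => ?_)
            have h1 := mem_ann.1 hm (c⁻¹ • v) (W.smul_mem _ hv)
            rwa [smul_dual_apply, ← LinearEquiv.coe_inv, inv_inv, hsu, smul_smul,
              mul_inv_cancel₀ hc0, one_smul] at h1
          · intro k hk
            rw [← mul_smul]; exact hc _ (S.mul_mem hk (S.inv_mem hss))
    obtain ⟨g, hg, hgf⟩ := key f hf hfn
    obtain ⟨g', hg', hgf'⟩ := key f' hf' hfn'
    have hSP : ∀ k ∈ S, ∀ a : Dual (ZMod 2) U, a ∈ ann P → k • a ∈ ann P := fun k hk a ha =>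
      (smul_mem_ann_of_inv (fun k hk v hv => lineStab_apply_mem h hy hk hv) hk a).2 ha
    obtain ⟨t, ht, htf⟩ := step _ _ (hSP g hg f hf) hgf (hSP g' hg' f' hf') hgf'
    exact ⟨g'⁻¹ * t * g, S.mul_mem (S.mul_mem (S.inv_mem hg') ht.1) hg, by
      rw [mul_smul, mul_smul, htf, inv_smul_smul]⟩

/-- Some vector off the line has an orbit with small two-part. -/
theorem exists_small_orbit {y : U} (hy : y ≠ 0) (hm : 2 ≤ finrank F U) :
    ∃ z ∉ Submodule.span F {y},
      ¬ 2 ^ (deg F + 1) ∣ Nat.card (MulAction.orbit (lineStab F G y) z) := by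
  by_contra hc
  push Not at hc
  haveI := finite_equiv (V := U)
  have hd := dvd_of_orbits (lineStab F G y) ((Submodule.span F {y} : Set U)ᶜ)
    (fun g hg a ha => inv_ne_line h hy hg ha) (2 ^ (deg F + 1)) fun a ha => hc a ha
  rw [Nat.card_coe_set_eq, Set.ncard_compl, ← Nat.card_coe_set_eq] at hd
  change _ ∣ Nat.card U - Nat.card (Submodule.span F {y}) at hd
  rw [card_sub h, finrank_span_singleton hy, mul_one, Module.natCard_eq_pow_finrank (K := F),
    (card_F h).1, ← pow_mul] at hd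
  have hb := (card_F h).2
  have hle : deg F + 1 ≤ deg F * finrank F U := by nlinarith
  have h1 : 2 ^ (deg F + 1) ∣ 2 ^ deg F := by
    have := Nat.dvd_sub (pow_dvd_pow 2 hle) hd
    rwa [Nat.sub_sub_self (Nat.pow_le_pow_right (by norm_num) (by omega))] at this
  have := Nat.le_of_dvd (by positivity) h1
  rw [pow_succ] at this
  have : 0 < 2 ^ deg F := by positivity
  omega

omit h

open Classical in
variable (F G) in
/-- The distinguished subspace at the line through `y`. -/
noncomputable def wsp (y : U) : Submodule F U :=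
  if hW : ∃ W, Good F G y W then hW.choose else ⊥

include h

theorem good_wsp {y : U} (hy : y ≠ 0) (hm : 2 ≤ finrank F U) : Good F G y (wsp F G y) := by
  obtain ⟨z, hz, hzO⟩ := exists_small_orbit h hy hm
  obtain ⟨W, hW, -⟩ := exists_good h hy hz hzO
  rw [wsp, dif_pos ⟨W, hW⟩]
  exact Exists.choose_spec (p := fun W => Good F G y W) ⟨W, hW⟩

theorem wsp_eq {y : U} {W : Submodule F U} (hW : Good F G y W) : wsp F G y = W := by
  rw [wsp, dif_pos ⟨W, hW⟩]
  exact good_unique (Exists.choose_spec (p := fun W => Good F G y W) ⟨W, hW⟩) hW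

theorem self_mem_wsp {y : U} (hy : y ≠ 0) (hm : 2 ≤ finrank F U) : y ∈ wsp F G y :=
  (good_wsp h hy hm).1.le (Submodule.mem_span_singleton_self y)

theorem wsp_smul {y : U} {c : F} (hc : c ≠ 0) : wsp F G (c • y) = wsp F G y := by
  classical
  have he : ∀ W, Good F G (c • y) W ↔ Good F G y W := fun W => by
    rw [Good, Good, lineStab_smul h hc, Submodule.span_singleton_smul_eq hc.isUnit]
  by_cases hW : ∃ W, Good F G y W
  · obtain ⟨W, hW⟩ := hW
    rw [wsp_eq h hW, wsp_eq h ((he W).2 hW)]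
  · rw [wsp, wsp, dif_neg hW, dif_neg (fun ⟨W, hW'⟩ => hW ⟨W, (he W).1 hW'⟩)]

theorem conj_mem_lineStab {g k : U ≃ₗ[ZMod 2] U} {y : U} (hy : y ≠ 0) (hg : g ∈ G)
    (hk : k ∈ lineStab F G (g y)) : g⁻¹ * k * g ∈ lineStab F G y := by
  obtain ⟨hkG, hky⟩ := (mem_lineStab h (fun h0 => hy (g.map_eq_zero_iff.1 h0))).1 hk
  refine (mem_lineStab h hy).2 ⟨G.mul_mem (G.mul_mem (G.inv_mem hg) hkG) hg, ?_⟩
  rw [← apply_mem_span h hg, LinearEquiv.mul_apply, LinearEquiv.mul_apply, LinearEquiv.coe_inv,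
    LinearEquiv.apply_symm_apply]
  exact hky

theorem wsp_map {g : U ≃ₗ[ZMod 2] U} (hg : g ∈ G) {y : U} (hy : y ≠ 0) (hm : 2 ≤ finrank F U) :
    wsp F G (g y) = img h hg (wsp F G y) := by
  apply wsp_eq h
  obtain ⟨hlt, hinv, htr⟩ := good_wsp h hy hm
  refine ⟨?_, ?_, ?_⟩
  · rw [← img_span h hg]
    obtain ⟨u, hu, hun⟩ := Set.exists_of_ssubset hlt
    refine lt_of_le_of_ne (fun v hv => (mem_img h hg).2 (hlt.le ((mem_img h hg).1 hv))) fun he => ?_
    exact hun ((apply_mem_img h hg).1 (he ▸ (apply_mem_img h hg).2 hu))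
  · intro k hk u hu
    rw [mem_img] at hu ⊢
    have := hinv _ (conj_mem_lineStab h hy hg hk) _ hu
    simpa [LinearEquiv.mul_apply] using this
  · intro f f' hf hfn hf' hfn'
    rw [← img_span h hg] at hf hf'
    have e : ∀ (X : Submodule F U) (a : Dual (ZMod 2) U), g⁻¹ • a ∈ ann X ↔ a ∈ ann (img h hg X) :=
      fun X a => by rw [← smul_mem_ann h hg, smul_inv_smul]
    obtain ⟨k, hk, hkf⟩ := htr (g⁻¹ • f) (g⁻¹ • f') ((e _ f).2 hf) (fun hc => hfn ((e _ f).1 hc))
      ((e _ f').2 hf') (fun hc => hfn' ((e _ f').1 hc))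
    refine ⟨g * k * g⁻¹, ?_, by rw [mul_smul, mul_smul, hkf, smul_inv_smul]⟩
    obtain ⟨hkG, hky⟩ := (mem_lineStab h hy).1 hk
    refine (mem_lineStab h (fun h0 => hy (g.map_eq_zero_iff.1 h0))).2
      ⟨G.mul_mem (G.mul_mem hg hkG) (G.inv_mem hg), ?_⟩
    rw [LinearEquiv.mul_apply, LinearEquiv.mul_apply, LinearEquiv.coe_inv,
      LinearEquiv.symm_apply_apply, apply_mem_span h hg]
    exact hky

end Cfsg.Lib.AntiflagTwo
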