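import Mathlib
import Cfsg.Agent.AntiflagTwo.Good

/-!
The orbit, the symmetry and the translation invariance attached to `wsp`.
-/

set_option autoImplicit false
set_option linter.unusedSectionVars false

namespace Cfsg.Lib.AntiflagTwo

open Module

variable {F : Type*} [Field F] [Finite F] {U : Type*} [AddCommGroup U] [Module (ZMod 2) U]
  [Module F U] [Finite U] {G : Subgroup (U ≃ₗ[ZMod 2] U)}

variable (h : Setting F G)
include h

variable (hm : 2 ≤ finrank F U)
include hm

theorem wsp_inv {y : U} (hy : y ≠ 0) {g : U ≃ₗ[ZMod 2] U} (hg : g ∈ lineStab F G y) {u : U}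
    (hu : u ∈ wsp F G y) : g u ∈ wsp F G y :=
  (good_wsp h hy hm).2.1 g hg u hu

theorem wsp_inv' {y : U} (hy : y ≠ 0) {g : U ≃ₗ[ZMod 2] U} (hg : g ∈ lineStab F G y) {u : U}
    (hu : u ∉ wsp F G y) : g u ∉ wsp F G y := fun hc => hu (by
  have := wsp_inv h hm hy ((lineStab F G y).inv_mem hg) hc
  rwa [LinearEquiv.coe_inv, LinearEquiv.symm_apply_apply] at this)

/-- The three classes of functionals on `wsp y` are orbits, so are the three classes of vectors. -/
theorem trans_wsp {y u v : U} (hy : y ≠ 0) (hu : u ∈ wsp F G y) (hu' : u ∉ Submodule.span F {y})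
    (hv : v ∈ wsp F G y) (hv' : v ∉ Submodule.span F {y}) : ∃ g ∈ lineStab F G y, g u = v := by
  classical
  obtain ⟨hlt, hinv, htr⟩ := good_wsp h hy hm
  refine block_sub (lineStab F G y) (two (wsp F G y)) hinv
    (fun w => if w = 0 then (0 : Fin 3) else if w ∈ Submodule.span F {y} then 1 else 2) ?_ ?_
    (fun f => if f ∈ ann (wsp F G y) then (0 : Fin 3) else
      if f ∈ ann (Submodule.span F {y}) then 1 else 2) ?_ le_rfl hu hv ?_
  · intro i
    fin_cases i
    · exact ⟨0, Submodule.zero_mem _, by simp⟩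
    · exact ⟨y, hlt.le (Submodule.mem_span_singleton_self y), by
        simp [hy, Submodule.mem_span_singleton_self]⟩
    · obtain ⟨w, hw, hw'⟩ := Set.exists_of_ssubset hlt
      refine ⟨w, hw, ?_⟩
      have hw0 : w ≠ 0 := fun h0 => hw' (h0 ▸ Submodule.zero_mem _)
      simp only [SetLike.mem_coe] at hw'
      simp [hw0, hw']
  · intro g hg w _
    have h1 : g w = 0 ↔ w = 0 := g.map_eq_zero_iff
    have h2 : g w ∈ Submodule.span F {y} ↔ w ∈ Submodule.span F {y} :=
      ⟨fun hc => by_contra fun hn => inv_ne_line h hy hg hn hc,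
        fun hc => lineStab_apply_mem h hy hg hc⟩
    simp only [h1, h2]
  · intro f f' hff
    by_cases h1 : f ∈ ann (wsp F G y)
    · by_cases h1' : f' ∈ ann (wsp F G y)
      · exact ⟨1, one_mem _, fun w hw => by
          rw [one_smul, mem_ann.1 h1 w hw, mem_ann.1 h1' w hw]⟩
      · simp only [h1, h1', if_true, if_false] at hff
        split_ifs at hff <;> exact absurd hff (by decide)
    · by_cases h1' : f' ∈ ann (wsp F G y)
      · simp only [h1, h1', if_true, if_false] at hff
        split_ifs at hff <;> exact absurd hff (by decide)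
      · by_cases h2 : f ∈ ann (Submodule.span F {y})
        · by_cases h2' : f' ∈ ann (Submodule.span F {y})
          · obtain ⟨g, hg, rfl⟩ := htr f f' h2 h1 h2' h1'
            exact ⟨g, hg, fun w _ => rfl⟩
          · simp only [h1, h1', h2, h2', if_true, if_false] at hff
            exact absurd hff (by decide)
        · by_cases h2' : f' ∈ ann (Submodule.span F {y})
          · simp only [h1, h1', h2, h2', if_true, if_false] at hff
            exact absurd hff (by decide)
          · obtain ⟨g, hg, rfl⟩ := trans_not_ann h hy h2 h2'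
            exact ⟨g, hg, fun w _ => rfl⟩
  · have hu0 : u ≠ 0 := fun h0 => hu' (h0 ▸ Submodule.zero_mem _)
    have hv0 : v ≠ 0 := fun h0 => hv' (h0 ▸ Submodule.zero_mem _)
    simp [hu0, hv0, hu', hv']

theorem orbit_wsp {y z : U} (hy : y ≠ 0) (hz : z ∈ wsp F G y) (hz' : z ∉ Submodule.span F {y}) :
    MulAction.orbit (lineStab F G y) z =
      (wsp F G y : Set U) \ (Submodule.span F {y} : Set U) :=
  haveI := finite_equiv (V := U)
  orbit_eq_of_trans ⟨hz, hz'⟩
    (fun g _ ha => ⟨wsp_inv h hm hy g.2 ha.1, inv_ne_line h hy g.2 ha.2⟩) fun a ha => by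
      obtain ⟨g, hg, hgz⟩ := trans_wsp h hm hy hz hz' ha.1 ha.2
      exact ⟨⟨g, hg⟩, hgz⟩

theorem finrank_wsp {y : U} (hy : y ≠ 0) : 2 ≤ finrank F (wsp F G y) := by
  have := Submodule.finrank_lt_finrank_of_lt (good_wsp h hy hm).1
  rw [finrank_span_singleton hy] at this
  omega

theorem card_wsp_diff {y : U} (hy : y ≠ 0) :
    Nat.card ↥((wsp F G y : Set U) \ (Submodule.span F {y} : Set U)) =
      2 ^ (deg F * finrank F (wsp F G y)) - 2 ^ deg F := by
  rw [Nat.card_coe_set_eq, Set.ncard_sdiff (good_wsp h hy hm).1.le, ← Nat.card_coe_set_eq,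
    ← Nat.card_coe_set_eq, SetLike.coe_sort_coe, SetLike.coe_sort_coe, card_sub h, card_sub h,
    finrank_span_singleton hy, mul_one]

theorem card_orbit_line {T : Subgroup (U ≃ₗ[ZMod 2] U)} {z : U} (hz : z ≠ 0)
    (hT : T ≤ lineStab F G z) (hsc : scalars F G ≤ T) :
    Nat.card (MulAction.orbit T z) = Nat.card F - 1 := by
  haveI := finite_equiv (V := U)
  rw [orbit_eq_of_trans (A := (Submodule.span F {z} : Set U) \ {0})
    ⟨Submodule.mem_span_singleton_self z, hz⟩
    (fun g a ha => ⟨lineStab_apply_mem h hz (hT g.2) ha.1,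
      fun hc => ha.2 ((g.1).map_eq_zero_iff.1 hc)⟩) ?_, Nat.card_coe_set_eq,
    Set.ncard_sdiff_singleton_of_mem (Submodule.zero_mem _), ← Nat.card_coe_set_eq,
    SetLike.coe_sort_coe, card_sub h, finrank_span_singleton hz, mul_one, (card_F h).1]
  intro a ha
  obtain ⟨c, rfl⟩ := Submodule.mem_span_singleton.1 ha.1
  have hc : c ≠ 0 := fun h0 => ha.2 (by simp [h0])
  obtain ⟨g, hg, hgc⟩ := h.scal c hc
  exact ⟨⟨g, hsc ⟨hg, c, hc, hgc⟩⟩, hgc z⟩

/-- The relation `z ∈ wsp y` is symmetric. -/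
theorem wsp_symm {y z : U} (hy : y ≠ 0) (hz0 : z ≠ 0) (hz : z ∈ wsp F G y) :
    y ∈ wsp F G z := by
  haveI := finite_equiv (V := U)
  by_cases hzl : z ∈ Submodule.span F {y}
  · obtain ⟨c, rfl⟩ := Submodule.mem_span_singleton.1 hzl
    rw [wsp_smul h (fun h0 : c = 0 => hz0 (by simp [h0]))]
    exact self_mem_wsp h hy hm
  have hyl : y ∉ Submodule.span F {z} := fun hc => hzl (by
    obtain ⟨c, hc⟩ := Submodule.mem_span_singleton.1 hc
    have hc0 : c ≠ 0 := fun h0 => hy (by simp [← hc, h0])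
    exact Submodule.mem_span_singleton.2 ⟨c⁻¹, by rw [← hc, smul_smul, inv_mul_cancel₀ hc0, one_smul]⟩)
  set T' := lineStab F G y ⊓ lineStab F G z with hT'
  have hsc : scalars F G ≤ T' := le_inf (scalars_le_lineStab h hy) (scalars_le_lineStab h hz0)
  have e1 : (T' ⊓ MulAction.stabilizer (U ≃ₗ[ZMod 2] U) z) =
      lineStab F G y ⊓ MulAction.stabilizer (U ≃ₗ[ZMod 2] U) z :=
    le_antisymm (inf_le_inf_right _ inf_le_left) fun g hg => ⟨⟨hg.1, (mem_lineStab h hz0).2
      ⟨lineStab_le h y hg.1, (mem_lineStab_inf hg).2.symm ▸ Submodule.mem_span_singleton_self z⟩⟩, hg.2⟩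
  have e2 : (T' ⊓ MulAction.stabilizer (U ≃ₗ[ZMod 2] U) y) =
      lineStab F G z ⊓ MulAction.stabilizer (U ≃ₗ[ZMod 2] U) y :=
    le_antisymm (inf_le_inf_right _ inf_le_right) fun g hg => ⟨⟨(mem_lineStab h hy).2
      ⟨lineStab_le h z hg.1, (mem_lineStab_inf hg).2.symm ▸ Submodule.mem_span_singleton_self y⟩,
        hg.1⟩, hg.2⟩
  have c1 := card_subgroup_eq T' z
  have c2 := card_subgroup_eq T' y
  rw [card_orbit_line h hm hz0 inf_le_right hsc, e1] at c1
  rw [card_orbit_line h hm hy inf_le_left hsc, e2] at c2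
  have c3 := card_subgroup_eq (lineStab F G y) z
  have c4 := card_subgroup_eq (lineStab F G z) y
  rw [card_lineStab h hz0 hy, c3] at c4
  have hq : 0 < Nat.card F - 1 := by
    have := (card_F h).2
    have h2 : 2 ^ 1 ≤ 2 ^ deg F := Nat.pow_le_pow_right (by norm_num) this
    rw [(card_F h).1]; omega
  have e3 := Nat.eq_of_mul_eq_mul_left hq (c1.symm.trans c2)
  rw [← e3] at c4
  have e4 := Nat.eq_of_mul_eq_mul_right Nat.card_pos c4
  have hO : ¬ 2 ^ (deg F + 1) ∣ Nat.card (MulAction.orbit (lineStab F G z) y) := by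
    rw [← e4, orbit_wsp h hm hy hz hzl, card_wsp_diff h hm hy]
    intro hd
    have hb := (card_F h).2
    have hle : deg F + 1 ≤ deg F * finrank F (wsp F G y) := by
      nlinarith [finrank_wsp h hm hy]
    have h1 := Nat.dvd_sub (pow_dvd_pow 2 hle) hd
    rw [Nat.sub_sub_self (Nat.pow_le_pow_right (by norm_num) (by omega))] at h1
    have := Nat.le_of_dvd (by positivity) h1
    rw [pow_succ] at this
    have : 0 < 2 ^ deg F := by positivity
    omega
  obtain ⟨W, hW, hyW⟩ := exists_good h hz0 hyl hO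
  rwa [wsp_eq h hW]

/-- Every orbit of the line stabiliser outside `wsp y` is invariant under translations by it. -/
theorem translate_orbit {y u w : U} (hy : y ≠ 0) (hu : u ∉ wsp F G y) (hw : w ∈ wsp F G y) :
    ∃ g ∈ lineStab F G y, g u = u + w := by
  classical
  haveI := Fintype.ofFinite U
  haveI := Fintype.ofFinite (Dual (ZMod 2) U)
  haveI : ∀ X : Submodule F U, Fintype (two X).dualAnnihilator := fun _ => Fintype.ofFinite _
  set S := lineStab F G y with hS
  set P := Submodule.span F {y} with hP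
  set O : Finset U := Finset.univ.filter (· ∈ MulAction.orbit S u) with hO
  have hmemO : ∀ v, v ∈ O ↔ v ∈ MulAction.orbit S u := fun v => by simp [hO]
  have houtW : ∀ v ∈ O, v ∉ wsp F G y := by
    intro v hv
    obtain ⟨g, rfl⟩ := (hmemO v).1 hv
    exact wsp_inv' h hm hy g.2 hu
  have hconst : ∀ g ∈ S, ∀ f : Dual (ZMod 2) U,
      ∑ v ∈ O, sgn ((g • f) v) = ∑ v ∈ O, sgn (f v) := by
    intro g hg f
    refine Finset.sum_nbij' (fun v => g.symm v) (fun v => g v) ?_ ?_
      (fun v _ => g.apply_symm_apply v) (fun v _ => g.symm_apply_apply v) (fun v _ => rfl)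
    · intro v hv
      obtain ⟨k, rfl⟩ := (hmemO v).1 hv
      exact (hmemO _).2 ⟨⟨g, hg⟩⁻¹ * k, rfl⟩
    · intro v hv
      obtain ⟨k, rfl⟩ := (hmemO v).1 hv
      exact (hmemO _).2 ⟨⟨g, hg⟩ * k, rfl⟩
  have hann : ∀ (X : Submodule F U), X ≤ wsp F G y → ∀ v ∈ O,
      ∑ f ∈ Finset.univ.filter (· ∈ ann X), sgn (f v) = 0 := by
    intro X hX v hv
    rw [Finset.sum_subtype (p := fun f => f ∈ (two X).dualAnnihilator) _
      (fun f => by simp [ann]) fun f => sgn (f v), sum_annihilator,
      if_neg (show ¬ v ∈ two X from fun hc => houtW v hv (hX hc))]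
  have hall : ∀ v ∈ O, ∑ f : Dual (ZMod 2) U, sgn (f v) = 0 := by
    intro v hv
    have := hann ⊥ bot_le v hv
    rwa [Finset.filter_true_of_mem fun f _ => mem_ann.2 fun x hx => by
      rw [(Submodule.mem_bot F).1 hx, map_zero]] at this
  have hsum : ∀ f : Dual (ZMod 2) U, f ∉ (two (wsp F G y)).dualAnnihilator →
      ∑ v ∈ O, sgn (f v) = 0 := by
    intro f hf
    have fin : ∀ (A : Finset (Dual (ZMod 2) U)), f ∈ A →
        (∀ a ∈ A, ∃ g ∈ S, g • f = a) → (∀ v ∈ O, ∑ a ∈ A, sgn (a v) = 0) →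
        ∑ v ∈ O, sgn (f v) = 0 := by
      intro A hfA hA hA0
      have h1 : ∑ a ∈ A, ∑ v ∈ O, sgn (a v) = 0 := by
        rw [Finset.sum_comm]; exact Finset.sum_eq_zero hA0
      rw [Finset.sum_congr rfl fun a ha => (show ∑ v ∈ O, sgn (a v) = ∑ v ∈ O, sgn (f v) by
        obtain ⟨g, hg, rfl⟩ := hA a ha; exact hconst g hg f), Finset.sum_const, nsmul_eq_mul,
        mul_eq_zero] at h1
      rcases h1 with h1 | h1
      · exact absurd (Finset.card_eq_zero.1 (Nat.cast_eq_zero.1 h1)) (Finset.ne_empty_of_mem hfA)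
      · exact h1
    by_cases hfP : f ∈ ann P
    · refine fin (Finset.univ.filter (· ∈ ann P) \ Finset.univ.filter (· ∈ ann (wsp F G y)))
        (Finset.mem_sdiff.2 ⟨Finset.mem_filter.2 ⟨Finset.mem_univ _, hfP⟩,
          fun hc => hf (Finset.mem_filter.1 hc).2⟩) (fun a ha => ?_) fun v hv => ?_
      · simp only [Finset.mem_sdiff, Finset.mem_filter, Finset.mem_univ, true_and] at ha
        exact (good_wsp h hy hm).2.2 f a hfP hf ha.1 ha.2
      · rw [Finset.sum_sdiff_eq_sub ?_, hann P (good_wsp h hy hm).1.le v hv,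
          hann _ le_rfl v hv, sub_zero]
        intro a ha
        simp only [Finset.mem_filter, Finset.mem_univ, true_and] at ha ⊢
        exact ann_le_iff.2 (good_wsp h hy hm).1.le ha
    · refine fin (Finset.univ \ Finset.univ.filter (· ∈ ann P)) (by simpa using hfP)
        (fun a ha => ?_) fun v hv => ?_
      · simp only [Finset.mem_sdiff, Finset.mem_filter, Finset.mem_univ, true_and] at ha
        exact trans_not_ann h hy hfP ha
      · rw [Finset.sum_sdiff_eq_sub (Finset.subset_univ _), hall v hv,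
          hann P (good_wsp h hy hm).1.le v hv, sub_zero]
  obtain ⟨g, hg⟩ := (hmemO _).1 (translate_mem O (two (wsp F G y)) hsum
    ((hmemO u).2 (MulAction.mem_orbit_self u)) (w := w) hw)
  exact ⟨g.1, g.2, hg⟩

end Cfsg.Lib.AntiflagTwo
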