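import Mathlib
import Cfsg.Agent.AntiflagTwo.Wsp

/-!
Balls and components of the adjacency given by `wsp`, and how two adjacent distinguished subspaces meet.
-/

set_option autoImplicit false
set_option linter.unusedSectionVars false

namespace Cfsg.Lib.AntiflagTwo

open Module

variable {F : Type*} [Field F] [Finite F] {U : Type*} [AddCommGroup U] [Module (ZMod 2) U]
  [Module F U] [Finite U] {G : Subgroup (U ≃ₗ[ZMod 2] U)}

variable (F G) in
/-- The vectors reached from a line in at most `i` steps. -/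
def ball : ℕ → U → Set U
  | 0, y => (Submodule.span F {y} : Set U)
  | i + 1, y => {w | ∃ z ∈ ball i y, z ≠ 0 ∧ w ∈ wsp F G z}

variable (h : Setting F G)
include h

variable (hm : 2 ≤ finrank F U)
include hm

theorem ball_mono {i : ℕ} {y : U} (hy : y ≠ 0) : ball F G i y ⊆ ball F G (i + 1) y := by
  intro w hw
  by_cases hw0 : w = 0
  · subst hw0
    cases i with
    | zero => exact ⟨y, Submodule.mem_span_singleton_self y, hy, Submodule.zero_mem _⟩
    | succ i =>
      obtain ⟨z, hz, hz0, -⟩ := hw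
      exact ⟨z, ⟨z, hz, hz0, self_mem_wsp h hz0 hm⟩, hz0, Submodule.zero_mem _⟩
  · exact ⟨w, hw, hw0, self_mem_wsp h hw0 hm⟩

theorem ball_one {y : U} (hy : y ≠ 0) : ball F G 1 y = (wsp F G y : Set U) := by
  refine Set.ext fun w => ⟨?_, fun hw => ⟨y, Submodule.mem_span_singleton_self y, hy, hw⟩⟩
  rintro ⟨z, hz, hz0, hw⟩
  obtain ⟨c, rfl⟩ := Submodule.mem_span_singleton.1 hz
  rwa [wsp_smul h fun hc : c = 0 => hz0 (by simp [hc])] at hw

theorem ball_trans {y v : U} (hv : v ≠ 0) {j : ℕ} (hvj : v ∈ ball F G j y) :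
    ∀ {i : ℕ} {u : U}, u ≠ 0 → u ∈ ball F G i v → u ∈ ball F G (j + i) y := by
  intro i
  induction i with
  | zero =>
    intro u hu hui
    obtain ⟨c, rfl⟩ := Submodule.mem_span_singleton.1 hui
    cases j with
    | zero => exact Submodule.smul_mem _ c hvj
    | succ j =>
      obtain ⟨z, hz, hz0, hvz⟩ := hvj
      exact ⟨z, hz, hz0, Submodule.smul_mem _ c hvz⟩
  | succ i ih =>
    intro u hu hui
    obtain ⟨z, hz, hz0, huz⟩ := hui
    exact ⟨z, ih hz0 hz, hz0, huz⟩

theorem ball_symm {y : U} (hy : y ≠ 0) :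
    ∀ {i : ℕ} {w : U}, w ≠ 0 → w ∈ ball F G i y → y ∈ ball F G i w := by
  intro i
  induction i with
  | zero =>
    intro w hw hwy
    obtain ⟨c, rfl⟩ := Submodule.mem_span_singleton.1 hwy
    have hc : c ≠ 0 := fun h0 => hw (by simp [h0])
    exact Submodule.mem_span_singleton.2 ⟨c⁻¹, by rw [smul_smul, inv_mul_cancel₀ hc, one_smul]⟩
  | succ i ih =>
    intro w hw hwy
    obtain ⟨z, hz, hz0, hwz⟩ := hwy
    have h1 : z ∈ ball F G 1 w := by
      rw [ball_one h hm hw]; exact wsp_symm h hm hz0 hw hwz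
    have := ball_trans h hm hz0 h1 hy (ih hz0 hz)
    rwa [Nat.add_comm] at this

theorem ball_map {g : U ≃ₗ[ZMod 2] U} (hg : g ∈ G) :
    ∀ {i : ℕ} {y w : U}, w ∈ ball F G i y → g w ∈ ball F G i (g y) := by
  intro i
  induction i with
  | zero => intro y w hw; exact (apply_mem_span h hg).2 hw
  | succ i ih =>
    intro y w hw
    obtain ⟨z, hz, hz0, hwz⟩ := hw
    refine ⟨g z, ih hz, fun hc => hz0 (g.map_eq_zero_iff.1 hc), ?_⟩
    rw [wsp_map h hg hz0 hm]
    exact (apply_mem_img h hg).2 hwz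

omit hm

variable (F G) in
/-- The component of a line. -/
def compSet (y : U) : Set U := {w | w = 0 ∨ ∃ i, w ∈ ball F G i y}

include hm

theorem comp_trans {y v u : U} (hv0 : v ≠ 0) (hv : v ∈ compSet F G y) (hu : u ∈ compSet F G v) :
    u ∈ compSet F G y := by
  by_cases hu0 : u = 0
  · exact Or.inl hu0
  obtain ⟨j, hj⟩ := hv.resolve_left hv0
  obtain ⟨i, hi⟩ := hu.resolve_left hu0
  exact Or.inr ⟨j + i, ball_trans h hm hv0 hj hu0 hi⟩

theorem comp_symm {y v : U} (hy : y ≠ 0) (hv0 : v ≠ 0) (hv : v ∈ compSet F G y) :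
    y ∈ compSet F G v := by
  obtain ⟨j, hj⟩ := hv.resolve_left hv0
  exact Or.inr ⟨j, ball_symm h hm hy hv0 hj⟩

theorem comp_smul_mem {y v : U} (c : F) (hv : v ∈ compSet F G y) : c • v ∈ compSet F G y := by
  rcases hv with rfl | ⟨i, hi⟩
  · exact Or.inl (smul_zero c)
  · cases i with
    | zero => exact Or.inr ⟨0, Submodule.smul_mem _ c hi⟩
    | succ i =>
      obtain ⟨z, hz, hz0, hvz⟩ := hi
      exact Or.inr ⟨i + 1, z, hz, hz0, Submodule.smul_mem _ c hvz⟩

theorem comp_add_mem {y u v : U} (hy : y ≠ 0) (hu : u ∈ compSet F G y) (hv : v ∈ compSet F G y) :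
    u + v ∈ compSet F G y := by
  by_cases hu0 : u = 0
  · simpa [hu0] using hv
  by_cases hv0 : v = 0
  · simpa [hv0] using hu
  by_cases huv : v ∈ wsp F G u
  · refine comp_trans h hm hu0 hu (Or.inr ⟨1, ?_⟩)
    rw [ball_one h hm hu0]
    exact Submodule.add_mem _ (self_mem_wsp h hu0 hm) huv
  · obtain ⟨g, hg, hgv⟩ := translate_orbit h hm hu0 huv (self_mem_wsp h hu0 hm)
    obtain ⟨hgG, hgu⟩ := (mem_lineStab h hu0).1 hg
    have hgu0 : g u ≠ 0 := fun hc => hu0 (g.map_eq_zero_iff.1 hc)
    rw [add_comm, ← hgv]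
    refine comp_trans h hm hgu0 (comp_trans h hm hu0 hu (Or.inr ⟨0, hgu⟩)) ?_
    rcases comp_trans h hm hy (comp_symm h hm hy hu0 hu) hv with hc | ⟨i, hi⟩
    · exact absurd hc hv0
    · exact Or.inr ⟨i, ball_map h hm hgG hi⟩

omit h hm

open Classical in
variable (F G) in
/-- The component of a line, as a subspace. -/
noncomputable def comp (y : U) : Submodule F U := Submodule.span F (compSet F G y)

include h hm

theorem mem_comp {y w : U} (hy : y ≠ 0) : w ∈ comp F G y ↔ w ∈ compSet F G y := by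
  refine ⟨fun hw => ?_, fun hw => Submodule.subset_span hw⟩
  induction hw using Submodule.span_induction with
  | mem _ hw => exact hw
  | zero => exact Or.inl rfl
  | add a c _ _ ha hc => exact comp_add_mem h hm hy ha hc
  | smul c a _ ha => exact comp_smul_mem h hm c ha

theorem self_mem_comp {y : U} (hy : y ≠ 0) : y ∈ comp F G y :=
  (mem_comp h hm hy).2 (Or.inr ⟨0, Submodule.mem_span_singleton_self y⟩)

theorem wsp_le_comp {y : U} (hy : y ≠ 0) : wsp F G y ≤ comp F G y := fun w hw => by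
  rw [mem_comp h hm hy]
  exact Or.inr ⟨1, by rwa [ball_one h hm hy]⟩

theorem comp_eq {y v : U} (hy : y ≠ 0) (hv : v ≠ 0) (hvy : v ∈ comp F G y) :
    comp F G v = comp F G y := by
  rw [mem_comp h hm hy] at hvy
  ext w
  rw [mem_comp h hm hy, mem_comp h hm hv]
  exact ⟨comp_trans h hm hv hvy, comp_trans h hm hy (comp_symm h hm hy hv hvy)⟩

theorem comp_map {g : U ≃ₗ[ZMod 2] U} (hg : g ∈ G) {y : U} (hy : y ≠ 0) :
    comp F G (g y) = img h hg (comp F G y) := by
  have hgy : g y ≠ 0 := fun hc => hy (g.map_eq_zero_iff.1 hc)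
  ext w
  rw [mem_img, mem_comp h hm hy, mem_comp h hm hgy]
  constructor
  · rintro (rfl | ⟨i, hi⟩)
    · exact Or.inl (map_zero _)
    · refine Or.inr ⟨i, ?_⟩
      have := ball_map h hm (G.inv_mem hg) hi
      rwa [LinearEquiv.coe_inv, LinearEquiv.symm_apply_apply] at this
  · rintro (hc | ⟨i, hi⟩)
    · exact Or.inl (by simpa using congrArg g hc)
    · exact Or.inr ⟨i, by simpa using ball_map h hm hg hi⟩

theorem finrank_wsp_eq {y z : U} (hy : y ≠ 0) (hz : z ≠ 0) :
    finrank F (wsp F G z) = finrank F (wsp F G y) := by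
  obtain ⟨g, hg, rfl⟩ := trans_vec h hy hz
  rw [wsp_map h hg hy hm, finrank_img]

theorem finrank_comp_eq {y z : U} (hy : y ≠ 0) (hz : z ≠ 0) :
    finrank F (comp F G z) = finrank F (comp F G y) := by
  obtain ⟨g, hg, rfl⟩ := trans_vec h hy hz
  rw [comp_map h hm hg hy, finrank_img]

/-- Every member of the line stabiliser permutes the meets with `wsp y`. -/
theorem inter_map {y z : U} (hy : y ≠ 0) (hz : z ≠ 0) {g : U ≃ₗ[ZMod 2] U}
    (hg : g ∈ lineStab F G y) :
    wsp F G y ⊓ wsp F G (g z) = img h (lineStab_le h y hg) (wsp F G y ⊓ wsp F G z) := by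
  rw [wsp_map h (lineStab_le h y hg) hz hm]
  ext w
  simp only [Submodule.mem_inf, mem_img]
  constructor
  · rintro ⟨h1, h2⟩
    refine ⟨?_, h2⟩
    have := wsp_inv h hm hy ((lineStab F G y).inv_mem hg) h1
    rwa [LinearEquiv.coe_inv] at this
  · rintro ⟨h1, h2⟩
    refine ⟨?_, h2⟩
    have := wsp_inv h hm hy hg h1
    rwa [LinearEquiv.apply_symm_apply] at this

/-- Adjacent distinguished subspaces meet in at least a hyperplane. -/
theorem inter_large {y z : U} (hy : y ≠ 0) (hz : z ∈ wsp F G y)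
    (hz' : z ∉ Submodule.span F {y}) :
    finrank F (wsp F G y) ≤ finrank F ↥(wsp F G y ⊓ wsp F G z) + 1 := by
  classical
  haveI := Fintype.ofFinite U
  set W := wsp F G y with hW
  set P := Submodule.span F {y} with hP
  set D := finrank F W with hD
  set t := finrank F ↥(W ⊓ wsp F G z) with ht
  have hz0 : z ≠ 0 := fun h0 => hz' (h0 ▸ P.zero_mem)
  by_cases htD : D ≤ t
  · omega
  push Not at htD
  set A : Finset U := Finset.univ.filter (fun a => a ∈ W ∧ a ∉ P) with hA
  set B : Finset U := Finset.univ.filter (fun a => a ∉ W) with hB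
  have hrel := Finset.sum_card_bipartiteAbove_eq_sum_card_bipartiteBelow (s := A) (t := B)
    (fun a w => w ∈ wsp F G a)
  simp only [Finset.bipartiteAbove, Finset.bipartiteBelow] at hrel
  have hAc : A.card = 2 ^ (deg F * D) - 2 ^ deg F := by
    rw [← card_wsp_diff h hm hy, Nat.card_coe_set_eq, Set.ncard_eq_toFinset_card']
    congr 1
    ext a; simp [hA, W, P]
  have hab : ∀ a ∈ A, (B.filter (fun w => w ∈ wsp F G a)).card =
      2 ^ (deg F * D) - 2 ^ (deg F * t) := by
    intro a ha
    simp only [hA, Finset.mem_filter, Finset.mem_univ, true_and] at ha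
    have ha0 : a ≠ 0 := fun h0 => ha.2 (h0 ▸ P.zero_mem)
    obtain ⟨g, hg, rfl⟩ := trans_wsp h hm hy hz hz' ha.1 ha.2
    have e1 : B.filter (fun w => w ∈ wsp F G (g z)) =
        Finset.univ.filter (· ∈ wsp F G (g z)) \ Finset.univ.filter (· ∈ W ⊓ wsp F G (g z)) := by
      ext w
      simp only [hB, Finset.mem_filter, Finset.mem_sdiff, Finset.mem_univ, true_and, Submodule.mem_inf]
      tauto
    rw [e1, Finset.card_sdiff_of_subset (fun w hw => by
      simp only [Finset.mem_filter, Finset.mem_univ, true_and, Submodule.mem_inf] at hw ⊢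
      exact hw.2), ← Fintype.card_subtype, ← Fintype.card_subtype, ← Nat.card_eq_fintype_card,
      ← Nat.card_eq_fintype_card]
    show Nat.card (wsp F G (g z)) - Nat.card ↥(W ⊓ wsp F G (g z)) = _
    rw [card_sub h, card_sub h, finrank_wsp_eq h hm hy ha0, hW, inter_map h hm hy hz0 hg, finrank_img]
  rw [Finset.sum_congr rfl hab, Finset.sum_const, smul_eq_mul, hAc] at hrel
  -- the right hand side is a multiple of the size of a coset of `W`
  have hdiv : 2 ^ (deg F * D) ∣ ∑ w ∈ B, (A.filter (fun a => w ∈ wsp F G a)).card := by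
    have hconst : ∀ w ∈ B, ∀ u ∈ W, (A.filter (fun a => w + u ∈ wsp F G a)).card =
        (A.filter (fun a => w ∈ wsp F G a)).card := by
      intro w hw u hu
      simp only [hB, Finset.mem_filter, Finset.mem_univ, true_and] at hw
      obtain ⟨g, hg, hgw⟩ := translate_orbit h hm hy hw hu
      have hgG := lineStab_le h y hg
      refine (Finset.card_nbij' (fun a => g a) (fun a => g.symm a) ?_ ?_
        (fun a _ => g.symm_apply_apply a) (fun a _ => g.apply_symm_apply a)).symm
      · intro a ha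
        simp only [hA, Finset.coe_filter, Finset.mem_univ, true_and, Set.mem_ofPred_eq,
          Finset.mem_filter] at ha ⊢
        refine ⟨⟨wsp_inv h hm hy hg ha.1.1, inv_ne_line h hy hg ha.1.2⟩, ?_⟩
        rw [← hgw, wsp_map h hgG (fun (h0 : a = 0) => ha.1.2 (h0 ▸ P.zero_mem)) hm]
        exact (apply_mem_img h hgG).2 ha.2
      · intro a ha
        simp only [hA, Finset.coe_filter, Finset.mem_univ, true_and, Set.mem_ofPred_eq,
          Finset.mem_filter] at ha ⊢
        have hgi := (lineStab F G y).inv_mem hg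
        refine ⟨⟨wsp_inv h hm hy hgi ha.1.1, inv_ne_line h hy hgi ha.1.2⟩, ?_⟩
        rw [show g.symm a = g⁻¹ a from rfl, ← g.symm_apply_apply w, hgw,
          show g.symm (w + u) = g⁻¹ (w + u) from rfl,
          wsp_map h (G.inv_mem hgG) (fun (h0 : a = 0) => ha.1.2 (h0 ▸ P.zero_mem)) hm]
        exact (apply_mem_img h (G.inv_mem hgG)).2 ha.2
    rw [← Finset.sum_fiberwise_of_maps_to (g := fun w => W.mkQ w)
      (t := B.image fun w => W.mkQ w) (fun w hw => Finset.mem_image_of_mem _ hw)]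
    refine Finset.dvd_sum fun c hc => ?_
    obtain ⟨w0, hw0, rfl⟩ := Finset.mem_image.1 hc
    have hfib : B.filter (fun w => W.mkQ w = W.mkQ w0) =
        (Finset.univ.filter (· ∈ W)).image (fun u => w0 + u) := by
      ext w
      simp only [hB, Finset.mem_filter, Finset.mem_univ, true_and, Finset.mem_image] at hw0 ⊢
      constructor
      · rintro ⟨-, hw⟩
        refine ⟨w - w0, (Submodule.Quotient.eq W).1 hw, by abel⟩
      · rintro ⟨u, hu, rfl⟩
        exact ⟨fun hc => hw0 (by simpa using W.sub_mem hc hu),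
          (Submodule.Quotient.eq W).2 (by simpa using hu)⟩
    rw [hfib, Finset.sum_image (fun a _ c _ hac => add_left_cancel hac),
      Finset.sum_congr rfl (fun u hu => hconst w0 hw0 u (Finset.mem_filter.1 hu).2),
      Finset.sum_const, smul_eq_mul]
    refine dvd_mul_of_dvd_left ?_ _
    rw [← Fintype.card_subtype, ← Nat.card_eq_fintype_card]
    exact (card_sub h W).symm ▸ dvd_rfl
  rw [← hrel] at hdiv
  -- compare the two-parts
  have hb := (card_F h).2
  have hD2 : 2 ≤ D := finrank_wsp h hm hy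
  have f1 : ∀ A B : ℕ, B < A → ¬ 2 ^ (B + 1) ∣ 2 ^ A - 2 ^ B := by
    intro A B hAB hd
    have h1 := Nat.dvd_sub (pow_dvd_pow 2 (by omega : B + 1 ≤ A)) hd
    rw [Nat.sub_sub_self (Nat.pow_le_pow_right (by norm_num) hAB.le)] at h1
    exact absurd ((Nat.pow_dvd_pow_iff_le_right (le_refl 2)).1 h1) (by omega)
  by_contra hlt
  have hlt' : deg F * (t + 2) ≤ deg F * D := Nat.mul_le_mul_left _ (by omega)
  have e0 : deg F * (t + 2) = deg F * t + deg F + deg F := by ring
  generalize hX : deg F * D = X at *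
  generalize hY : deg F * t = Y at *
  generalize deg F * (t + 2) = Z at *
  refine f1 X (deg F) (by omega) (two_pow_dvd (c := Y) (y := 2 ^ X - 2 ^ Y) ?_ (f1 X Y (by omega)))
  exact (pow_dvd_pow 2 (show deg F + 1 + Y ≤ X by omega)).trans hdiv

end Cfsg.Lib.AntiflagTwo
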