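import Mathlib
import Cfsg.Agent.AntiflagTwo.Comp

/-!
The two small cases: distinguished subspaces that coincide along adjacency, and polar spaces.
-/

set_option autoImplicit false
set_option linter.unusedSectionVars false

namespace Cfsg.Lib.AntiflagTwo

open Module

variable {F : Type*} [Field F] [Finite F] {U : Type*} [AddCommGroup U] [Module (ZMod 2) U]
  [Module F U] [Finite U] {G : Subgroup (U ≃ₗ[ZMod 2] U)}

variable (h : Setting F G)
include h

variable (hm : 2 ≤ finrank F U)
include hm

/-- A subspace containing a line and closed under adjacency contains the component. -/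
theorem comp_le {y : U} (hy : y ≠ 0) {X : Submodule F U} (hyX : y ∈ X)
    (hX : ∀ u ∈ X, u ≠ 0 → wsp F G u ≤ X) : comp F G y ≤ X := by
  intro w hw
  rcases (mem_comp h hm hy).1 hw with rfl | ⟨i, hi⟩
  · exact X.zero_mem
  induction i generalizing w with
  | zero => exact Submodule.span_le.2 (Set.singleton_subset_iff.2 hyX) hi
  | succ i ih =>
    obtain ⟨z, hz, hz0, hwz⟩ := hi
    exact hX z (ih ((mem_comp h hm hy).2 (Or.inr ⟨i, hz⟩)) hz) hz0 hwz

theorem inter_const {y z z' : U} (hy : y ≠ 0) (hz : z ∈ wsp F G y)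
    (hz' : z ∉ Submodule.span F {y}) (h1 : z' ∈ wsp F G y) (h2 : z' ∉ Submodule.span F {y}) :
    finrank F ↥(wsp F G y ⊓ wsp F G z') = finrank F ↥(wsp F G y ⊓ wsp F G z) := by
  obtain ⟨g, hg, rfl⟩ := trans_wsp h hm hy hz hz' h1 h2
  rw [inter_map h hm hy (fun (h0 : z = 0) => hz' (h0 ▸ Submodule.zero_mem _)) hg, finrank_img]

theorem notMem_line {y z : U} (hy : y ≠ 0) (hz : z ∉ Submodule.span F {y}) :
    y ∉ Submodule.span F {z} := fun hc => hz (by
  obtain ⟨c, hc⟩ := Submodule.mem_span_singleton.1 hc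
  have hc0 : c ≠ 0 := fun h0 => hy (by simp [← hc, h0])
  exact Submodule.mem_span_singleton.2 ⟨c⁻¹, by rw [← hc, smul_smul, inv_mul_cancel₀ hc0, one_smul]⟩)

/-- If adjacent subspaces coincide, the component is the distinguished subspace. -/
theorem comp_eq_wsp {y : U} (hy : y ≠ 0)
    (hall : ∀ y z : U, y ≠ 0 → z ∈ wsp F G y → z ∉ Submodule.span F {y} →
      wsp F G y ≤ wsp F G z) : comp F G y = wsp F G y := by
  refine le_antisymm (comp_le h hm hy (self_mem_wsp h hy hm) fun u hu hu0 => ?_)
    (wsp_le_comp h hm hy)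
  by_cases hul : u ∈ Submodule.span F {y}
  · obtain ⟨c, rfl⟩ := Submodule.mem_span_singleton.1 hul
    rw [wsp_smul h fun hc : c = 0 => hu0 (by simp [hc])]
  · exact hall u y hu0 (wsp_symm h hm hy hu0 hu) (notMem_line h hm hy hul)

/-- The fibres of `z ↦ wsp y ⊓ wsp z` are the planes on `y`. -/
theorem mem_plane_of_inter_eq {y z z' : U} (hy : y ≠ 0) (hz : z ∈ wsp F G y)
    (hz' : z ∉ Submodule.span F {y}) (h1 : z' ∈ wsp F G y) (h2 : z' ∉ Submodule.span F {y})
    (ht : finrank F ↥(wsp F G y ⊓ wsp F G z) + 1 = finrank F (wsp F G y))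
    (he : wsp F G y ⊓ wsp F G z' = wsp F G y ⊓ wsp F G z) :
    z' ∈ Submodule.span F {y} ⊔ Submodule.span F {z} := by
  classical
  haveI := Fintype.ofFinite U
  haveI := Fintype.ofFinite (Dual (ZMod 2) U)
  set W := wsp F G y with hW
  set P := Submodule.span F {y} with hP
  set J : U → Submodule F U := fun a => W ⊓ wsp F G a with hJ
  set A : Finset U := Finset.univ.filter (fun a => a ∈ W ∧ a ∉ P) with hA
  set B : Finset (Dual (ZMod 2) U) :=
    Finset.univ.filter (fun f => f ∈ ann P ∧ f ∉ ann W) with hB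
  have hrel := Finset.sum_card_bipartiteAbove_eq_sum_card_bipartiteBelow (s := A) (t := B)
    (fun a f => f ∈ ann (J a))
  simp only [Finset.bipartiteAbove, Finset.bipartiteBelow] at hrel
  have hcA : ∀ X : Submodule F U, (Finset.univ.filter (· ∈ X)).card = 2 ^ (deg F * finrank F X) := by
    intro X; rw [← Fintype.card_subtype, ← Nat.card_eq_fintype_card]; exact card_sub h X
  have hcB : ∀ X : Submodule F U, (Finset.univ.filter (· ∈ ann X)).card =
      2 ^ (deg F * (finrank F U - finrank F X)) := by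
    intro X; rw [← Fintype.card_subtype, ← Nat.card_eq_fintype_card]; exact card_ann h X
  have hAc : A.card = 2 ^ (deg F * finrank F W) - 2 ^ deg F := by
    have : A = Finset.univ.filter (· ∈ W) \ Finset.univ.filter (· ∈ P) := by ext a; simp [hA]
    rw [this, Finset.card_sdiff_of_subset (fun a ha => by
      simp only [Finset.mem_filter, Finset.mem_univ, true_and] at ha ⊢
      exact (good_wsp h hy hm).1.le ha), hcA, hcA, finrank_span_singleton hy, mul_one]
  have hBc : B.card = 2 ^ (deg F * (finrank F U - 1)) -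
      2 ^ (deg F * (finrank F U - finrank F W)) := by
    have : B = Finset.univ.filter (· ∈ ann P) \ Finset.univ.filter (· ∈ ann W) := by
      ext a; simp [hB]
    rw [this, Finset.card_sdiff_of_subset (fun a ha => by
      simp only [Finset.mem_filter, Finset.mem_univ, true_and] at ha ⊢
      exact ann_le_iff.2 (good_wsp h hy hm).1.le ha), hcB, hcB, finrank_span_singleton hy]
  have hy' : ∀ a, a ∈ W → a ∉ P → P ≤ J a := fun a ha hap => le_inf (good_wsp h hy hm).1.le
    (Submodule.span_le.2 (Set.singleton_subset_iff.2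
      (wsp_symm h hm hy (fun h0 => hap (h0 ▸ P.zero_mem)) ha)))
  have habove : ∀ a ∈ A, (B.filter (fun f => f ∈ ann (J a))).card =
      2 ^ (deg F * (finrank F U - finrank F (J z))) -
        2 ^ (deg F * (finrank F U - finrank F W)) := by
    intro a ha
    simp only [hA, Finset.mem_filter, Finset.mem_univ, true_and] at ha
    have e1 : B.filter (fun f => f ∈ ann (J a)) =
        Finset.univ.filter (· ∈ ann (J a)) \ Finset.univ.filter (· ∈ ann W) := by
      ext f
      simp only [hB, Finset.mem_filter, Finset.mem_sdiff, Finset.mem_univ, true_and]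
      exact ⟨fun hf => ⟨hf.2, hf.1.2⟩, fun hf => ⟨⟨ann_le_iff.2 (hy' a ha.1 ha.2) hf.1, hf.2⟩, hf.1⟩⟩
    rw [e1, Finset.card_sdiff_of_subset (fun f hf => by
      simp only [Finset.mem_filter, Finset.mem_univ, true_and] at hf ⊢
      exact ann_le_iff.2 inf_le_left hf), hcB, hcB]
    congr 4
    exact inter_const h hm hy hz hz' ha.1 ha.2
  obtain ⟨f, hf, hfn⟩ := exists_not_ann (show J z < W from lt_of_le_of_ne inf_le_left
    fun hc => by have : finrank F (J z) = finrank F W := by rw [hc]
                 change finrank F ↥(W ⊓ wsp F G z) = finrank F W at this; omega)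
  have hfB : f ∈ B := Finset.mem_filter.2
    ⟨Finset.mem_univ _, ann_le_iff.2 (hy' z hz hz') hf, hfn⟩
  have hbelow : ∀ f' ∈ B, (A.filter (fun a => f' ∈ ann (J a))).card =
      (A.filter (fun a => f ∈ ann (J a))).card := by
    intro f' hf'
    simp only [hB, Finset.mem_filter, Finset.mem_univ, true_and] at hf'
    obtain ⟨g, hg, rfl⟩ := (good_wsp h hy hm).2.2 f f' (ann_le_iff.2 (hy' z hz hz') hf) hfn hf'.1 hf'.2
    have hgG := lineStab_le h y hg
    have hmv : ∀ a, a ≠ 0 → (g • f ∈ ann (J (g a)) ↔ f ∈ ann (J a)) := fun a ha => by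
      simp only [hJ]
      rw [inter_map h hm hy ha hg, smul_mem_ann]
    refine (Finset.card_nbij' (fun a => g a) (fun a => g.symm a) ?_ ?_
      (fun a _ => g.symm_apply_apply a) (fun a _ => g.apply_symm_apply a)).symm
    · intro a ha
      simp only [hA, Finset.coe_filter, Finset.mem_univ, true_and, Set.mem_ofPred_eq,
        Finset.mem_filter] at ha ⊢
      exact ⟨⟨wsp_inv h hm hy hg ha.1.1, inv_ne_line h hy hg ha.1.2⟩,
        (hmv a fun (h0 : a = 0) => ha.1.2 (h0 ▸ P.zero_mem)).2 ha.2⟩
    · intro a ha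
      simp only [hA, Finset.coe_filter, Finset.mem_univ, true_and, Set.mem_ofPred_eq,
        Finset.mem_filter] at ha ⊢
      have hgi := (lineStab F G y).inv_mem hg
      refine ⟨⟨wsp_inv h hm hy hgi ha.1.1, inv_ne_line h hy hgi ha.1.2⟩, ?_⟩
      have := hmv (g.symm a) (fun h0 => ha.1.2 (by
        rw [show a = 0 by simpa using congrArg g h0]; exact P.zero_mem))
      rw [LinearEquiv.apply_symm_apply] at this
      exact this.1 ha.2
  rw [Finset.sum_congr rfl habove, Finset.sum_congr rfl hbelow, Finset.sum_const, Finset.sum_const,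
    smul_eq_mul, smul_eq_mul, hAc, hBc] at hrel
  -- the fibre is exactly one punctured plane
  set S := A.filter (fun a => f ∈ ann (J a))
  set Q := P ⊔ Submodule.span F {z} with hQ
  have hQsub : Finset.univ.filter (fun a => a ∈ Q ∧ a ∉ P) ⊆ S := by
    intro a ha
    simp only [Finset.mem_filter, Finset.mem_univ, true_and] at ha
    have haW : a ∈ W := (sup_le (good_wsp h hy hm).1.le
      (Submodule.span_le.2 (Set.singleton_subset_iff.2 hz))) ha.1
    refine Finset.mem_filter.2 ⟨Finset.mem_filter.2 ⟨Finset.mem_univ _, haW, ha.2⟩, ?_⟩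
    refine ann_le_iff.2 ?_ hf
    have ha0 : a ≠ 0 := fun h0 => ha.2 (h0 ▸ P.zero_mem)
    have hz0 : z ≠ 0 := fun h0 => hz' (h0 ▸ P.zero_mem)
    have hle : J z ≤ J a := by
      intro v hv
      refine ⟨hv.1, ?_⟩
      by_cases hv0 : v = 0
      · rw [hv0]; exact Submodule.zero_mem _
      refine wsp_symm h hm hv0 ha0 ?_
      exact (sup_le (Submodule.span_le.2 (Set.singleton_subset_iff.2 (wsp_symm h hm hy hv0 hv.1)))
        (Submodule.span_le.2 (Set.singleton_subset_iff.2 (wsp_symm h hm hz0 hv0 hv.2)))) ha.1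
    exact (Submodule.eq_of_le_of_finrank_eq hle (inter_const h hm hy hz hz' haW ha.2).symm).ge
  have hQc : (Finset.univ.filter (fun a => a ∈ Q ∧ a ∉ P)).card =
      2 ^ (deg F * 2) - 2 ^ deg F := by
    have : Finset.univ.filter (fun a => a ∈ Q ∧ a ∉ P) =
        Finset.univ.filter (· ∈ Q) \ Finset.univ.filter (· ∈ P) := by ext a; simp
    rw [this, Finset.card_sdiff_of_subset (fun a ha => by
      simp only [Finset.mem_filter, Finset.mem_univ, true_and] at ha ⊢
      exact (le_sup_left : P ≤ Q) ha), hcA, hcA, finrank_span_singleton hy, mul_one]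
    congr 3
    have h1 := Submodule.finrank_sup_add_finrank_inf_eq P (Submodule.span F {z})
    have h2 : finrank F (Submodule.span F {z}) = 1 :=
      finrank_span_singleton (fun h0 => hz' (h0 ▸ P.zero_mem))
    have h3 : finrank F P = 1 := finrank_span_singleton hy
    have h4 : P ⊓ Submodule.span F {z} = ⊥ := by
      rw [eq_bot_iff]
      rintro v ⟨hv, hv'⟩
      obtain ⟨c, rfl⟩ := Submodule.mem_span_singleton.1 hv'
      by_contra hc
      exact hz' ((Submodule.smul_mem_iff P (fun h0 : c = 0 => hc (by simp [h0]))).1 hv)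
    rw [← hQ, h4, finrank_bot] at h1
    omega
  have hSc : S.card = 2 ^ (deg F * 2) - 2 ^ deg F := by
    set D := finrank F W with hD
    set N := finrank F U with hN
    have hDN : D ≤ N := Submodule.finrank_le W
    have hD2 : 2 ≤ D := finrank_wsp h hm hy
    rw [show finrank F (J z) = D - 1 by show finrank F ↥(W ⊓ wsp F G z) = D - 1; omega] at hrel
    set X := 2 ^ (deg F * (N - D)) with hX
    set q := 2 ^ deg F with hq
    have hq1 : 1 < q := Nat.one_lt_two_pow (card_F h).2.ne'
    have hp : ∀ a, 2 ^ (deg F * a) = q ^ a := fun a => pow_mul 2 _ a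
    obtain ⟨r, hr⟩ : ∃ r, q ^ (D - 1) = r + 1 :=
      ⟨q ^ (D - 1) - 1, (Nat.sub_add_cancel (Nat.one_le_pow _ _ (by omega))).symm⟩
    have hr0 : 0 < r := by
      have : q ^ 1 ≤ q ^ (D - 1) := Nat.pow_le_pow_right (by omega) (by omega)
      rw [pow_one] at this
      omega
    have hX' : X = q ^ (N - D) := hp _
    have eA : 2 ^ (deg F * D) - q = q * r := by
      rw [hp, show q ^ D = q ^ (D - 1) * q by rw [← pow_succ]; congr 1; omega, hr, add_mul,
        one_mul, Nat.add_sub_cancel, mul_comm]
    have eB : 2 ^ (deg F * (N - 1)) - X = X * r := by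
      rw [hp, show N - 1 = (N - D) + (D - 1) by omega, pow_add, ← hX', hr, mul_add, mul_one,
        Nat.add_sub_cancel]
    have eJ : 2 ^ (deg F * (N - (D - 1))) - X = X * (q - 1) := by
      rw [hp, show N - (D - 1) = (N - D) + 1 by omega, pow_succ, ← hX', Nat.mul_sub_one]
    rw [eA, eB, eJ] at hrel
    have hX0 : 0 < X := by positivity
    have : S.card = q * (q - 1) := by
      refine Nat.eq_of_mul_eq_mul_left (Nat.mul_pos hX0 hr0) ?_
      rw [← hrel]; ring
    rw [this, hp, Nat.mul_sub_one, sq]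
  have hSeq := Finset.eq_of_subset_of_card_le hQsub (by rw [hSc, hQc])
  have hmem : z' ∈ S := Finset.mem_filter.2
    ⟨Finset.mem_filter.2 ⟨Finset.mem_univ _, h1, h2⟩, ann_le_iff.2 he.le hf⟩
  rw [← hSeq] at hmem
  exact (Finset.mem_filter.1 hmem).2.1

/-- The polar case: the component is one larger than the distinguished subspace. -/
theorem finrank_comp_polar {y : U} (hy : y ≠ 0) (hD : 4 ≤ finrank F (wsp F G y))
    (hne : ∀ y z : U, y ≠ 0 → z ∈ wsp F G y → z ∉ Submodule.span F {y} →
      finrank F ↥(wsp F G y ⊓ wsp F G z) + 1 = finrank F (wsp F G y)) :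
    finrank F (comp F G y) = finrank F (wsp F G y) + 1 := by
  classical
  set D := finrank F (wsp F G y) with hDdef
  have hDeq : ∀ u : U, u ≠ 0 → finrank F (wsp F G u) = D := fun u hu => finrank_wsp_eq h hm hy hu
  -- one step
  have step : ∀ a z v : U, a ≠ 0 → z ∈ wsp F G a → z ∉ Submodule.span F {a} →
      v ∈ wsp F G a ⊓ wsp F G z → v ∉ Submodule.span F {a} ⊔ Submodule.span F {z} →
      wsp F G v ≤ wsp F G a ⊔ wsp F G z := by
    intro a z v ha hz hz' hv hv'
    have hva : v ∉ Submodule.span F {a} := fun hc => hv' (Submodule.mem_sup_left hc)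
    have hvz : v ∉ Submodule.span F {z} := fun hc => hv' (Submodule.mem_sup_right hc)
    have hv0 : v ≠ 0 := fun h0 => hva (h0 ▸ Submodule.zero_mem _)
    have hz0 : z ≠ 0 := fun h0 => hz' (h0 ▸ Submodule.zero_mem _)
    set Jv := wsp F G a ⊓ wsp F G v with hJv
    set J' := wsp F G z ⊓ wsp F G v with hJ'
    have e1 := hne a v ha hv.1 hva
    have e2 := hne z v hz0 hv.2 hvz
    have e3 := hne a z ha hz hz'
    rw [hDeq a ha] at e1 e3
    rw [hDeq z hz0] at e2
    have hnle : ¬ J' ≤ Jv := by
      intro hle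
      have hee : J' = Jv := Submodule.eq_of_le_of_finrank_eq hle
        (by rw [← hJ'] at e2; rw [← hJv] at e1; omega)
      have hle2 : Jv ≤ wsp F G a ⊓ wsp F G z := le_inf inf_le_left (hee ▸ inf_le_left)
      exact hv' (mem_plane_of_inter_eq h hm ha hz hz' hv.1 hva
        (by rw [hDeq a ha]; exact e3) (Submodule.eq_of_le_of_finrank_eq hle2 (by omega)))
    have hlt : Jv < Jv ⊔ J' := lt_of_le_of_ne le_sup_left fun hc => hnle (by rw [hc]; exact le_sup_right)
    have h4 := Submodule.finrank_lt_finrank_of_lt hlt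
    have h5 : Jv ⊔ J' ≤ wsp F G v := sup_le inf_le_right inf_le_right
    have h6 := Submodule.finrank_mono h5
    rw [hDeq v hv0] at h6
    rw [← hJv] at e1
    rw [← Submodule.eq_of_le_of_finrank_eq h5 (by rw [hDeq v hv0]; omega)]
    exact sup_le_sup inf_le_left inf_le_left
  have hTdim : ∀ a z : U, a ≠ 0 → z ∈ wsp F G a → z ∉ Submodule.span F {a} →
      finrank F ↥(wsp F G a ⊔ wsp F G z) = D + 1 := by
    intro a z ha hz hz'
    have := Submodule.finrank_sup_add_finrank_inf_eq (wsp F G a) (wsp F G z)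
    have e := hne a z ha hz hz'
    rw [hDeq a ha] at e
    rw [hDeq a ha, hDeq z (fun h0 => hz' (h0 ▸ Submodule.zero_mem _))] at this
    omega
  have hline : ∀ u : U, u ≠ 0 → finrank F (Submodule.span F {u}) = 1 :=
    fun u hu => finrank_span_singleton hu
  have exv : ∀ (a z : U) (X : Submodule F U), a ≠ 0 → z ∈ wsp F G a →
      z ∉ Submodule.span F {a} → finrank F X < D - 1 →
      ∃ v ∈ wsp F G a ⊓ wsp F G z, v ∉ X := by
    intro a z X ha hz hz' hX
    by_contra hc
    push Not at hc
    have h1 := Submodule.finrank_mono (show wsp F G a ⊓ wsp F G z ≤ X from hc)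
    have e := hne a z ha hz hz'
    rw [hDeq a ha] at e
    omega
  -- the join is constant along adjacency
  have hT : ∀ a z v : U, a ≠ 0 → z ∈ wsp F G a → z ∉ Submodule.span F {a} →
      v ∈ wsp F G a ⊓ wsp F G z → v ∉ Submodule.span F {a} →
      wsp F G a ⊔ wsp F G v = wsp F G a ⊔ wsp F G z := by
    intro a z v ha hz hz' hv hva
    have hz0 : z ≠ 0 := fun h0 => hz' (h0 ▸ Submodule.zero_mem _)
    have big : ∀ v : U, v ∈ wsp F G a ⊓ wsp F G z →
        v ∉ Submodule.span F {a} ⊔ Submodule.span F {z} →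
        wsp F G a ⊔ wsp F G v = wsp F G a ⊔ wsp F G z := fun v hv hv' =>
      Submodule.eq_of_le_of_finrank_eq (sup_le le_sup_left (step a z v ha hz hz' hv hv'))
        (by rw [hTdim a z ha hz hz',
          hTdim a v ha hv.1 fun hc => hv' (Submodule.mem_sup_left hc)])
    by_cases hv' : v ∈ Submodule.span F {a} ⊔ Submodule.span F {z}
    · have hv0 : v ≠ 0 := fun h0 => hva (h0 ▸ Submodule.zero_mem _)
      have hQ : finrank F ↥(Submodule.span F {a} ⊔ Submodule.span F {z}) < D - 1 := by
        have := Submodule.finrank_add_le_finrank_add_finrank (Submodule.span F {a}) (Submodule.span F {z})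
        rw [hline a ha, hline z hz0] at this
        omega
      obtain ⟨w, hw, hw'⟩ := exv a z _ ha hz hz' hQ
      have hw0 : w ≠ 0 := fun h0 => hw' (h0 ▸ Submodule.zero_mem _)
      rw [← big w hw hw']
      -- both lie with `w` in a common meet
      have hwv : w ∈ wsp F G v := by
        obtain ⟨p, hp, r, hr, rfl⟩ := Submodule.mem_sup.1 hv'
        refine wsp_symm h hm hw0 hv0 (Submodule.add_mem _ ?_ ?_)
        · exact Submodule.span_le.2 (Set.singleton_subset_iff.2 (wsp_symm h hm ha hw0 hw.1)) hp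
        · exact Submodule.span_le.2 (Set.singleton_subset_iff.2 (wsp_symm h hm hz0 hw0 hw.2)) hr
      have hle := step a v w ha hv.1 hva ⟨hw.1, hwv⟩ fun hc => hw' (by
        exact (sup_le le_sup_left (Submodule.span_le.2 (Set.singleton_subset_iff.2 hv'))) hc)
      exact (Submodule.eq_of_le_of_finrank_eq (sup_le le_sup_left hle) (by
        rw [hTdim a v ha hv.1 hva,
          hTdim a w ha hw.1 fun hc => hw' (Submodule.mem_sup_left hc)])).symm
    · exact big v hv hv'
  have hTc : ∀ a z z' : U, a ≠ 0 → z ∈ wsp F G a → z ∉ Submodule.span F {a} →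
      z' ∈ wsp F G a → z' ∉ Submodule.span F {a} →
      wsp F G a ⊔ wsp F G z = wsp F G a ⊔ wsp F G z' := by
    intro a z z' ha hz hz' hw hw'
    set J := wsp F G a ⊓ wsp F G z
    set J' := wsp F G a ⊓ wsp F G z'
    have e := hne a z ha hz hz'
    have e' := hne a z' ha hw hw'
    rw [hDeq a ha] at e e'
    have hsum := Submodule.finrank_sup_add_finrank_inf_eq J J'
    have hsle := Submodule.finrank_mono (sup_le inf_le_left inf_le_left : J ⊔ J' ≤ wsp F G a)
    rw [hDeq a ha] at hsle
    obtain ⟨v, hvJ, hva⟩ : ∃ v ∈ J ⊓ J', v ∉ Submodule.span F {a} := by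
      by_contra hc
      push Not at hc
      have h1 := Submodule.finrank_mono (show J ⊓ J' ≤ Submodule.span F {a} from hc)
      rw [hline a ha] at h1
      change finrank F J + 1 = D at e
      change finrank F J' + 1 = D at e'
      omega
    rw [← hT a z v ha hz hz' hvJ.1 hva, hT a z' v ha hw hw' hvJ.2 hva]
  obtain ⟨z, hz, hz'⟩ := Set.exists_of_ssubset (good_wsp h hy hm).1
  set T := wsp F G y ⊔ wsp F G z with hTdef
  -- every point of the component gives the same join
  have key : ∀ i, ∀ u : U, u ≠ 0 → u ∈ ball F G i y → ∀ x, x ∈ wsp F G u →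
      x ∉ Submodule.span F {u} → wsp F G u ⊔ wsp F G x = T := by
    intro i
    induction i with
    | zero =>
      intro u hu hui x hx hx'
      obtain ⟨c, rfl⟩ := Submodule.mem_span_singleton.1 hui
      have hc : c ≠ 0 := fun h0 => hu (by simp [h0])
      rw [wsp_smul h hc] at hx ⊢
      rw [Submodule.span_singleton_smul_eq hc.isUnit] at hx'
      exact (hTc y z x hy hz hz' hx hx').symm
    | succ i ih =>
      intro u hu hui x hx hx'
      obtain ⟨w, hw, hw0, huw⟩ := hui
      by_cases huw' : u ∈ Submodule.span F {w}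
      · obtain ⟨c, rfl⟩ := Submodule.mem_span_singleton.1 huw'
        have hc : c ≠ 0 := fun h0 => hu (by simp [h0])
        rw [wsp_smul h hc] at hx ⊢
        rw [Submodule.span_singleton_smul_eq hc.isUnit] at hx'
        exact ih w hw0 hw x hx hx'
      · rw [hTc u x w hu hx hx' (wsp_symm h hm hw0 hu huw) (notMem_line h hm hw0 huw'),
          sup_comm]
        exact ih w hw0 hw u huw huw'
  have hle : comp F G y ≤ T := by
    intro u hu
    by_cases hu0 : u = 0
    · rw [hu0]; exact T.zero_mem
    obtain ⟨i, hi⟩ := ((mem_comp h hm hy).1 hu).resolve_left hu0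
    obtain ⟨x, hx, hx'⟩ := Set.exists_of_ssubset (good_wsp h hu0 hm).1
    rw [← key i u hu0 hi x hx hx']
    exact Submodule.mem_sup_left (self_mem_wsp h hu0 hm)
  have hz0 : z ≠ 0 := fun h0 => hz' (h0 ▸ Submodule.zero_mem _)
  rw [le_antisymm hle (sup_le (wsp_le_comp h hm hy)
    (comp_eq h hm hy hz0 (wsp_le_comp h hm hy hz) ▸ wsp_le_comp h hm hz0)), hTdim y z hy hz hz']

end Cfsg.Lib.AntiflagTwo
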