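import Mathlib
import Cfsg.Agent.AntiflagTwo.Hyper

/-!
The layers around a line when the distinguished subspaces are planes over the line.
-/

set_option autoImplicit false
set_option linter.unusedSectionVars false

namespace Cfsg.Lib.AntiflagTwo

open Module

variable {F : Type*} [Field F] [Finite F] {U : Type*} [AddCommGroup U] [Module (ZMod 2) U]
  [Module F U] [Finite U] {G : Subgroup (U ≃ₗ[ZMod 2] U)}

/-- The largest subspace over the field killed by a functional over the prime field. -/
def killed (f : Dual (ZMod 2) U) : Submodule F U where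
  carrier := {w | ∀ c : F, f (c • w) = 0}
  add_mem' ha hb c := by rw [smul_add, map_add, ha c, hb c, add_zero]
  zero_mem' c := by rw [smul_zero, map_zero]
  smul_mem' c w hw d := by rw [smul_smul]; exact hw _

theorem le_killed {f : Dual (ZMod 2) U} {X : Submodule F U} : X ≤ killed f ↔ f ∈ ann X := by
  rw [mem_ann]
  exact ⟨fun hX u hu => by simpa using hX hu 1, fun hX u hu c => hX _ (X.smul_mem c hu)⟩

variable (F G) in
/-- The span of a ball. -/
def ballSpan (i : ℕ) (y : U) : Submodule F U := Submodule.span F (ball F G i y)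

variable (F G) in
/-- The facts about the first `i` layers around every line. -/
structure LayerInv (i : ℕ) : Prop where
  mem : ∀ y : U, y ≠ 0 → ∀ j ≤ i, ∀ u, u ∈ ballSpan F G j y → u ∈ ball F G j y
  dim : ∀ y : U, y ≠ 0 → ∀ j ≤ i, finrank F (ballSpan F G j y) = 2 * j + 1
  trans : ∀ y : U, y ≠ 0 → ∀ j < i, ∀ u v : U, u ∈ ballSpan F G (j + 1) y → u ∉ ballSpan F G j y →
    v ∈ ballSpan F G (j + 1) y → v ∉ ballSpan F G j y → ∃ g ∈ lineStab F G y, g u = v
  transDual : ∀ y : U, y ≠ 0 → ∀ j < i, ∀ f f' : Dual (ZMod 2) U, f ∈ ann (ballSpan F G j y) →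
    f ∉ ann (ballSpan F G (j + 1) y) → f' ∈ ann (ballSpan F G j y) →
    f' ∉ ann (ballSpan F G (j + 1) y) → ∃ g ∈ lineStab F G y, g • f = f'
  meet : ∀ y : U, y ≠ 0 → ∀ j < i, ∀ z : U, z ∈ ballSpan F G (j + 1) y → z ∉ ballSpan F G j y →
    finrank F ↥(wsp F G z ⊓ ballSpan F G j y) = 1 ∧
      finrank F ↥(wsp F G z ⊓ ballSpan F G (j + 1) y) = 2

variable (F G) in
/-- The facts about all layers, the last one being the `h₀`-th, in a component of dimension `n`. -/
structure Layered (h₀ n : ℕ) : Prop where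
  two_le : 2 ≤ h₀
  parity : n = 2 * h₀ ∨ n = 2 * h₀ + 1
  mem : ∀ y : U, y ≠ 0 → ∀ j ≤ h₀, ∀ u, u ∈ ballSpan F G j y → u ∈ ball F G j y
  top : ∀ y : U, y ≠ 0 → ballSpan F G h₀ y = comp F G y
  rank : ∀ y : U, y ≠ 0 → finrank F (comp F G y) = n
  meet : ∀ y : U, y ≠ 0 → ∀ j, j + 1 < h₀ → ∀ z : U, z ∈ ballSpan F G (j + 1) y →
    z ∉ ballSpan F G j y → finrank F ↥(wsp F G z ⊓ ballSpan F G j y) = 1 ∧
      finrank F ↥(wsp F G z ⊓ ballSpan F G (j + 1) y) = 2
  last : ∀ y : U, y ≠ 0 → ∀ j, j + 1 = h₀ → ∀ z : U, z ∈ ballSpan F G (j + 1) y →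
    z ∉ ballSpan F G j y → finrank F ↥(wsp F G z ⊓ ballSpan F G j y) = 2 * h₀ + 2 - n

variable (h : Setting F G)
include h

variable (hm : 2 ≤ finrank F U)
include hm

theorem smul_mem_ball {i : ℕ} {y u : U} (c : F) (hu : u ∈ ball F G i y) :
    c • u ∈ ball F G i y := by
  cases i with
  | zero => exact Submodule.smul_mem _ c hu
  | succ i =>
    obtain ⟨z, hz, hz0, huz⟩ := hu
    exact ⟨z, hz, hz0, Submodule.smul_mem _ c huz⟩

theorem ball_smul {y : U} {c : F} (hc : c ≠ 0) : ∀ i, ball F G i (c • y) = ball F G i y := by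
  intro i
  induction i with
  | zero =>
    show (Submodule.span F {c • y} : Set U) = _
    rw [Submodule.span_singleton_smul_eq hc.isUnit]
    rfl
  | succ i ih =>
    show {w | ∃ z ∈ ball F G i (c • y), z ≠ 0 ∧ w ∈ wsp F G z} = _
    rw [ih]
    rfl

theorem ballSpan_zero {y : U} : ballSpan F G 0 y = Submodule.span F {y} :=
  Submodule.span_eq _

theorem ballSpan_one {y : U} (hy : y ≠ 0) : ballSpan F G 1 y = wsp F G y := by
  rw [ballSpan, ball_one h hm hy, Submodule.span_eq]

theorem ballSpan_mono {i : ℕ} {y : U} (hy : y ≠ 0) : ballSpan F G i y ≤ ballSpan F G (i + 1) y :=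
  Submodule.span_mono (ball_mono h hm hy)

theorem ballSpan_mono' {i j : ℕ} (hij : i ≤ j) {y : U} (hy : y ≠ 0) :
    ballSpan F G i y ≤ ballSpan F G j y := by
  induction j, hij using Nat.le_induction with
  | base => exact le_rfl
  | succ j _ ih => exact ih.trans (ballSpan_mono h hm hy)

theorem ballSpan_le_comp {i : ℕ} {y : U} (hy : y ≠ 0) : ballSpan F G i y ≤ comp F G y :=
  Submodule.span_le.2 fun _ hu => (mem_comp h hm hy).2 (Or.inr ⟨i, hu⟩)

theorem ballSpan_inv {i : ℕ} {y : U} (hy : y ≠ 0) {g : U ≃ₗ[ZMod 2] U} (hg : g ∈ lineStab F G y)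
    {u : U} (hu : u ∈ ballSpan F G i y) : g u ∈ ballSpan F G i y := by
  obtain ⟨hgG, hgy⟩ := (mem_lineStab h hy).1 hg
  obtain ⟨c, hc⟩ := Submodule.mem_span_singleton.1 hgy
  have hc0 : c ≠ 0 := by rintro rfl; rw [zero_smul] at hc; exact hy (g.map_eq_zero_iff.1 hc.symm)
  induction hu using Submodule.span_induction with
  | mem x hx =>
    refine Submodule.subset_span ?_
    have := ball_map h hm hgG hx
    rwa [← hc, ball_smul h hm hc0] at this
  | zero => rw [map_zero]; exact Submodule.zero_mem _
  | add a b _ _ ha hb => rw [map_add]; exact Submodule.add_mem _ ha hb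
  | smul d a _ ha =>
    obtain ⟨d', hd'⟩ := h.semi g hgG d
    rw [hd']; exact Submodule.smul_mem _ d' ha

theorem ballSpan_inv' {i : ℕ} {y : U} (hy : y ≠ 0) {g : U ≃ₗ[ZMod 2] U}
    (hg : g ∈ lineStab F G y) {u : U} (hu : u ∉ ballSpan F G i y) : g u ∉ ballSpan F G i y :=
  fun hc => hu (by
    have := ballSpan_inv h hm hy ((lineStab F G y).inv_mem hg) hc
    rwa [LinearEquiv.coe_inv, LinearEquiv.symm_apply_apply] at this)

theorem meet_eq {i : ℕ} {y u : U} (hy : y ≠ 0) (hu : u ≠ 0) {g : U ≃ₗ[ZMod 2] U}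
    (hg : g ∈ lineStab F G y) : finrank F ↥(wsp F G (g u) ⊓ ballSpan F G i y) =
      finrank F ↥(wsp F G u ⊓ ballSpan F G i y) := by
  have hgG := lineStab_le h y hg
  rw [← finrank_img h hgG (wsp F G u ⊓ ballSpan F G i y), wsp_map h hgG hu hm]
  refine (fun {X Y : Submodule F U} (e : X = Y) => by rw [e] :
    ∀ {X Y : Submodule F U}, X = Y → finrank F X = finrank F Y) ?_
  ext w
  simp only [Submodule.mem_inf, mem_img]
  refine and_congr_right fun _ => ⟨fun hw => ?_, fun hw => ?_⟩
  · have := ballSpan_inv h hm hy ((lineStab F G y).inv_mem hg) hw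
    rwa [LinearEquiv.coe_inv] at this
  · have := ballSpan_inv h hm hy hg hw
    rwa [LinearEquiv.apply_symm_apply] at this

theorem wsp_le_ballSpan {i : ℕ} {y z : U} (hz0 : z ≠ 0) (hz : z ∈ ball F G i y) :
    wsp F G z ≤ ballSpan F G (i + 1) y :=
  fun _ hw => Submodule.subset_span ⟨z, hz, hz0, hw⟩

theorem finrank_line_sup {P X : Submodule F U} {u : U} (hu : u ∉ P) (hP : P ≤ X) (huX : u ∈ X) :
    finrank F P + 1 ≤ finrank F X := by
  have : P < X := lt_of_le_of_ne hP fun hc => hu (hc ▸ huX)
  exact Submodule.finrank_lt_finrank_of_lt this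

variable (hD : ∀ u : U, u ≠ 0 → finrank F (wsp F G u) = 3)
  (ht : ∀ y z : U, y ≠ 0 → z ∈ wsp F G y → z ∉ Submodule.span F {y} →
    finrank F ↥(wsp F G y ⊓ wsp F G z) = 2)
include hD ht

theorem layerInv_one : LayerInv F G 1 where
  mem y hy j hj u hu := by
    obtain rfl | rfl : j = 0 ∨ j = 1 := by omega
    · rwa [ballSpan_zero h hm] at hu
    · rw [ballSpan_one h hm hy] at hu
      rw [ball_one h hm hy]; exact hu
  dim y hy j hj := by
    obtain rfl | rfl : j = 0 ∨ j = 1 := by omega
    · rw [ballSpan_zero h hm, finrank_span_singleton hy]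
    · rw [ballSpan_one h hm hy, hD y hy]
  trans y hy j hj u v hu hu' hv hv' := by
    obtain rfl : j = 0 := by omega
    rw [zero_add, ballSpan_one h hm hy] at hu hv
    rw [ballSpan_zero h hm] at hu' hv'
    exact trans_wsp h hm hy hu hu' hv hv'
  transDual y hy j hj f f' hf hf' hv hv' := by
    obtain rfl : j = 0 := by omega
    rw [zero_add, ballSpan_one h hm hy] at hf' hv'
    rw [ballSpan_zero h hm] at hf hv
    exact (good_wsp h hy hm).2.2 f f' hf hf' hv hv'
  meet y hy j hj z hz hz' := by
    obtain rfl : j = 0 := by omega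
    rw [zero_add, ballSpan_one h hm hy] at hz ⊢
    rw [ballSpan_zero h hm] at hz' ⊢
    have hz0 : z ≠ 0 := fun h0 => hz' (h0 ▸ Submodule.zero_mem _)
    refine ⟨?_, by rw [inf_comm]; exact ht y z hy hz hz'⟩
    rw [inf_eq_right.2 (Submodule.span_le.2 (Set.singleton_subset_iff.2 (wsp_symm h hm hy hz0 hz))),
      finrank_span_singleton hy]

/-- The next layer. -/
theorem layer_step {i : ℕ} (hi : 1 ≤ i) (hI : LayerInv F G i) :
    LayerInv F G (i + 1) ∨ ∃ n, Layered F G (i + 1) n := by
  classical
  haveI := finite_equiv (V := U)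
  haveI := Fintype.ofFinite U
  obtain ⟨k, rfl⟩ : ∃ k, i = k + 1 := ⟨i - 1, by omega⟩
  set i := k + 1 with hik
  have hb := (card_F h).2
  -- facts at one line
  have one : ∀ y : U, y ≠ 0 →
      ballSpan F G i y < ballSpan F G (i + 1) y ∧
      (∀ f f' : Dual (ZMod 2) U, f ∈ ann (ballSpan F G i y) → f ∉ ann (ballSpan F G (i + 1) y) →
        f' ∈ ann (ballSpan F G i y) → f' ∉ ann (ballSpan F G (i + 1) y) →
        ∃ g ∈ lineStab F G y, g • f = f') ∧
      (∀ u v : U, u ∈ ballSpan F G (i + 1) y → u ∉ ballSpan F G i y →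
        v ∈ ballSpan F G (i + 1) y → v ∉ ballSpan F G i y → ∃ g ∈ lineStab F G y, g u = v) ∧
      (∀ u, u ∈ ballSpan F G (i + 1) y → u ∈ ball F G (i + 1) y) := by
    intro y hy
    set B := ballSpan F G i y with hB
    set B' := ballSpan F G (i + 1) y with hB'
    have hBd : finrank F B = 2 * i + 1 := hI.dim y hy i le_rfl
    obtain ⟨z, hzB, hzk⟩ : ∃ z ∈ B, z ∉ ballSpan F G k y := by
      by_contra hc; push Not at hc
      have := Submodule.finrank_mono (show B ≤ ballSpan F G k y from hc)
      rw [hBd, hI.dim y hy k (by omega)] at this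
      omega
    have hnz : ∀ w, w ∈ B → w ∉ ballSpan F G k y →
        finrank F ↥(B ⊔ wsp F G w) = 2 * i + 2 := by
      intro w hw hwk
      have h1 := Submodule.finrank_sup_add_finrank_inf_eq B (wsp F G w)
      have h2 := (hI.meet y hy k (by omega) w hw hwk).2
      rw [inf_comm] at h2
      rw [hBd, hD w (fun h0 => hwk (h0 ▸ Submodule.zero_mem _)), ← hik] at *
      change finrank F ↥(B ⊓ wsp F G w) = 2 at h2
      omega
    have hlt : B < B' := by
      refine lt_of_le_of_ne (ballSpan_mono h hm hy) fun hc => ?_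
      have h1 := hnz z hzB hzk
      rw [sup_eq_left.2 ((wsp_le_ballSpan h hm (fun (h0 : z = 0) => hzk (h0 ▸ Submodule.zero_mem _))
        (hI.mem y hy i le_rfl z hzB)).trans hc.ge), hBd] at h1
      omega
    -- one step for a fixed vector of the last layer
    have step : ∀ w, w ∈ B → w ∉ ballSpan F G k y → ∀ f f' : Dual (ZMod 2) U,
        f ∈ ann B → f ∉ ann (B ⊔ wsp F G w) → f' ∈ ann B → f' ∉ ann (B ⊔ wsp F G w) →
        ∃ g ∈ lineStab F G y ⊓ lineStab F G w, g • f = f' := by
      intro w hw hwk f f' hf hfn hf' hfn'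
      have hw0 : w ≠ 0 := fun h0 => hwk (h0 ▸ Submodule.zero_mem _)
      refine trans_ann_of_dvd h le_sup_left (by rw [hnz w hw hwk, hBd])
        (lineStab F G y ⊓ lineStab F G w) (lineStab F G y ⊓ MulAction.stabilizer _ w)
        (inf_le_left.trans (lineStab_le h y))
        (le_inf (scalars_le_lineStab h hy) (scalars_le_lineStab h hw0)) ?_
        (fun g hg u hu => ballSpan_inv h hm hy hg.1 hu) ?_ ?_ hf hfn hf' hfn'
      · intro g hg
        obtain ⟨hg1, hg2⟩ := mem_lineStab_inf hg
        exact ⟨hg1, (mem_lineStab h hw0).2 ⟨lineStab_le h y hg1,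
          hg2.symm ▸ Submodule.mem_span_singleton_self w⟩⟩
      · intro g hg u hu
        obtain ⟨a, ha, c, hc, rfl⟩ := Submodule.mem_sup.1 hu
        rw [map_add]
        exact Submodule.add_mem_sup (ballSpan_inv h hm hy hg.1 ha) (wsp_inv h hm hw0 hg.2 hc)
      intro a ha han
      set T0 : Subgroup (U ≃ₗ[ZMod 2] U) := lineStab F G y ⊓ MulAction.stabilizer _ w with hT0
      have hle : T0 ≤ lineStab F G w := fun g hg => (mem_lineStab h hw0).2
        ⟨lineStab_le h y (mem_lineStab_inf hg).1,
          (mem_lineStab_inf hg).2.symm ▸ Submodule.mem_span_singleton_self w⟩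
      have haw : a ∈ ann (Submodule.span F {w}) :=
        ann_le_iff.2 (Submodule.span_le.2 (Set.singleton_subset_iff.2 hw)) ha
      have hawn : a ∉ ann (wsp F G w) := fun hc => han (mem_ann_sup.2 ⟨ha, hc⟩)
      have horb : MulAction.orbit (lineStab F G w) a =
          (ann (Submodule.span F {w}) : Set (Dual (ZMod 2) U)) \ (ann (wsp F G w) : Set _) := by
        refine orbit_eq_of_trans ⟨haw, hawn⟩ (fun g e he => ⟨?_, fun hc => he.2 ?_⟩) fun e he => ?_
        · exact (smul_mem_ann_of_inv (fun k hk u hu => lineStab_apply_mem h hw0 hk hu) g.2 e).2 he.1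
        · exact (smul_mem_ann_of_inv (fun k hk u hu => wsp_inv h hm hw0 hk hu) g.2 e).1 hc
        · obtain ⟨g, hg, hga⟩ := (good_wsp h hw0 hm).2.2 a e haw hawn he.1 he.2
          exact ⟨⟨g, hg⟩, hga⟩
      have hcardorb : 2 ^ (deg F * (finrank F U - 3)) ∣
          Nat.card (MulAction.orbit (lineStab F G w) a) := by
        rw [horb, Nat.card_coe_set_eq, Set.ncard_sdiff (ann_le_iff.2 (good_wsp h hw0 hm).1.le),
          ← Nat.card_coe_set_eq, ← Nat.card_coe_set_eq]
        show _ ∣ Nat.card (ann (Submodule.span F {w})) - Nat.card (ann (wsp F G w))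
        rw [card_ann h, card_ann h, finrank_span_singleton hw0, hD w hw0]
        exact Nat.dvd_sub (pow_dvd_pow 2 (Nat.mul_le_mul_left _ (by omega))) dvd_rfl
      have hd := orbit_dvd' hle a
      have hS' : Nat.card (lineStab F G w) =
          Nat.card (MulAction.orbit (lineStab F G y) w) * Nat.card T0 := by
        rw [← card_lineStab h hy hw0]; exact card_subgroup_eq _ w
      rw [hS', ← mul_assoc] at hd
      have hd' := (Nat.mul_dvd_mul_left (Nat.card T0) hcardorb).trans hd
      rw [mul_comm (Nat.card T0)] at hd'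
      have hd'' := Nat.dvd_of_mul_dvd_mul_right Nat.card_pos hd'
      have hlay : MulAction.orbit (lineStab F G y) w =
          (B : Set U) \ (ballSpan F G k y : Set U) :=
        orbit_eq_of_trans ⟨hw, hwk⟩
          (fun g e he => ⟨ballSpan_inv h hm hy g.2 he.1, ballSpan_inv' h hm hy g.2 he.2⟩) fun e he => by
            obtain ⟨g, hg, hgw⟩ := hI.trans y hy k (by omega) w e hw hwk he.1 he.2
            exact ⟨⟨g, hg⟩, hgw⟩
      have hQm : finrank F ↥(B ⊔ wsp F G w) ≤ finrank F U := Submodule.finrank_le _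
      rw [hnz w hw hwk] at hQm
      refine two_pow_dvd (c := deg F * (2 * k + 1)) ?_ ?_ (y := Nat.card (MulAction.orbit (lineStab F G y) w))
      · refine Eq.mpr ?_ hd''
        rw [← Nat.mul_add, hnz w hw hwk, show finrank F U - (2 * i + 2) + (2 * k + 1) = finrank F U - 3 by omega]
      · rw [hlay, Nat.card_coe_set_eq, Set.ncard_sdiff (ballSpan_mono h hm hy),
          ← Nat.card_coe_set_eq, ← Nat.card_coe_set_eq, SetLike.coe_sort_coe, SetLike.coe_sort_coe,
          card_sub h, card_sub h, hBd, hI.dim y hy k (by omega)]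
        intro hd2
        have hle2 : deg F * (2 * k + 1) + 1 ≤ deg F * (2 * i + 1) := by
          rw [hik, show deg F * (2 * (k + 1) + 1) = deg F * (2 * k + 1) + deg F * 2 by ring]
          omega
        have h1 := Nat.dvd_sub (pow_dvd_pow 2 hle2) hd2
        rw [Nat.sub_sub_self (Nat.pow_le_pow_right (by norm_num) (by omega))] at h1
        exact absurd ((Nat.pow_dvd_pow_iff_le_right (le_refl 2)).1 h1) (by omega)
    have dtr : ∀ f f' : Dual (ZMod 2) U, f ∈ ann B → f ∉ ann B' → f' ∈ ann B → f' ∉ ann B' →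
        ∃ g ∈ lineStab F G y, g • f = f' := by
      intro f f' hf hfn hf' hfn'
      have key : ∀ e : Dual (ZMod 2) U, e ∈ ann B → e ∉ ann B' →
          ∃ w, w ∈ B ∧ w ∉ ballSpan F G k y ∧ e ∉ ann (B ⊔ wsp F G w) := by
        intro e he hen
        by_contra hc
        push Not at hc
        refine hen (le_killed.1 (Submodule.span_le.2 ?_))
        rintro x ⟨w, hw, hw0, hxw⟩
        by_cases hwk : w ∈ ballSpan F G k y
        · exact le_killed.2 he (wsp_le_ballSpan h hm hw0 (hI.mem y hy k (by omega) w hwk) hxw)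
        · exact le_killed.2 (hc w (Submodule.subset_span hw) hwk) (Submodule.mem_sup_right hxw)
      obtain ⟨w, hw, hwk, hwf⟩ := key f hf hfn
      obtain ⟨w', hw', hwk', hwf'⟩ := key f' hf' hfn'
      obtain ⟨g, hg, rfl⟩ := hI.trans y hy k (by omega) w w' hw hwk hw' hwk'
      have hgf : g • f ∈ ann B :=
        (smul_mem_ann_of_inv (fun a ha u hu => ballSpan_inv h hm hy ha hu) hg f).2 hf
      have hgfn : g • f ∉ ann (B ⊔ wsp F G (g w)) := fun hc => hwf (mem_ann_sup.2 ⟨hf, by
        have hcw := (mem_ann_sup.1 hc).2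
        rw [wsp_map h (lineStab_le h y hg) (fun (h0 : w = 0) => hwk (h0 ▸ Submodule.zero_mem _)) hm,
          smul_mem_ann] at hcw
        exact hcw⟩)
      obtain ⟨t, htm, htf⟩ := step (g w) hw' hwk' (g • f) f' hgf hgfn hf' hwf'
      exact ⟨t * g, mul_mem htm.1 hg, by rw [mul_smul, htf]⟩
    -- the lemma of Block on `B'`
    let Bs : ℕ → Submodule F U := fun j => ballSpan F G j y
    have hBs : ∀ a c, a ≤ c → Bs a ≤ Bs c := fun a c hac => ballSpan_mono' h hm hac hy
    have vtr : ∀ u v : U, u ∈ B' → u ∉ B → v ∈ B' → v ∉ B → ∃ g ∈ lineStab F G y, g u = v := by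
      intro u v hu hu' hv hv'
      have hlab : ∀ (w : U), ((Finset.range (i + 1)).filter fun j => w ∉ Bs j).card ≤ i + 1 :=
        fun w => (Finset.card_filter_le _ _).trans (by simp)
      have hlab' : ∀ (f : Dual (ZMod 2) U),
          ((Finset.range (i + 2)).filter fun j => f ∈ ann (Bs j)).card ≤ i + 2 :=
        fun w => (Finset.card_filter_le _ _).trans (by simp)
      refine block_sub (lineStab F G y) (two B') (fun g hg a ha => ballSpan_inv h hm hy hg ha)
        (fun w => if w = 0 then (0 : Fin (i + 3)) else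
          ⟨((Finset.range (i + 1)).filter fun j => w ∉ Bs j).card + 1, by have := hlab w; omega⟩) ?_ ?_
        (fun f => (⟨((Finset.range (i + 2)).filter fun j => f ∈ ann (Bs j)).card,
          by have := hlab' f; omega⟩ : Fin (i + 3))) ?_ le_rfl hu hv ?_
      · rintro ⟨c, hc⟩
        rcases c with _ | c
        · exact ⟨0, Submodule.zero_mem _, by simp⟩
        have hstr : ∀ j, j ≤ i → Bs j < Bs (j + 1) := by
          intro j hj
          rcases hj.lt_or_eq with hj' | rfl
          · refine lt_of_le_of_ne (ballSpan_mono h hm hy) fun hc => ?_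
            have e1 := hI.dim y hy j hj
            have e2 := hI.dim y hy (j + 1) hj'
            have hc' : finrank F (Bs j) = finrank F (Bs (j + 1)) := by rw [hc]
            simp only [Bs] at hc'
            omega
          · exact hlt
        obtain ⟨w, hw, hw', hw0⟩ : ∃ w, w ∈ Bs c ∧ (∀ j < c, w ∉ Bs j) ∧ w ≠ 0 := by
          cases c with
          | zero => exact ⟨y, Submodule.subset_span (Submodule.mem_span_singleton_self y),
              fun j hj => absurd hj (Nat.not_lt_zero j), hy⟩
          | succ c =>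
            obtain ⟨w, hw, hw'⟩ := Set.exists_of_ssubset (hstr c (by omega))
            exact ⟨w, hw, fun j hj hc => hw' (hBs j c (by omega) hc),
              fun h0 => hw' (h0 ▸ Submodule.zero_mem _)⟩
        refine ⟨w, hBs c (i + 1) (by omega) hw, ?_⟩
        simp only [hw0, if_false, Fin.mk.injEq, Nat.add_right_cancel_iff]
        rw [show ((Finset.range (i + 1)).filter fun j => w ∉ Bs j) = Finset.range c from ?_,
          Finset.card_range]
        ext j
        simp only [Finset.mem_filter, Finset.mem_range]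
        exact ⟨fun hj => by_contra fun hcj => hj.2 (hBs c j (by omega) hw),
          fun hj => ⟨by omega, hw' j hj⟩⟩
      · intro g hg w _
        have h1 : g w = 0 ↔ w = 0 := g.map_eq_zero_iff
        have h2 : ∀ j, g w ∈ Bs j ↔ w ∈ Bs j := fun j =>
          ⟨fun hc => by_contra fun hn => ballSpan_inv' h hm hy hg hn hc, ballSpan_inv h hm hy hg⟩
        simp only [h1, h2]
      · intro f f' hff
        have hpre : ∀ e : Dual (ZMod 2) U,
            ((Finset.range (i + 2)).filter fun j => e ∈ ann (Bs j)) =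
              Finset.range ((Finset.range (i + 2)).filter fun j => e ∈ ann (Bs j)).card := by
          intro e
          set A := (Finset.range (i + 2)).filter fun j => e ∈ ann (Bs j)
          have hA : ∀ j ∈ A, ∀ j' ≤ j, j' ∈ A := fun j hj j' hjj => by
            simp only [A, Finset.mem_filter, Finset.mem_range] at hj ⊢
            exact ⟨by omega, ann_le_iff.2 (hBs j' j hjj) hj.2⟩
          refine Finset.eq_of_subset_of_card_le (fun j hj => Finset.mem_range.2 ?_) (by simp)
          have hs : Finset.range (j + 1) ⊆ A := fun j' hj' => hA j hj j' (by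
            simp only [Finset.mem_range] at hj'; omega)
          have := Finset.card_le_card hs
          rw [Finset.card_range] at this
          omega
        have hff' := congrArg Fin.val hff
        simp only at hff'
        set c := ((Finset.range (i + 2)).filter fun j => f ∈ ann (Bs j)).card with hc
        have hcle : c ≤ i + 2 := hlab' f
        have hj : ∀ j, j < i + 2 → (f ∈ ann (Bs j) ↔ j < c) ∧ (f' ∈ ann (Bs j) ↔ j < c) := by
          intro j hj
          have e1 := Finset.ext_iff.1 (hpre f) j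
          have e2 := Finset.ext_iff.1 (hpre f') j
          rw [← hff'] at e2
          simp only [Finset.mem_filter, Finset.mem_range, hj, true_and] at e1 e2
          exact ⟨e1, e2⟩
        rcases Nat.eq_zero_or_pos c with hc0 | hc0
        · obtain ⟨h1, h2⟩ := hj 0 (by omega)
          simp only [hc0, lt_irrefl, iff_false, Bs, ballSpan_zero h hm] at h1 h2
          obtain ⟨g, hg, rfl⟩ := trans_not_ann h hy h1 h2
          exact ⟨g, hg, fun _ _ => rfl⟩
        by_cases hct : c = i + 2
        · refine ⟨1, one_mem _, fun w hw => ?_⟩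
          obtain ⟨h1, h2⟩ := hj (i + 1) (by omega)
          rw [one_smul, mem_ann.1 (h1.2 (by omega)) w hw, mem_ann.1 (h2.2 (by omega)) w hw]
        obtain ⟨c', hc'⟩ : ∃ c', c = c' + 1 := ⟨c - 1, by omega⟩
        obtain ⟨a1, a2⟩ := hj c' (by omega)
        obtain ⟨b1, b2⟩ := hj (c' + 1) (by omega)
        have A1 := a1.2 (by omega)
        have A2 := a2.2 (by omega)
        have B1 : f ∉ ann (Bs (c' + 1)) := fun hh => by have := b1.1 hh; omega
        have B2 : f' ∉ ann (Bs (c' + 1)) := fun hh => by have := b2.1 hh; omega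
        obtain ⟨g, hg, rfl⟩ : ∃ g ∈ lineStab F G y, g • f = f' := by
          by_cases hci : c' < i
          · exact hI.transDual y hy c' hci f f' A1 B1 A2 B2
          · obtain rfl : c' = i := by omega
            exact dtr f f' A1 B1 A2 B2
        exact ⟨g, hg, fun _ _ => rfl⟩
      · have hn : ∀ w, w ∉ B → w ≠ 0 ∧
            ((Finset.range (i + 1)).filter fun j => w ∉ Bs j) = Finset.range (i + 1) := by
          intro w hw
          refine ⟨fun h0 => hw (h0 ▸ Submodule.zero_mem _), Finset.filter_true_of_mem fun j hj hc => ?_⟩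
          exact hw (hBs j i (by simp only [Finset.mem_range] at hj; omega) hc)
        simp only [(hn u hu').1, (hn v hv').1, if_false, (hn u hu').2, (hn v hv').2]
    refine ⟨hlt, dtr, vtr, ?_⟩
    intro u hu
    by_cases huB : u ∈ B
    · exact ball_mono h hm hy (hI.mem y hy i le_rfl u huB)
    obtain ⟨x, hx, hx'⟩ : ∃ x ∈ ball F G (i + 1) y, x ∉ B := by
      by_contra hc; push Not at hc
      exact hlt.not_ge (Submodule.span_le.2 hc)
    obtain ⟨g, hg, rfl⟩ := vtr x u (Submodule.subset_span hx) hx' hu huB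
    obtain ⟨hgG, hgy⟩ := (mem_lineStab h hy).1 hg
    obtain ⟨c, hc⟩ := Submodule.mem_span_singleton.1 hgy
    have := ball_map h hm hgG hx
    rwa [← hc, ball_smul h hm (by
      rintro rfl; rw [zero_smul] at hc; exact hy (g.map_eq_zero_iff.1 hc.symm))] at this
  -- the two dimensions
  have two' : ∀ y : U, y ≠ 0 → ∀ u, u ∈ ballSpan F G (i + 1) y → u ∉ ballSpan F G i y →
      (finrank F ↥(wsp F G u ⊓ ballSpan F G i y) = 1 ∧
        finrank F (ballSpan F G (i + 1) y) = 2 * i + 3 ∨
      finrank F ↥(wsp F G u ⊓ ballSpan F G i y) = 2 ∧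
        finrank F (ballSpan F G (i + 1) y) = 2 * i + 2) := by
    intro y hy u hu hu'
    obtain ⟨hlt, -, vtr, hball⟩ := one y hy
    set B := ballSpan F G i y with hB
    set B' := ballSpan F G (i + 1) y with hB'
    have hu0 : u ≠ 0 := fun h0 => hu' (h0 ▸ Submodule.zero_mem _)
    set s := finrank F ↥(wsp F G u ⊓ B) with hs
    set d := finrank F B' with hd
    have hs2 : s ≤ 2 := by
      have h1 : finrank F ↥(wsp F G u ⊓ B) + 1 ≤ finrank F (wsp F G u) :=
        finrank_line_sup h hm (u := u) (fun hc => hu' hc.2) inf_le_left (self_mem_wsp h hu0 hm)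
      rw [hD u hu0, ← hs] at h1
      omega
    set A : Finset U := Finset.univ.filter (fun a => a ∈ B ∧ a ∉ ballSpan F G k y) with hA
    set C : Finset U := Finset.univ.filter (fun a => a ∈ B' ∧ a ∉ B) with hC
    have hrel := Finset.sum_card_bipartiteAbove_eq_sum_card_bipartiteBelow (s := A) (t := C)
      (fun a w => w ∈ wsp F G a)
    simp only [Finset.bipartiteAbove, Finset.bipartiteBelow] at hrel
    have hc : ∀ X : Submodule F U, (Finset.univ.filter (· ∈ X)).card = 2 ^ (deg F * finrank F X) := by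
      intro X; rw [← Fintype.card_subtype, ← Nat.card_eq_fintype_card]; exact card_sub h X
    have hdiff : ∀ X Y : Submodule F U, Y ≤ X →
        (Finset.univ.filter (fun a => a ∈ X ∧ a ∉ Y)).card =
          2 ^ (deg F * finrank F X) - 2 ^ (deg F * finrank F Y) := by
      intro X Y hYX
      have : Finset.univ.filter (fun a => a ∈ X ∧ a ∉ Y) =
          Finset.univ.filter (· ∈ X) \ Finset.univ.filter (· ∈ Y) := by ext a; simp
      rw [this, Finset.card_sdiff_of_subset (fun a ha => by
        simp only [Finset.mem_filter, Finset.mem_univ, true_and] at ha ⊢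
        exact hYX ha), hc, hc]
    have habove : ∀ a ∈ A, (C.filter (fun w => w ∈ wsp F G a)).card =
        2 ^ (deg F * 3) - 2 ^ (deg F * 2) := by
      intro a ha
      simp only [hA, Finset.mem_filter, Finset.mem_univ, true_and] at ha
      have ha0 : a ≠ 0 := fun h0 => ha.2 (h0 ▸ Submodule.zero_mem _)
      have : C.filter (fun w => w ∈ wsp F G a) =
          Finset.univ.filter (fun w => w ∈ wsp F G a ∧ w ∉ wsp F G a ⊓ B) := by
        ext w
        simp only [hC, Finset.mem_filter, Finset.mem_univ, true_and, Submodule.mem_inf]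
        refine ⟨fun hw => ⟨hw.2, fun hc => hw.1.2 hc.2⟩, fun hw => ⟨⟨?_, fun hc => hw.2 ⟨hw.1, hc⟩⟩, hw.1⟩⟩
        exact wsp_le_ballSpan h hm ha0 (hI.mem y hy i le_rfl a ha.1) hw.1
      rw [this, hdiff _ _ inf_le_left, hD a ha0, (hI.meet y hy k (by omega) a ha.1 ha.2).2]
    have hbelow : ∀ w ∈ C, (A.filter (fun a => w ∈ wsp F G a)).card =
        2 ^ (deg F * s) - 1 := by
      intro w hw
      simp only [hC, Finset.mem_filter, Finset.mem_univ, true_and] at hw
      have hw0 : w ≠ 0 := fun h0 => hw.2 (h0 ▸ Submodule.zero_mem _)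
      have : A.filter (fun a => w ∈ wsp F G a) =
          Finset.univ.filter (fun a => a ∈ wsp F G w ⊓ B ∧ a ∉ (⊥ : Submodule F U)) := by
        ext a
        simp only [hA, Finset.mem_filter, Finset.mem_univ, true_and, Submodule.mem_inf,
          Submodule.mem_bot]
        constructor
        · intro ha
          have ha0 : a ≠ 0 := fun h0 => ha.1.2 (h0 ▸ Submodule.zero_mem _)
          exact ⟨⟨wsp_symm h hm ha0 hw0 ha.2, ha.1.1⟩, ha0⟩
        · rintro ⟨⟨ha1, ha2⟩, ha0⟩
          refine ⟨⟨ha2, fun hc => hw.2 ?_⟩, wsp_symm h hm hw0 ha0 ha1⟩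
          exact wsp_le_ballSpan h hm ha0 (hI.mem y hy k (by omega) a hc) (wsp_symm h hm hw0 ha0 ha1)
      rw [this, hdiff _ _ bot_le, finrank_bot, mul_zero, pow_zero]
      obtain ⟨g, hg, rfl⟩ := vtr u w hu hu' hw.1 hw.2
      rw [hB, meet_eq h hm hy hu0 hg]
    rw [Finset.sum_congr rfl habove, Finset.sum_congr rfl hbelow, Finset.sum_const, Finset.sum_const,
      smul_eq_mul, smul_eq_mul, hA, hC, hdiff _ _ (ballSpan_mono h hm hy), hdiff _ _ hlt.le,
      hI.dim y hy i le_rfl, hI.dim y hy k (by omega)] at hrel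
    change _ = (2 ^ (deg F * d) - _) * _ at hrel
    have hdlt : 2 * i + 1 < d := by
      have := Submodule.finrank_lt_finrank_of_lt hlt
      rw [hI.dim y hy i le_rfl] at this
      exact this
    obtain ⟨e, he⟩ : ∃ e, d = 2 * i + 1 + e := ⟨d - (2 * i + 1), by omega⟩
    set q := 2 ^ deg F with hq
    have hq1 : 1 < q := Nat.one_lt_two_pow hb.ne'
    have hp : ∀ a, 2 ^ (deg F * a) = q ^ a := fun a => pow_mul 2 _ a
    simp only [hp] at hrel
    have e1 : q ^ (2 * i + 1) - q ^ (2 * k + 1) = q ^ (2 * k + 1) * (q ^ 2 - 1) := by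
      rw [Nat.mul_sub_one, ← pow_add]; congr 2
    have e2 : q ^ 3 - q ^ 2 = q ^ 2 * (q - 1) := by rw [Nat.mul_sub_one, ← pow_succ]
    have e3 : q ^ d - q ^ (2 * i + 1) = q ^ (2 * k + 1) * q ^ 2 * (q ^ e - 1) := by
      rw [← pow_add, Nat.mul_sub_one, ← pow_add, he]; congr 2
    rw [e1, e2, e3, mul_mul_mul_comm, mul_assoc (q ^ (2 * k + 1) * q ^ 2)] at hrel
    have hrel' := Nat.eq_of_mul_eq_mul_left (by positivity) hrel
    have hsub : ∀ a c, q ^ a - 1 = q ^ c - 1 → a = c := fun a c hac =>
      Nat.pow_right_injective hq1 (by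
        have := Nat.one_le_pow a q (by omega); have := Nat.one_le_pow c q (by omega)
        show q ^ a = q ^ c
        omega)
    have hq2 : 0 < q ^ 2 - 1 := by
      have : q ≤ q ^ 2 := Nat.le_self_pow (by norm_num) q
      omega
    have hs0 : s ≠ 0 := by
      rintro h0
      rw [h0, pow_zero, Nat.sub_self, mul_zero] at hrel'
      exact (Nat.mul_pos hq2 (by omega)).ne' hrel'
    interval_cases s
    · exact absurd rfl hs0
    · refine Or.inl ⟨rfl, ?_⟩
      rw [pow_one, mul_comm (q ^ e - 1), mul_comm (q ^ 2 - 1)] at hrel'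
      have := hsub _ _ (Nat.eq_of_mul_eq_mul_left (by omega) hrel')
      omega
    · refine Or.inr ⟨rfl, ?_⟩
      rw [mul_comm (q ^ e - 1)] at hrel'
      have := hsub _ 1 ((Nat.eq_of_mul_eq_mul_left hq2 hrel').symm.trans (by rw [pow_one]))
      omega
  obtain ⟨y0, hy0⟩ := h.ne
  obtain ⟨u0, hu0, hu0'⟩ := Set.exists_of_ssubset (one y0 hy0).1
  set B0 := ballSpan F G (i + 1) y0
  -- the dimension is the same around every line
  have hdim : ∀ y : U, y ≠ 0 → finrank F (ballSpan F G (i + 1) y) = finrank F B0 := by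
    intro y hy
    obtain ⟨g, hg, rfl⟩ := trans_vec h hy0 hy
    rw [← finrank_img h hg B0]
    refine (fun {X Y : Submodule F U} (e : X = Y) => by rw [e] :
      ∀ {X Y : Submodule F U}, X = Y → finrank F X = finrank F Y) ?_
    refine le_antisymm (Submodule.span_le.2 fun w hw => ?_) fun w hw => ?_
    · rw [SetLike.mem_coe, mem_img]
      refine Submodule.subset_span ?_
      have := ball_map h hm (G.inv_mem hg) hw
      rwa [LinearEquiv.coe_inv, LinearEquiv.symm_apply_apply] at this
    · rw [mem_img] at hw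
      have h1 := (one y0 hy0).2.2.2 _ hw
      have h2 := ball_map h hm hg h1
      rw [LinearEquiv.apply_symm_apply] at h2
      exact Submodule.subset_span h2
  have mem' : ∀ y : U, y ≠ 0 → ∀ j ≤ i + 1, ∀ u, u ∈ ballSpan F G j y → u ∈ ball F G j y := by
    intro y hy j hj u hu
    rcases hj.lt_or_eq with hj' | rfl
    · exact hI.mem y hy j (by omega) u hu
    · exact (one y hy).2.2.2 u hu
  by_cases hcl : ∀ y : U, y ≠ 0 → ∀ u, u ∈ ballSpan F G (i + 1) y →
      u ∉ ballSpan F G i y → wsp F G u ≤ ballSpan F G (i + 1) y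
  · -- the last layer
    refine Or.inr ⟨finrank F B0, ⟨by omega, ?_, mem', ?_, ?_, ?_, ?_⟩⟩
    · rcases two' y0 hy0 u0 hu0 hu0' with ⟨-, h2⟩ | ⟨-, h2⟩
      · exact Or.inr (by show finrank F B0 = _; omega)
      · exact Or.inl (by show finrank F B0 = _; omega)
    · intro y hy
      refine le_antisymm (ballSpan_le_comp h hm hy) (comp_le h hm hy (Submodule.subset_span ?_) ?_)
      · exact (mem' y hy (i + 1) le_rfl y
          (ballSpan_mono' h hm (Nat.zero_le _) hy (Submodule.subset_span (Submodule.mem_span_singleton_self y))))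
      · intro u hu hu0'
        by_cases huB : u ∈ ballSpan F G i y
        · exact wsp_le_ballSpan h hm hu0' (hI.mem y hy i le_rfl u huB)
        · exact hcl y hy u hu huB
    · intro y hy
      rw [← hdim y hy]
      refine (fun {X Y : Submodule F U} (e : X = Y) => by rw [e] :
        ∀ {X Y : Submodule F U}, X = Y → finrank F X = finrank F Y) ?_
      refine le_antisymm (comp_le h hm hy ?_ ?_) (ballSpan_le_comp h hm hy)
      · exact ballSpan_mono' h hm (Nat.zero_le _) hy (Submodule.subset_span (Submodule.mem_span_singleton_self y))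
      · intro u hu hu0'
        by_cases huB : u ∈ ballSpan F G i y
        · exact wsp_le_ballSpan h hm hu0' (hI.mem y hy i le_rfl u huB)
        · exact hcl y hy u hu huB
    · intro y hy j hj z hz hz'
      exact hI.meet y hy j (by omega) z hz hz'
    · intro y hy j hj z hz hz'
      obtain rfl : j = i := by omega
      rcases two' y hy z hz hz' with ⟨h1, h2⟩ | ⟨h1, h2⟩ <;> rw [h1, ← hdim y hy, h2] <;> omega
  · push Not at hcl
    obtain ⟨y1, hy1, u1, hu1, hu1', hnle⟩ := hcl
    have hd3 : finrank F B0 = 2 * i + 3 := by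
      rcases two' y1 hy1 u1 hu1 hu1' with ⟨-, h2⟩ | ⟨h1, -⟩
      · rw [← hdim y1 hy1]; exact h2
      · refine absurd ?_ hnle
        have hu10 : u1 ≠ 0 := fun h0 => hu1' (h0 ▸ Submodule.zero_mem _)
        have h3 : finrank F ↥(wsp F G u1 ⊓ ballSpan F G i y1) + 1 ≤
            finrank F ↥(wsp F G u1 ⊓ ballSpan F G (i + 1) y1) :=
          finrank_line_sup h hm (u := u1) (fun hc => hu1' hc.2) (inf_le_inf_left _ (ballSpan_mono h hm hy1))
            ⟨self_mem_wsp h hu10 hm, hu1⟩
        exact inf_eq_left.1 (Submodule.eq_of_le_of_finrank_le inf_le_left (by rw [hD u1 hu10]; omega))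
    refine Or.inl ⟨mem', ?_, ?_, ?_, ?_⟩
    · intro y hy j hj
      rcases hj.lt_or_eq with hj' | rfl
      · exact hI.dim y hy j (by omega)
      · rw [hdim y hy, hd3]; omega
    · intro y hy j hj
      rcases (Nat.lt_succ_iff.1 hj).lt_or_eq with hj' | rfl
      · exact hI.trans y hy j hj'
      · exact (one y hy).2.2.1
    · intro y hy j hj
      rcases (Nat.lt_succ_iff.1 hj).lt_or_eq with hj' | rfl
      · exact hI.transDual y hy j hj'
      · exact (one y hy).2.1
    · intro y hy j hj z hz hz'
      rcases (Nat.lt_succ_iff.1 hj).lt_or_eq with hj' | rfl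
      · exact hI.meet y hy j hj' z hz hz'
      have hz0 : z ≠ 0 := fun h0 => hz' (h0 ▸ Submodule.zero_mem _)
      have h1 : finrank F ↥(wsp F G z ⊓ ballSpan F G i y) = 1 := by
        rcases two' y hy z hz hz' with ⟨h1, -⟩ | ⟨-, h2⟩
        · exact h1
        · rw [hdim y hy] at h2; omega
      refine ⟨h1, ?_⟩
      have h3 : finrank F ↥(wsp F G z ⊓ ballSpan F G i y) + 1 ≤
          finrank F ↥(wsp F G z ⊓ ballSpan F G (i + 1) y) :=
        finrank_line_sup h hm (u := z) (fun hc => hz' hc.2) (inf_le_inf_left _ (ballSpan_mono h hm hy))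
          ⟨self_mem_wsp h hz0 hm, hz⟩
      have h4 := Submodule.finrank_mono
        (inf_le_left : wsp F G z ⊓ ballSpan F G (i + 1) y ≤ wsp F G z)
      rw [hD z hz0] at h4
      by_contra hne
      -- otherwise the ball is closed around this line, hence around every line
      have h5 : wsp F G z ≤ ballSpan F G (i + 1) y :=
        inf_eq_left.1 (Submodule.eq_of_le_of_finrank_le inf_le_left (by rw [hD z hz0]; omega))
      apply hnle
      obtain ⟨g, hg, rfl⟩ := trans_vec h hy hy1
      have hmap : ∀ w, w ∈ ballSpan F G (i + 1) y → g w ∈ ballSpan F G (i + 1) (g y) := fun w hw =>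
        Submodule.subset_span (ball_map h hm hg ((one y hy).2.2.2 w hw))
      obtain ⟨k', hk', rfl⟩ := (one (g y) hy1).2.2.1 (g z) u1 (hmap z hz) (fun hc => hz' (by
        have := ball_map h hm (G.inv_mem hg) (hI.mem _ hy1 i le_rfl _ hc)
        rw [LinearEquiv.coe_inv, LinearEquiv.symm_apply_apply, LinearEquiv.symm_apply_apply] at this
        exact Submodule.subset_span this)) hu1 hu1'
      intro w hw
      rw [wsp_map h (lineStab_le h _ hk') (fun h0 => hz0 (g.map_eq_zero_iff.1 h0)) hm, mem_img,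
        wsp_map h hg hz0 hm, mem_img] at hw
      have := ballSpan_inv h hm hy1 hk' (hmap _ (h5 hw))
      simpa using this

/-- The layers stop, with component dimension twice the diameter or one more. -/
theorem exists_layered : ∃ h₀ n, Layered F G h₀ n := by
  by_contra hne
  push Not at hne
  have hall : ∀ i, LayerInv F G (i + 1) := by
    intro i
    induction i with
    | zero => exact layerInv_one h hm hD ht
    | succ i ih =>
      rcases layer_step h hm hD ht (Nat.succ_pos i) ih with h1 | ⟨n, h2⟩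
      · exact h1
      · exact absurd h2 (hne _ _)
  obtain ⟨y, hy⟩ := h.ne
  have h1 := (hall (finrank F U)).dim y hy _ le_rfl
  have h2 := Submodule.finrank_le (ballSpan F G (finrank F U + 1) y)
  omega

end Cfsg.Lib.AntiflagTwo
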