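import Mathlib
import Cfsg.Agent.FeitHigman.Numbers
import Cfsg.Agent.FeitHigman.Multiplicity

/-!
# Thick generalised polygons of order (q, q) are hexagons or octagons (or triangles)

A generalised `n`-gon is given by its incidence graph together with a distance function: neighbouring
vertices differ by one in distance to any vertex, and below the diameter the neighbour closer to a given
vertex is unique.  The flag matrices satisfy the Hecke relations, so the eigenvalue multiplicity argument
of Feit and Higman applies.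
-/

set_option autoImplicit false

namespace Cfsg.Lib.AntiflagTwo

open Cfsg.Lib.FeitHigman Cfsg.Lib.BN

/-- A generalised `n`-gon as a graph with two sides and a distance function. -/
structure Gon {W : Type*} (Adj : W → W → Prop) (side : W → Bool) (δ : W → W → ℕ) (a c n : ℕ) : Prop where
  adj_symm : ∀ u v, Adj u v → Adj v u
  adj_side : ∀ u v, Adj u v → side v = !side u
  deg_true : ∀ v, side v = true → {w | Adj v w}.ncard = c + 1
  deg_false : ∀ v, side v = false → {w | Adj v w}.ncard = a + 1
  dist_symm : ∀ u v, δ u v = δ v u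
  dist_eq_zero : ∀ u v, δ u v = 0 ↔ u = v
  dist_le : ∀ u v, δ u v ≤ n
  step : ∀ u v w, Adj v w → δ u w + 1 = δ u v ∨ δ u v + 1 = δ u w
  unique : ∀ u v, 0 < δ u v → δ u v < n → ∃! w, Adj v w ∧ δ u w + 1 = δ u v

namespace Gon

variable {W : Type*} {Adj : W → W → Prop} {side : W → Bool} {δ : W → W → ℕ} {a c n : ℕ}

/-- The flags of the graph. -/
abbrev Flag (Adj : W → W → Prop) (side : W → Bool) : Type _ :=
  {f : W × W // side f.1 = true ∧ Adj f.1 f.2}

/-- The end of a flag on a given side. -/
def ep (s : Bool) (f : Flag Adj side) : W := if s then f.1.1 else f.1.2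

/-- The side of the `j`-th vertex of a path starting on side `s`. -/
def par (j : ℕ) (s : Bool) : Bool := if j % 2 = 0 then s else !s

theorem par_succ (j : ℕ) (s : Bool) : par j (!s) = par (j + 1) s := by
  rcases Nat.mod_two_eq_zero_or_one j with hj | hj <;> simp [par, hj, Nat.add_mod]

theorem par_not (j : ℕ) (s : Bool) : (!par j s) = par j (!s) := by
  rcases Nat.mod_two_eq_zero_or_one j with hj | hj <;> simp [par, hj]

variable (P : Gon Adj side δ a c n)
include P

theorem adj_ep (s : Bool) (f : Flag Adj side) : Adj (ep s f) (ep (!s) f) := by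
  cases s
  · exact P.adj_symm _ _ f.2.2
  · exact f.2.2

theorem side_ep (s : Bool) (f : Flag Adj side) : side (ep s f) = s := by
  cases s
  · have := P.adj_side _ _ f.2.2
    rw [f.2.1] at this
    exact this
  · exact f.2.1

theorem flag_ext {f g : Flag Adj side} (s : Bool) (h1 : ep s f = ep s g) (h2 : ep (!s) f = ep (!s) g) : f = g := by
  cases s
  · exact Subtype.ext (Prod.ext h2 h1)
  · exact Subtype.ext (Prod.ext h1 h2)

theorem exists_flag {v w : W} {s : Bool} (hv : side v = s) (hvw : Adj v w) :
    ∃ f : Flag Adj side, ep s f = v ∧ ep (!s) f = w := by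
  cases s
  · refine ⟨⟨(w, v), ?_, P.adj_symm _ _ hvw⟩, rfl, rfl⟩
    rw [P.adj_side _ _ hvw, hv]; rfl
  · exact ⟨⟨(v, w), hv, hvw⟩, rfl, rfl⟩

theorem adj_ne {u v : W} (huv : Adj u v) : u ≠ v := by
  rintro rfl
  have := P.adj_side _ _ huv
  cases hs : side u <;> simp [hs] at this

theorem dist_of_adj {u v : W} (huv : Adj u v) : δ u v = 1 := by
  have h0 := (P.dist_eq_zero u u).2 rfl
  rcases P.step u u v huv with e | e <;> omega

theorem eq_of_closer {u v w w' : W} (hlt : δ u v < n) (h1 : Adj v w) (h2 : δ u w + 1 = δ u v)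
    (h1' : Adj v w') (h2' : δ u w' + 1 = δ u v) : w = w' := by
  obtain ⟨z, -, hz⟩ := P.unique u v (by omega) hlt
  exact (hz w ⟨h1, h2⟩).trans (hz w' ⟨h1', h2'⟩).symm

omit P in
/-- The end condition of a gallery of length `j` from `f` to `f'` starting by moving the end on side `s`. -/
def Reach (δ : W → W → ℕ) (s : Bool) (j : ℕ) (f f' : Flag Adj side) : Prop :=
  δ (ep (!s) f) (ep (par j s) f') + 1 = j ∧ δ (ep s f) (ep (par j s) f') = j ∧
    δ (ep (!s) f) (ep (!par j s) f') = j ∧ ep s f ≠ ep (!par j s) f'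

theorem reach_one {s : Bool} {f f' : Flag Adj side} :
    Reach δ s 1 f f' ↔ ep (!s) f = ep (!s) f' ∧ f ≠ f' := by
  have hp : par 1 s = !s := rfl
  simp only [Reach, hp, Bool.not_not]
  constructor
  · rintro ⟨h1, -, -, h4⟩
    exact ⟨(P.dist_eq_zero _ _).1 (by omega), fun e => h4 (by rw [e])⟩
  · rintro ⟨h1, h2⟩
    refine ⟨?_, ?_, ?_, fun e => h2 (P.flag_ext s e h1)⟩
    · rw [(P.dist_eq_zero _ _).2 h1]
    · rw [← h1]; exact P.dist_of_adj (P.adj_ep s f)
    · rw [h1, P.dist_symm]; exact P.dist_of_adj (P.adj_ep s f')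

theorem reach_succ_of {s : Bool} {j : ℕ} (hj : 1 ≤ j) (hjh : j + 1 ≤ n) {f g f' : Flag Adj side}
    (hg : ep (!s) f = ep (!s) g) (hne : f ≠ g) (hr : Reach δ (!s) j g f') : Reach δ s (j + 1) f f' := by
  obtain ⟨h1, h2, h3, h4⟩ := hr
  rw [Bool.not_not, par_succ] at h1 h3
  rw [par_succ, ← hg] at h2
  rw [par_succ, ← hg] at h4
  set x := ep s f
  set y := ep (!s) f
  set z := ep s g
  set u := ep (par (j + 1) s) f'
  set v := ep (!par (j + 1) s) f'
  have hxz : x ≠ z := fun e => hne (P.flag_ext s e hg)
  have hyx : Adj y x := P.adj_symm _ _ (P.adj_ep s f)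
  have hyz : Adj y z := by rw [show y = ep (!s) g from hg]; exact P.adj_symm _ _ (P.adj_ep s g)
  have huv : Adj u v := P.adj_ep _ f'
  have h1' : δ u z + 1 = j := by rw [P.dist_symm]; exact h1
  have h2' : δ u y = j := by rw [P.dist_symm]; exact h2
  have hx : δ u x = j + 1 := by
    rcases P.step u y x hyx with e | e
    · exact absurd (P.eq_of_closer (by omega) hyx e hyz (by omega)) hxz
    · omega
  have hv : δ y v = j + 1 := by
    rcases P.step y u v huv with e | e
    · exfalso
      have e1 : δ y v + 1 = j := by omega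
      by_cases hv0 : δ y v = 0
      · exact h4 ((P.dist_eq_zero _ _).1 hv0)
      obtain ⟨w, ⟨hw1, hw2⟩, -⟩ := P.unique y v (by omega) (by omega)
      have hzw : δ z w + 1 = δ z v := by
        have e3 : δ w y + 1 = δ y v := by rw [P.dist_symm]; exact hw2
        rcases P.step z v w hw1 with e4 | e4
        · exact e4
        · rcases P.step w y z hyz with e5 | e5 <;>
            (rw [P.dist_symm w z] at e5; omega)
      have := P.eq_of_closer (u := z) (v := v) (by omega) hw1 hzw (P.adj_symm _ _ huv) (by omega)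
      rw [this] at hw2
      omega
    · omega
  refine ⟨by show δ y u + 1 = j + 1; rw [P.dist_symm]; omega, ?_, hv, ?_⟩
  · rw [P.dist_symm]; exact hx
  · intro e
    rw [← show x = v from e] at hv
    rw [P.dist_of_adj hyx] at hv
    omega

theorem exists_reach {s : Bool} {j : ℕ} (hj : 1 ≤ j) (hjh : j + 1 ≤ n) {f f' : Flag Adj side}
    (hr : Reach δ s (j + 1) f f') : ∃ g : Flag Adj side, (ep (!s) f = ep (!s) g ∧ f ≠ g) ∧ Reach δ (!s) j g f' := by
  obtain ⟨h1, h2, h3, -⟩ := hr
  set x := ep s f
  set y := ep (!s) f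
  set u := ep (par (j + 1) s) f' with hu
  set v := ep (!par (j + 1) s) f' with hv
  have h1' : δ u y = j := by rw [P.dist_symm]; omega
  obtain ⟨z, ⟨hz1, hz2⟩, -⟩ := P.unique u y (by omega) (by omega)
  obtain ⟨g, hg1, hg2⟩ := P.exists_flag (P.side_ep (!s) f) hz1
  rw [Bool.not_not] at hg2
  have hne : f ≠ g := by
    rintro rfl
    rw [← hg2] at hz2
    rw [P.dist_symm x u] at h2
    change δ u x + 1 = δ u y at hz2
    omega
  refine ⟨g, ⟨hg1.symm, hne⟩, ?_⟩
  have huv : Adj u v := P.adj_ep _ f'
  simp only [Reach, Bool.not_not, par_succ, ← hu, ← hv, hg1, hg2]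
  refine ⟨by rw [P.dist_symm]; omega, by rw [P.dist_symm]; omega, ?_, ?_⟩
  · have e1 := P.step z u v huv
    have e2 := P.step v y z hz1
    rw [P.dist_symm v y, P.dist_symm v z] at e2
    rw [P.dist_symm u z] at hz2
    omega
  · intro e
    have e3 : δ y v = 0 := (P.dist_eq_zero _ _).2 e
    omega

theorem reach_closer {s : Bool} {j : ℕ} {g f' : Flag Adj side} (hr : Reach δ (!s) j g f') :
    δ (ep (par (j + 1) s) f') (ep s g) + 1 = j ∧ δ (ep (par (j + 1) s) f') (ep (!s) g) = j := by
  obtain ⟨h1, h2, -, -⟩ := hr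
  rw [Bool.not_not, par_succ] at h1
  rw [par_succ] at h2
  exact ⟨by rw [P.dist_symm]; exact h1, by rw [P.dist_symm]; exact h2⟩

theorem reach_unique {s : Bool} {j : ℕ} (hjh : j + 1 ≤ n) {f g g' f' : Flag Adj side}
    (hg : ep (!s) f = ep (!s) g) (hg' : ep (!s) f = ep (!s) g')
    (hr : Reach δ (!s) j g f') (hr' : Reach δ (!s) j g' f') : g = g' := by
  obtain ⟨a1, a2⟩ := P.reach_closer hr
  obtain ⟨b1, b2⟩ := P.reach_closer hr'
  rw [← hg] at a2
  rw [← hg'] at b2
  have e1 : Adj (ep (!s) f) (ep s g) := by rw [hg]; exact P.adj_symm _ _ (P.adj_ep s g)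
  have e2 : Adj (ep (!s) f) (ep s g') := by rw [hg']; exact P.adj_symm _ _ (P.adj_ep s g')
  exact P.flag_ext s (P.eq_of_closer (u := ep (par (j + 1) s) f') (by omega) e1 (by omega) e2 (by omega)) (hg.symm.trans hg')

theorem not_reach_self {s : Bool} {j : ℕ} (hj : 1 ≤ j) (f : Flag Adj side) : ¬ Reach δ s j f f := by
  intro hr
  by_cases h1 : j = 1
  · subst h1
    exact (P.reach_one.1 hr).2 rfl
  obtain ⟨-, h2, -, -⟩ := hr
  rcases Bool.eq_or_eq_not (par j s) s with e | e <;> rw [e] at h2
  · rw [(P.dist_eq_zero _ _).2 rfl] at h2; omega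
  · rw [P.dist_of_adj (P.adj_ep s f)] at h2; omega

theorem reach_top (hn : 2 ≤ n) {s : Bool} {f f' : Flag Adj side} :
    Reach δ s n f f' ↔
      δ (ep s f) (ep (par n s) f') = n ∧ δ (ep (!s) f) (ep (!par n s) f') = n := by
  simp only [Reach]
  constructor
  · exact fun hr => ⟨hr.2.1, hr.2.2.1⟩
  · rintro ⟨h2, h3⟩
    refine ⟨?_, h2, h3, ?_⟩
    · have e1 := P.step (ep (!s) f) _ _ (P.adj_ep (par n s) f')
      have e2 := P.dist_le (ep (!s) f) (ep (par n s) f')
      omega
    · intro e
      rw [← e, P.dist_of_adj (P.adj_symm _ _ (P.adj_ep s f))] at h3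
      omega

section Matrices

open scoped Classical

/-- The matrix of the relation "differ exactly in the end on side `s`". -/
noncomputable def mat (s : Bool) : Matrix (Flag Adj side) (Flag Adj side) ℝ := fun f g =>
  if ep (!s) f = ep (!s) g ∧ f ≠ g then 1 else 0

variable [Fintype W]

set_option linter.style.haveILetI false

theorem alt_apply : ∀ (j : ℕ) (s : Bool) (f f' : Flag Adj side), 1 ≤ j → j ≤ n →
    (alt (mat s) (mat (!s)) j).prod f f' = if Reach δ s j f f' then 1 else 0 := by
  intro j
  induction j with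
  | zero => intro s f f' h0; exact absurd h0 (by omega)
  | succ j ih =>
    intro s f f' _ hjh
    rw [alt, List.prod_cons]
    rcases Nat.eq_zero_or_pos j with rfl | hj
    · simp only [alt, List.prod_nil, Matrix.mul_one, mat]
      exact if_congr (P.reach_one (f := f) (f' := f')).symm rfl rfl
    · rw [Matrix.mul_apply]
      have ih' : ∀ g, (alt (mat (!s)) (mat s) j).prod g f' =
          if Reach δ (!s) j g f' then (1 : ℝ) else 0 := fun g => by
        have := ih (!s) g f' hj (by omega)
        rwa [Bool.not_not] at this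
      simp only [ih', mat, ite_mul, one_mul, zero_mul, ← ite_and]
      by_cases hr : Reach δ s (j + 1) f f'
      · rw [if_pos hr]
        obtain ⟨g, hg, hgr⟩ := P.exists_reach hj hjh hr
        rw [Finset.sum_eq_single g, if_pos ⟨hg, hgr⟩]
        · intro g' _ hne
          rw [if_neg]
          exact fun hh' => hne (P.reach_unique hjh hh'.1.1 hg.1 hh'.2 hgr)
        · exact fun hn => absurd (Finset.mem_univ _) hn
      · rw [if_neg hr]
        refine Finset.sum_eq_zero fun g _ => if_neg fun hg => hr ?_
        exact P.reach_succ_of hj hjh hg.1.1 hg.1.2 hg.2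

theorem mat_sq (s : Bool) (m : ℕ) (hm : ∀ v, side v = !s → {w | Adj v w}.ncard = m + 1) :
    (mat s : Matrix (Flag Adj side) (Flag Adj side) ℝ) * mat s = ((m : ℝ) - 1) • mat s + (m : ℝ) • 1 := by
  ext f f'
  have hcard : (Finset.univ.filter fun g : Flag Adj side => ep (!s) f = ep (!s) g).card = m + 1 := by
    rw [← hm _ (P.side_ep (!s) f), ← Set.ncard_coe_finset]
    refine Set.ncard_congr (fun g _ => ep s g) ?_ ?_ ?_
    · intro g hg
      rw [Finset.mem_coe, Finset.mem_filter] at hg
      show Adj _ _
      rw [hg.2]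
      exact P.adj_symm _ _ (P.adj_ep s g)
    · intro g g' hg hg' e
      rw [Finset.mem_coe, Finset.mem_filter] at hg hg'
      exact P.flag_ext s e (hg.2.symm.trans hg'.2)
    · intro w hw
      obtain ⟨g, hg1, hg2⟩ := P.exists_flag (P.side_ep (!s) f) hw
      rw [Bool.not_not] at hg2
      exact ⟨g, by simp [hg1], hg2⟩
  simp only [Matrix.mul_apply, Matrix.add_apply, Matrix.smul_apply, mat, ite_mul, one_mul, zero_mul,
    ← ite_and, Finset.sum_boole, smul_eq_mul, Matrix.one_apply]
  by_cases he : ep (!s) f = ep (!s) f'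
  · have e1 : (Finset.univ.filter fun g : Flag Adj side => (ep (!s) f = ep (!s) g ∧ f ≠ g) ∧
        (ep (!s) g = ep (!s) f' ∧ g ≠ f')) =
        ((Finset.univ.filter fun g : Flag Adj side => ep (!s) f = ep (!s) g).erase f).erase f' := by
      ext g
      simp only [Finset.mem_filter, Finset.mem_univ, true_and, Finset.mem_erase]
      refine ⟨fun hg => ⟨hg.2.2, fun e => hg.1.2 e.symm, hg.1.1⟩,
        fun hg => ⟨⟨hg.2.2, fun e => hg.2.1 e.symm⟩, hg.2.2.symm.trans he, hg.1⟩⟩
    rw [e1]
    by_cases hff : f = f'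
    · subst hff
      rw [Finset.erase_idem, Finset.card_erase_of_mem (by simp), hcard]
      simp
    · rw [Finset.card_erase_of_mem, Finset.card_erase_of_mem (by simp), hcard, if_pos ⟨he, hff⟩, if_neg hff]
      · rcases Nat.eq_zero_or_pos m with rfl | hm0
        · exfalso
          have h2 : 1 < (Finset.univ.filter fun g : Flag Adj side => ep (!s) f = ep (!s) g).card :=
            Finset.one_lt_card.2 ⟨f, by simp, f', by simp [he], hff⟩
          omega
        · rw [show m + 1 - 1 - 1 = m - 1 by omega, Nat.cast_sub hm0]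
          push_cast; ring
      · rw [Finset.mem_erase]
        exact ⟨fun e => hff e.symm, by simp [he]⟩
  · rw [Finset.filter_false_of_mem fun g _ hg => he (hg.1.1.trans hg.2.1),
      if_neg fun hh' => he hh'.1, if_neg fun hh' : f = f' => he (by rw [hh'])]
    simp

theorem trace_alt {j : ℕ} (s : Bool) (h1 : 1 ≤ j) (h2 : j ≤ n) :
    (alt (mat s : Matrix (Flag Adj side) (Flag Adj side) ℝ) (mat (!s)) j).prod.trace = 0 := by
  refine Finset.sum_eq_zero fun f _ => ?_
  rw [Matrix.diag_apply, P.alt_apply j s f f h1 h2, if_neg (P.not_reach_self h1 f)]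

theorem braid (hn : 2 ≤ n) (s : Bool) :
    (alt (mat s : Matrix (Flag Adj side) (Flag Adj side) ℝ) (mat (!s)) n).prod =
      (alt (mat (!s)) (mat s) n).prod := by
  ext f f'
  have e2 := P.alt_apply n (!s) f f' (by omega) le_rfl
  rw [Bool.not_not] at e2
  rw [P.alt_apply n s f f' (by omega) le_rfl, e2]
  refine if_congr ?_ rfl rfl
  rw [P.reach_top hn, P.reach_top hn, Bool.not_not, ← par_not, Bool.not_not]
  exact and_comm

/-- The gonality of a thick generalised polygon of order `(q, q)` with at least five sides is 6 or 8. -/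
theorem six_or_eight [Nonempty W] {q : ℕ} (hq : 2 ≤ q) (hn : 5 ≤ n) (haq : a = q) (hcq : c = q) :
    n = 6 ∨ n = 8 := by
  subst a c
  obtain ⟨v⟩ := (inferInstance : Nonempty W)
  haveI : Nonempty (Flag Adj side) := by
    have hne : {w | Adj v w}.Nonempty := by
      refine Set.nonempty_of_ncard_ne_zero ?_
      cases hs : side v
      · rw [P.deg_false v hs]; omega
      · rw [P.deg_true v hs]; omega
    obtain ⟨w, hw⟩ := hne
    obtain ⟨f, -⟩ := P.exists_flag rfl hw
    exact ⟨f⟩
  have hA := P.mat_sq true q fun v hv => P.deg_false v hv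
  have hC := P.mat_sq false q fun v hv => P.deg_true v hv
  have hq1 : (1 : ℝ) < q := by exact_mod_cast hq
  have hv : 0 < Fintype.card (Flag Adj side) := Fintype.card_pos
  have hb := P.braid (by omega) true
  rw [Bool.not_true] at hb
  obtain ⟨h, hh | hh⟩ : ∃ h, n = 2 * h ∨ n = 2 * h + 1 := ⟨n / 2, by omega⟩
  · rw [hh, (alt_prod_formula h _ _).1, (alt_prod_formula h _ _).1] at hb
    have h4 : h ≤ 4 := even_case hq hq hv (by omega) fun j h1 h2 =>
      even_multiplicity hq1 hq1 hA hC (fun i i1 i2 => P.trace_alt true i1 (by omega))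
        (fun i i1 i2 => P.trace_alt false i1 (by omega)) hb h1 h2
    omega
  · rw [hh, (alt_prod_formula h _ _).2, (alt_prod_formula h _ _).2] at hb
    obtain ⟨M, hM⟩ := odd_multiplicity hq1 hA hC (k := h) (by omega)
      (fun i i1 i2 => P.trace_alt true i1 (by omega)) (fun i i1 i2 => P.trace_alt false i1 (by omega)) hb
    have := odd_case hq hv hM
    omega

end Matrices

end Gon

section PointLine

variable {P L : Type*} [Fintype P] [Fintype L] {I : P → L → Prop} {D : P → P → ℕ} {q h n : ℕ}

/-- The hypotheses on the point distance of a generalised polygon of order `(q, q)`. -/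
structure PointDist (I : P → L → Prop) (D : P → P → ℕ) (q h n : ℕ) : Prop where
  two_le : 2 ≤ q
  gon : n = 2 * h ∨ n = 2 * h + 1
  five_le : 5 ≤ n
  lines : ∀ w, Nat.card {l // I w l} = q + 1
  points : ∀ l, Nat.card {z // I z l} = q + 1
  eq_zero : ∀ y w, D y w = 0 ↔ y = w
  symm : ∀ y w, D y w = D w y
  le : ∀ y w, D y w ≤ h
  line : ∀ y l, (∃ z, I z l ∧ D y z < h ∧ ∀ z', I z' l → z' ≠ z → D y z' = D y z + 1) ∨
    (n = 2 * h + 1 ∧ ∀ z, I z l → D y z = h)
  back : ∀ y w, 0 < D y w → (D y w < h ∨ n = 2 * h + 1) → ∃! l, I w l ∧ ∃ z, I z l ∧ D y z < D y w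

namespace PointDist

variable (H : PointDist I D q h n)
include H

omit [Fintype P] [Fintype L]

theorem exists_point (l : L) : ∃ z, I z l := by
  have h1 : 0 < Nat.card {z // I z l} := by rw [H.points l]; omega
  obtain ⟨⟨z, hz⟩⟩ := (Nat.card_pos_iff.1 h1).1
  exact ⟨z, hz⟩

theorem tri {y z z' : P} {l : L} (hz : I z l) (hz' : I z' l) : D y z' ≤ D y z + 1 := by
  rcases H.line y l with ⟨w, -, -, hw⟩ | ⟨-, hw⟩
  · by_cases e1 : z = w
    · subst e1
      by_cases e2 : z' = z
      · rw [e2]; omega
      · rw [hw z' hz' e2]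
    · by_cases e2 : z' = w
      · rw [e2, hw z hz e1]; omega
      · rw [hw z' hz' e2, hw z hz e1]; omega
  · rw [hw z hz, hw z' hz']; omega

theorem tri' {y w w' : P} {m : L} (hw : I w m) (hw' : I w' m) : D w' y ≤ D w y + 1 := by
  rw [H.symm w', H.symm w]; exact H.tri hw hw'

/-- The distance from a point to a line. -/
noncomputable def toLine (_ : PointDist I D q h n) (y : P) (l : L) : ℕ :=
  sInf ((fun z => D y z) '' {z | I z l})

theorem toLine_le {y z : P} {l : L} (hz : I z l) : H.toLine y l ≤ D y z :=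
  Nat.sInf_le ⟨z, hz, rfl⟩

theorem exists_toLine (y : P) (l : L) : ∃ z, I z l ∧ D y z = H.toLine y l := by
  obtain ⟨w, hw⟩ := H.exists_point l
  obtain ⟨z, hz, e⟩ := Nat.sInf_mem (s := (fun z => D y z) '' {z | I z l}) ⟨_, w, hw, rfl⟩
  exact ⟨z, hz, e⟩

theorem toLine_eq_zero {y : P} {l : L} : H.toLine y l = 0 ↔ I y l := by
  obtain ⟨z, hz, e⟩ := H.exists_toLine y l
  refine ⟨fun h0 => ?_, fun hy => ?_⟩
  · rw [h0, H.eq_zero] at e; exact e ▸ hz
  · have := H.toLine_le (y := y) hy
    rw [(H.eq_zero y y).2 rfl] at this; omega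

theorem nearest_unique {y z z' : P} {l : L} (hlt : H.toLine y l < h) (hz : I z l) (hz' : I z' l)
    (e : D y z = H.toLine y l) (e' : D y z' = H.toLine y l) : z = z' := by
  rcases H.line y l with ⟨w, hw, -, hwu⟩ | ⟨-, hall⟩
  · have hlw := H.toLine_le (y := y) hw
    have key : ∀ z, I z l → D y z = H.toLine y l → z = w := fun z hz e => by
      by_contra hne
      rw [hwu z hz hne] at e; omega
    rw [key z hz e, key z' hz' e']
  · rw [hall z hz] at e; omega

theorem toLine_lt_of_even (he : n = 2 * h) (y : P) (l : L) : H.toLine y l < h := by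
  rcases H.line y l with ⟨w, hw, hlt, -⟩ | ⟨ho, -⟩
  · have := H.toLine_le (y := y) hw; omega
  · omega

theorem back_unique {y w : P} {l l' : L} (h0 : 0 < D y w) (hlt : D y w < h ∨ n = 2 * h + 1)
    (hl : I w l) (hl' : I w l') {z z' : P} (hz : I z l) (hz' : I z' l') (e : D y z < D y w)
    (e' : D y z' < D y w) : l = l' := by
  obtain ⟨k, -, hk⟩ := H.back y w h0 hlt
  rw [hk l ⟨hl, z, hz, e⟩, hk l' ⟨hl', z', hz', e'⟩]

theorem not_two_common {z w : P} {l m : L} (hzw : z ≠ w) (hzl : I z l) (hwl : I w l) (hzm : I z m)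
    (hwm : I w m) : l = m := by
  have h2 : 2 ≤ h := by have := H.gon; have := H.five_le; omega
  have h1 : D z w = 1 := by
    have := H.tri (y := z) hzl hwl
    rw [(H.eq_zero z z).2 rfl] at this
    have := mt (H.eq_zero z w).1 hzw
    omega
  exact H.back_unique (y := z) (w := w) (by omega) (Or.inl (by omega)) hwl hwm hzl hzm
    (by rw [(H.eq_zero z z).2 rfl]; omega) (by rw [(H.eq_zero z z).2 rfl]; omega)

theorem pair_absurd {w w' z z' : P} {l m : L} {M : ℕ} (hlm : l ≠ m) (hw : I w m) (hw' : I w' m)
    (hz : I z l) (hz' : I z' l) (hzz : z ≠ z') (hlt : M + 1 < h ∨ (n = 2 * h + 1 ∧ M + 1 ≤ h))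
    (hmin : ∀ u, I u l → M ≤ H.toLine u m) (e : D w z = M) (e' : D w' z' = M) (hne : w ≠ w') : False := by
  have h1 : D w z' = M + 1 := by
    rcases H.line w l with ⟨a, ha, -, hau⟩ | ⟨-, hall⟩
    · have hm : ∀ u, I u l → M ≤ D w u := fun u hu => le_trans (hmin u hu) (by
        rw [H.symm w u]; exact H.toLine_le hw)
      by_cases ea : z = a
      · subst ea; rw [hau z' hz' fun e => hzz e.symm, e]
      · have := hau z hz ea; have := hm a ha; omega
    · have := hall z hz; omega
  rcases Nat.eq_zero_or_pos M with hM | hM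
  · subst hM
    rw [H.eq_zero] at e e'
    subst e e'
    exact hlm (H.not_two_common hne hz hz' hw hw')
  have hlt' : D w z' < h ∨ n = 2 * h + 1 := by
    rcases hlt with hl | ⟨hl, -⟩
    · exact Or.inl (by omega)
    · exact Or.inr hl
  obtain ⟨k, ⟨hk, u, hu, hul⟩, -⟩ := H.back w' z' (by omega) (by omega)
  have := H.tri' (y := u) hw' hw
  have hkl : k = l := H.back_unique (y := w) (by omega) hlt' hk hz' hu hz (by omega) (by omega)
  subst hkl
  have h3 := hmin u hu
  have h4 : H.toLine u m ≤ D w' u := by rw [H.symm w' u]; exact H.toLine_le hw'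
  omega

/-- The distance between two lines, halved. -/
noncomputable def between (_ : PointDist I D q h n) (l m : L) : ℕ :=
  sInf ((fun p : P × P => D p.1 p.2) '' {p | I p.1 l ∧ I p.2 m})

theorem between_le {z w : P} {l m : L} (hz : I z l) (hw : I w m) : H.between l m ≤ D z w :=
  Nat.sInf_le ⟨(z, w), ⟨hz, hw⟩, rfl⟩

theorem exists_between (l m : L) : ∃ z w, I z l ∧ I w m ∧ D z w = H.between l m := by
  obtain ⟨z, hz⟩ := H.exists_point l
  obtain ⟨w, hw⟩ := H.exists_point m
  obtain ⟨⟨z', w'⟩, ⟨hz', hw'⟩, e⟩ :=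
    Nat.sInf_mem (s := (fun p : P × P => D p.1 p.2) '' {p | I p.1 l ∧ I p.2 m}) ⟨_, (z, w), ⟨hz, hw⟩, rfl⟩
  exact ⟨z', w', hz', hw', e⟩

theorem between_symm (l m : L) : H.between l m = H.between m l := by
  obtain ⟨z, w, hz, hw, e⟩ := H.exists_between l m
  obtain ⟨z', w', hz', hw', e'⟩ := H.exists_between m l
  have h1 := H.between_le hw hz
  have h2 := H.between_le hw' hz'
  rw [H.symm] at h1 h2
  omega

theorem between_le_toLine {z : P} {l : L} (m : L) (hz : I z l) : H.between l m ≤ H.toLine z m := by
  obtain ⟨w, hw, e⟩ := H.exists_toLine z m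
  rw [← e]; exact H.between_le hz hw

theorem between_lt [Finite P] (l m : L) : H.between l m < h := by
  rcases H.gon with he | ho
  · obtain ⟨z, hz⟩ := H.exists_point l
    have := H.between_le_toLine m hz
    have := H.toLine_lt_of_even he z m
    omega
  by_contra hge
  have h2 : 2 ≤ h := by have := H.five_le; omega
  obtain ⟨z, hz⟩ := H.exists_point l
  have hfar : ∀ w, I w m → D w z = h := fun w hw => by
    have := H.between_le hz hw
    rw [H.symm] at this
    have := H.le w z
    omega
  choose k hk using fun w : {w // I w m} => (H.back w.1 z (by rw [hfar w.1 w.2]; omega) (Or.inr ho)).exists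
  let φ : {w // I w m} → {l // I z l} := fun w => ⟨k w, (hk w).1⟩
  have hinj : Function.Injective φ := fun w w' e => by
    replace e : k w = k w' := congrArg Subtype.val e
    by_contra hne
    obtain ⟨hzk, u, hu, hul⟩ := hk w
    obtain ⟨-, u', hu', hul'⟩ := hk w'
    rw [← e] at hu'
    rw [hfar _ w.2] at hul
    rw [hfar _ w'.2] at hul'
    have t1 := H.tri (y := w.1) hu hzk
    have t2 := H.tri (y := w'.1) hu' hzk
    rw [hfar _ w.2] at t1
    rw [hfar _ w'.2] at t2
    by_cases huu : u = u'
    · subst huu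
      rcases H.line u m with ⟨a, ha, -, hau⟩ | ⟨-, hall⟩
      · have d1 : D u w.1 + 1 = h := by rw [H.symm u]; omega
        have d2 : D u w'.1 + 1 = h := by rw [H.symm u]; omega
        by_cases ea : w.1 = a
        · have := hau w'.1 w'.2 fun e => hne (Subtype.ext (ea.trans e.symm))
          rw [← ea] at this; omega
        · have := hau w.1 w.2 ea
          have h7 := H.tri (y := a) hu hzk
          rw [hfar a ha, H.symm a u] at h7
          omega
      · have := hall w.1 w.2
        rw [H.symm] at this; omega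
    · have hkm : k w ≠ m := by
        intro ekm
        rw [ekm] at hzk
        have := hfar z hzk
        rw [(H.eq_zero z z).2 rfl] at this; omega
      refine H.pair_absurd (M := h - 1) hkm w.2 w'.2 hu hu' huu (Or.inr ⟨ho, by omega⟩) (fun v hv => ?_)
        (by omega) (by omega) fun e => hne (Subtype.ext e)
      obtain ⟨b, hb, eb⟩ := H.exists_toLine v m
      have h7 := H.tri (y := b) hv hzk
      rw [hfar b hb, H.symm b v, eb] at h7
      omega
  have hfin : Finite {l // I z l} := Nat.finite_of_card_ne_zero (by rw [H.lines z]; omega)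
  have hbij := hinj.bijective_of_nat_card_le (by rw [H.lines z, H.points m])
  obtain ⟨w, hw⟩ := hbij.2 ⟨l, hz⟩
  obtain ⟨-, u, hu, hul⟩ := hk w
  rw [show k w = l from congrArg Subtype.val hw] at hu
  rw [hfar _ w.2] at hul
  have := H.between_le hu w.2
  rw [H.symm] at this
  omega

open scoped Classical in
/-- The distance of the incidence graph. -/
noncomputable def gDist (H : PointDist I D q h n) : P ⊕ L → P ⊕ L → ℕ
  | .inl y, .inl w => 2 * D y w
  | .inl y, .inr l => 2 * H.toLine y l + 1
  | .inr l, .inl y => 2 * H.toLine y l + 1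
  | .inr l, .inr m => if l = m then 0 else 2 + 2 * H.between l m

omit H in
/-- The incidence graph. -/
def gAdj (I : P → L → Prop) : P ⊕ L → P ⊕ L → Prop
  | .inl y, .inr l => I y l
  | .inr l, .inl y => I y l
  | _, _ => False

theorem toLine_or {y z : P} {l : L} (hz : I z l) : D y z = H.toLine y l ∨ D y z = H.toLine y l + 1 := by
  obtain ⟨a, ha, e⟩ := H.exists_toLine y l
  have := H.tri (y := y) ha hz
  have := H.toLine_le (y := y) hz
  omega

theorem gon_step {u : P ⊕ L} {z : P} {l : L} (hz : I z l) :
    H.gDist u (.inl z) + 1 = H.gDist u (.inr l) ∨ H.gDist u (.inr l) + 1 = H.gDist u (.inl z) := by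
  rcases u with y | m
  · simp only [gDist]
    rcases H.toLine_or (y := y) hz with e | e <;> omega
  · simp only [gDist]
    split_ifs with e
    · subst e
      rw [H.toLine_eq_zero.2 hz]; omega
    · have h1 : H.between m l ≤ H.toLine z m := by rw [H.between_symm]; exact H.between_le_toLine m hz
      obtain ⟨w, a, hw, ha, e'⟩ := H.exists_between m l
      have h2 : H.toLine z m ≤ D z w := H.toLine_le hw
      have h3 := H.tri (y := w) ha hz
      rw [H.symm z w] at h2
      omega

theorem toGon [Finite P] : Gon (gAdj I) (Sum.isLeft : P ⊕ L → Bool) H.gDist q q n := by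
  have hgon := H.gon
  refine ⟨?_, ?_, ?_, ?_, ?_, ?_, ?_, ?_, ?_⟩
  · rintro (y | l) (w | m) e <;> exact e
  · rintro (y | l) (w | m) e <;> first | exact False.elim e | rfl
  · rintro (y | l) hv
    · rw [← H.lines y, ← Nat.card_coe_set_eq]
      refine Nat.card_congr ⟨fun w => match w with | ⟨.inr l, hl⟩ => ⟨l, hl⟩ | ⟨.inl z, hl⟩ => False.elim hl,
        fun l => ⟨.inr l.1, l.2⟩, ?_, fun l => rfl⟩
      rintro ⟨z | l, hl⟩
      · exact False.elim hl
      · rfl
    · simp at hv
  · rintro (y | l) hv
    · simp at hv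
    · rw [← H.points l, ← Nat.card_coe_set_eq]
      refine Nat.card_congr ⟨fun w => match w with | ⟨.inl z, hz⟩ => ⟨z, hz⟩ | ⟨.inr l, hz⟩ => False.elim hz,
        fun z => ⟨.inl z.1, z.2⟩, ?_, fun l => rfl⟩
      rintro ⟨z | l', hl⟩
      · rfl
      · exact False.elim hl
  · rintro (y | l) (w | m) <;> simp only [gDist]
    · rw [H.symm]
    · by_cases e : l = m
      · rw [if_pos e, if_pos e.symm]
      · rw [if_neg e, if_neg fun e' => e e'.symm, H.between_symm]
  · rintro (y | l) (w | m) <;> simp only [gDist]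
    · simp [H.eq_zero]
    · simp
    · simp
    · split_ifs with e <;> simp [e]
  · rintro (y | l) (w | m) <;> simp only [gDist]
    · have := H.le y w; omega
    · obtain ⟨z, hz, e⟩ := H.exists_toLine y m
      have := H.le y z
      rcases hgon with he | he
      · have := H.toLine_lt_of_even he y m; omega
      · omega
    · obtain ⟨z, hz, e⟩ := H.exists_toLine w l
      have := H.le w z
      rcases hgon with he | he
      · have := H.toLine_lt_of_even he w l; omega
      · omega
    · have := H.between_lt l m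
      split_ifs <;> omega
  · rintro u (z | l) (z' | l') e
    · exact False.elim e
    · exact (H.gon_step e).symm
    · exact H.gon_step e
    · exact False.elim e
  · rintro (y | m) (w | l) h0 hlt <;> simp only [gDist] at h0 hlt
    · obtain ⟨k, ⟨hk, z, hz, hzl⟩, huni⟩ := H.back y w (by omega) (by omega)
      refine ⟨.inr k, ⟨hk, ?_⟩, ?_⟩
      · simp only [gDist]
        have := H.toLine_le (y := y) hz
        rcases H.toLine_or (y := y) hk with e | e <;> omega
      · rintro (z' | l') ⟨hl', e⟩
        · exact False.elim hl'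
        · simp only [gDist] at e
          obtain ⟨a, ha, ea⟩ := H.exists_toLine y l'
          rw [huni l' ⟨hl', a, ha, by omega⟩]
    · have hlth : H.toLine y l < h := by
        obtain ⟨z, -, e⟩ := H.exists_toLine y l
        have := H.le y z
        omega
      obtain ⟨z, hz, e⟩ := H.exists_toLine y l
      refine ⟨.inl z, ⟨hz, by simp only [gDist]; omega⟩, ?_⟩
      rintro (z' | l') ⟨hl', e'⟩
      · simp only [gDist] at e'
        rw [H.nearest_unique hlth hz hl' e (by omega)]
      · exact False.elim hl'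
    · have hlth : H.toLine w m < h := by
        obtain ⟨z, -, e⟩ := H.exists_toLine w m
        have := H.le w z
        omega
      obtain ⟨a, ha, ea⟩ := H.exists_toLine w m
      rcases Nat.eq_zero_or_pos (H.toLine w m) with h00 | h00
      · refine ⟨.inr m, ⟨H.toLine_eq_zero.1 h00, by simp [gDist, h00]⟩, ?_⟩
        rintro (z' | l') ⟨hl', e'⟩
        · exact False.elim hl'
        · simp only [gDist, h00] at e'
          split_ifs at e' with e''
          · rw [e'']
          · omega
      have ea' : D a w = H.toLine w m := by rw [H.symm]; exact ea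
      obtain ⟨k, ⟨hk, z, hz, hzl⟩, huni⟩ := H.back a w (by omega) (Or.inl (by omega))
      have hkm : m ≠ k := fun e => by
        rw [← e] at hk
        rw [H.toLine_eq_zero.2 hk] at h00; omega
      refine ⟨.inr k, ⟨hk, ?_⟩, ?_⟩
      · simp only [gDist, if_neg hkm]
        have h1 := H.between_le ha hz
        obtain ⟨b, c, hb, hc, e⟩ := H.exists_between m k
        have h2 := H.tri (y := b) hc hk
        have h3 := H.toLine_le (y := w) hb
        rw [H.symm w b] at h3
        omega
      · rintro (z' | l') ⟨hl', e'⟩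
        · exact False.elim hl'
        · simp only [gDist] at e'
          have hml : m ≠ l' := fun e => by
            rw [← e] at hl'
            have : I w m := hl'
            rw [H.toLine_eq_zero.2 this] at h00; omega
          rw [if_neg hml] at e'
          obtain ⟨b, c, hb, hc, e⟩ := H.exists_between m l'
          have h2 := H.tri (y := b) hc hl'
          have h3 := H.toLine_le (y := w) hb
          rw [H.symm w b] at h3
          have hba : b = a := H.nearest_unique hlth hb ha (by rw [H.symm]; omega) ea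
          subst hba
          rw [huni l' ⟨hl', c, hc, by omega⟩]
    · by_cases hlm : m = l
      · simp [hlm] at h0
      rw [if_neg hlm] at hlt
      obtain ⟨w, z, hw, hz, e⟩ := H.exists_between m l
      have hmin : ∀ u, I u l → H.between m l ≤ H.toLine u m := fun u hu => by
        rw [H.between_symm]; exact H.between_le_toLine m hu
      refine ⟨.inl z, ⟨hz, ?_⟩, ?_⟩
      · simp only [gDist, if_neg hlm]
        have h1 := H.toLine_le (y := z) hw
        have h2 := hmin z hz
        rw [H.symm z w] at h1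
        omega
      · rintro (z' | l') ⟨hl', e'⟩
        · simp only [gDist, if_neg hlm] at e'
          obtain ⟨w', hw', ew'⟩ := H.exists_toLine z' m
          rw [H.symm z' w'] at ew'
          by_contra hne
          replace hne : z ≠ z' := fun e => hne (by rw [e])
          by_cases hww : w = w'
          · subst hww
            have hle : H.toLine w l ≤ D w z := H.toLine_le hz
            have hge : H.between m l ≤ H.toLine w l := H.between_le_toLine l hw
            exact hne (H.nearest_unique (y := w) (l := l) (by omega) hz hl' (by omega) (by omega))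
          · exact H.pair_absurd (M := H.between m l) (fun e => hlm e.symm) hw hw' hz hl' hne (by omega) hmin e
              (by omega) hww
        · exact False.elim hl'

end PointDist

open scoped Classical in
/-- A thick generalised polygon of order `(q, q)`, given by its point distance, is a hexagon or an octagon. -/
theorem polygon_bound {P L : Type*} [Fintype P] [Fintype L] [Nonempty P] (I : P → L → Prop) (D : P → P → ℕ)
    (q h n : ℕ) (hq : 2 ≤ q) (hn : n = 2 * h ∨ n = 2 * h + 1) (h5 : 5 ≤ n)
    (hlines : ∀ w, Nat.card {l // I w l} = q + 1) (hpoints : ∀ l, Nat.card {z // I z l} = q + 1)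
    (hD0 : ∀ y w, D y w = 0 ↔ y = w) (hsymm : ∀ y w, D y w = D w y) (hle : ∀ y w, D y w ≤ h)
    (hline : ∀ y l, (∃ z, I z l ∧ D y z < h ∧ ∀ z', I z' l → z' ≠ z → D y z' = D y z + 1) ∨
      (n = 2 * h + 1 ∧ ∀ z, I z l → D y z = h))
    (hback : ∀ y w, 0 < D y w → (D y w < h ∨ n = 2 * h + 1) → ∃! l, I w l ∧ ∃ z, I z l ∧ D y z < D y w) :
    n = 6 ∨ n = 8 :=
  (PointDist.toGon ⟨hq, hn, h5, hlines, hpoints, hD0, hsymm, hle, hline, hback⟩).six_or_eight hq h5 rfl rfl

end PointLine

end Cfsg.Lib.AntiflagTwo
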