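import Mathlib
import Cfsg.Agent.AntiflagTwo.Layers
import Cfsg.Agent.AntiflagTwo.Polygon

/-!
Layered components are generalised polygons, so their dimension is six or eight.
-/

set_option autoImplicit false
set_option linter.unusedSectionVars false

namespace Cfsg.Lib.AntiflagTwo

open Module

variable {F : Type*} [Field F] [Finite F] {U : Type*} [AddCommGroup U] [Module (ZMod 2) U]
  [Module F U] [Finite U] {G : Subgroup (U ≃ₗ[ZMod 2] U)}

theorem span_eq_of_finrank_one {P : Submodule F U} (hP : finrank F P = 1) {u : U} (hu : u ∈ P)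
    (hu0 : u ≠ 0) : Submodule.span F {u} = P :=
  Submodule.eq_of_le_of_finrank_eq (Submodule.span_le.2 (Set.singleton_subset_iff.2 hu))
    (by rw [finrank_span_singleton hu0, hP])

theorem exists_rep {P : Submodule F U} (hP : finrank F P = 1) :
    ∃ u, u ∈ P ∧ u ≠ 0 := by
  by_contra hc
  push Not at hc
  have : P = ⊥ := eq_bot_iff.2 fun u hu => (Submodule.mem_bot F).2 (hc u hu)
  rw [this, finrank_bot] at hP
  omega

variable (h : Setting F G)
include h

theorem one_lt_card : 1 < Nat.card F := by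
  rw [(card_F h).1]; exact Nat.one_lt_two_pow (card_F h).2.ne'

theorem card_points (X : Submodule F U) :
    (Nat.card F - 1) * Nat.card {P : Submodule F U // P ≤ X ∧ finrank F P = 1} =
      Nat.card F ^ finrank F X - 1 := by
  classical
  haveI := Fintype.ofFinite U
  haveI : Finite (Submodule F U) := Finite.of_injective (fun P => (P : Set U)) SetLike.coe_injective
  haveI := Fintype.ofFinite (Submodule F U)
  have hc : ∀ Y : Submodule F U, (Finset.univ.filter (fun u => u ∈ Y ∧ u ≠ 0)).card =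
      Nat.card F ^ finrank F Y - 1 := by
    intro Y
    have : Finset.univ.filter (fun u => u ∈ Y ∧ u ≠ 0) =
        (Finset.univ.filter (· ∈ Y)).erase 0 := by ext u; simp [and_comm]
    rw [this, Finset.card_erase_of_mem (by simp), ← Fintype.card_subtype, ← Nat.card_eq_fintype_card,
      ← Module.natCard_eq_pow_finrank]
  have h1 := Finset.card_eq_sum_card_fiberwise
    (s := Finset.univ.filter (fun u => u ∈ X ∧ u ≠ 0))
    (t := Finset.univ.filter (fun P : Submodule F U => P ≤ X ∧ finrank F P = 1))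
    (f := fun u => Submodule.span F {u}) (fun u hu => by
      simp only [Finset.coe_filter, Finset.mem_univ, true_and, Set.mem_ofPred_eq] at hu ⊢
      exact ⟨Submodule.span_le.2 (Set.singleton_subset_iff.2 hu.1), finrank_span_singleton hu.2⟩)
  rw [hc, Finset.sum_congr rfl (fun P hP => ?_), Finset.sum_const, smul_eq_mul] at h1
  · rw [h1, mul_comm, Nat.card_eq_fintype_card (α := {P : Submodule F U // P ≤ X ∧ finrank F P = 1}),
      Fintype.card_subtype]
  · simp only [Finset.mem_filter, Finset.mem_univ, true_and] at hP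
    have : (Finset.univ.filter (fun u => u ∈ X ∧ u ≠ 0)).filter (fun u => Submodule.span F {u} = P) =
        Finset.univ.filter (fun u => u ∈ P ∧ u ≠ 0) := by
      ext u
      simp only [Finset.mem_filter, Finset.mem_univ, true_and]
      exact ⟨fun hu => ⟨hu.2 ▸ Submodule.mem_span_singleton_self u, hu.1.2⟩,
        fun hu => ⟨⟨hP.1 hu.1, hu.2⟩, span_eq_of_finrank_one hP.2 hu.1 hu.2⟩⟩
    rw [this, hc, hP.2, pow_one]

variable (hm : 2 ≤ finrank F U)
include hm
variable (hD : ∀ u : U, u ≠ 0 → finrank F (wsp F G u) = 3)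
  (ht : ∀ y z : U, y ≠ 0 → z ∈ wsp F G y → z ∉ Submodule.span F {y} →
    finrank F ↥(wsp F G y ⊓ wsp F G z) = 2)
include hD ht

omit ht in
theorem card_planes {P : Submodule F U} (hP : finrank F P = 1) {y : U} (hy : y ∈ P) (hy0 : y ≠ 0) :
    Nat.card {X : Submodule F U // P ≤ X ∧ X ≤ wsp F G y ∧ finrank F X = 2} = Nat.card F + 1 := by
  classical
  haveI := Fintype.ofFinite U
  haveI : Finite (Submodule F U) := Finite.of_injective (fun P => (P : Set U)) SetLike.coe_injective
  haveI := Fintype.ofFinite (Submodule F U)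
  have hPy := span_eq_of_finrank_one hP hy hy0
  have hPW : P ≤ wsp F G y := hPy ▸ (good_wsp h hy0 hm).1.le
  have hc : ∀ X Y : Submodule F U, Y ≤ X →
      (Finset.univ.filter (fun u => u ∈ X ∧ u ∉ Y)).card =
        Nat.card F ^ finrank F X - Nat.card F ^ finrank F Y := by
    intro X Y hYX
    have : Finset.univ.filter (fun u => u ∈ X ∧ u ∉ Y) =
        Finset.univ.filter (· ∈ X) \ Finset.univ.filter (· ∈ Y) := by ext a; simp
    rw [this, Finset.card_sdiff_of_subset (fun a ha => by
      simp only [Finset.mem_filter, Finset.mem_univ, true_and] at ha ⊢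
      exact hYX ha), ← Fintype.card_subtype, ← Fintype.card_subtype, ← Nat.card_eq_fintype_card,
      ← Nat.card_eq_fintype_card, ← Module.natCard_eq_pow_finrank, ← Module.natCard_eq_pow_finrank]
  have hmem : ∀ u : U, u ∉ P → finrank F ↥(P ⊔ Submodule.span F {u}) = 2 := by
    intro u hu
    have h1 := Submodule.finrank_add_le_finrank_add_finrank P (Submodule.span F {u})
    have h2 : finrank F P < finrank F ↥(P ⊔ Submodule.span F {u}) := by
      refine Submodule.finrank_lt_finrank_of_lt (lt_of_le_of_ne le_sup_left fun hc => hu ?_)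
      rw [hc]; exact Submodule.mem_sup_right (Submodule.mem_span_singleton_self u)
    rw [finrank_span_singleton (fun (h0 : u = 0) => hu (h0 ▸ P.zero_mem)), hP] at h1
    omega
  have h1 := Finset.card_eq_sum_card_fiberwise
    (s := Finset.univ.filter (fun u => u ∈ wsp F G y ∧ u ∉ P))
    (t := Finset.univ.filter (fun X : Submodule F U => P ≤ X ∧ X ≤ wsp F G y ∧ finrank F X = 2))
    (f := fun u => P ⊔ Submodule.span F {u}) (fun u hu => by
      simp only [Finset.coe_filter, Finset.mem_univ, true_and, Set.mem_ofPred_eq] at hu ⊢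
      exact ⟨le_sup_left, sup_le hPW (Submodule.span_le.2 (Set.singleton_subset_iff.2 hu.1)),
        hmem u hu.2⟩)
  rw [hc _ _ hPW, hD y hy0, hP, pow_one,
    Finset.sum_congr rfl (fun X hX => (?_ : _ = Nat.card F ^ 2 - Nat.card F)), Finset.sum_const,
    smul_eq_mul] at h1
  · rw [Nat.card_eq_fintype_card (α := {X : Submodule F U // P ≤ X ∧ X ≤ wsp F G y ∧ finrank F X = 2}),
      Fintype.card_subtype]
    have hq := one_lt_card h
    set q := Nat.card F
    obtain ⟨r, hr⟩ : ∃ r, q = r + 1 := ⟨q - 1, by omega⟩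
    have e1 : q ^ 3 - q = (q + 1) * (q * r) := by
      rw [Nat.sub_eq_iff_eq_add (Nat.le_self_pow (by norm_num) q), hr]; ring
    have e2 : q ^ 2 - q = q * r := by
      rw [Nat.sub_eq_iff_eq_add (Nat.le_self_pow (by norm_num) q), hr]; ring
    rw [e1, e2] at h1
    exact (Nat.eq_of_mul_eq_mul_right (Nat.mul_pos (by omega) (by omega)) h1).symm
  · simp only [Finset.mem_filter, Finset.mem_univ, true_and] at hX
    have : (Finset.univ.filter (fun u => u ∈ wsp F G y ∧ u ∉ P)).filter
        (fun u => P ⊔ Submodule.span F {u} = X) = Finset.univ.filter (fun u => u ∈ X ∧ u ∉ P) := by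
      ext u
      simp only [Finset.mem_filter, Finset.mem_univ, true_and]
      refine ⟨fun hu => ⟨hu.2 ▸ Submodule.mem_sup_right (Submodule.mem_span_singleton_self u), hu.1.2⟩,
        fun hu => ⟨⟨hX.2.1 hu.1, hu.2⟩, ?_⟩⟩
      exact Submodule.eq_of_le_of_finrank_eq (sup_le hX.1
        (Submodule.span_le.2 (Set.singleton_subset_iff.2 hu.1))) (by rw [hmem u hu.2, hX.2.2])
    rw [this, hc _ _ hX.1, hX.2.2, hP, pow_one]

/-- A layered component of dimension at least five has dimension six or eight. -/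
theorem layered_six_or_eight {h₀ n : ℕ} (hL : Layered F G h₀ n) (h5 : 5 ≤ n) : n = 6 ∨ n = 8 := by
  classical
  haveI := Fintype.ofFinite U
  haveI : Finite (Submodule F U) := Finite.of_injective (fun P => (P : Set U)) SetLike.coe_injective
  obtain ⟨y₀, hy₀⟩ := h.ne
  set E := comp F G y₀
  let PT := {P : Submodule F U // P ≤ E ∧ finrank F P = 1}
  let LT := {X : Submodule F U // X ≤ E ∧ finrank F X = 2 ∧ ∀ a ∈ X, a ≠ 0 → X ≤ wsp F G a}
  haveI : Fintype PT := Fintype.ofFinite PT
  haveI : Fintype LT := Fintype.ofFinite LT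
  haveI : Nonempty PT := ⟨⟨Submodule.span F {y₀},
    Submodule.span_le.2 (Set.singleton_subset_iff.2 (self_mem_comp h hm hy₀)), finrank_span_singleton hy₀⟩⟩
  choose r hr hr0 using fun P : PT => exists_rep P.2.2
  have hsp : ∀ P : PT, Submodule.span F {r P} = P.1 := fun P =>
    span_eq_of_finrank_one P.2.2 (hr P) (hr0 P)
  have hE : ∀ P : PT, comp F G (r P) = E := fun P =>
    comp_eq h hm hy₀ (hr0 P) (P.2.1 (hr P))
  let D : PT → PT → ℕ := fun P Q =>
    ((Finset.range h₀).filter fun j => r Q ∉ ball F G j (r P)).card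
  have hmono : ∀ (P : PT) {i j : ℕ}, i ≤ j → ∀ {u : U}, u ∈ ball F G i (r P) → u ∈ ball F G j (r P) := by
    intro P i j hij
    induction j, hij using Nat.le_induction with
    | base => intro u hu; exact hu
    | succ j _ ih => intro u hu; exact ball_mono h hm (hr0 P) (ih hu)
  have hmem : ∀ (P : PT) {j : ℕ}, j ≤ h₀ → ∀ {u : U},
      u ∈ ballSpan F G j (r P) ↔ u ∈ ball F G j (r P) := fun P j hj u =>
    ⟨hL.mem _ (hr0 P) j hj u, fun hu => Submodule.subset_span hu⟩
  have hDle : ∀ P Q, D P Q ≤ h₀ := fun P Q => (Finset.card_filter_le _ _).trans (by simp)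
  have hDiff : ∀ P Q, ∀ i, i ≤ h₀ → (D P Q ≤ i ↔ r Q ∈ ball F G i (r P)) := by
    intro P Q i hi
    constructor
    · intro hd
      by_contra hc
      rcases hi.lt_or_eq with hi' | rfl
      · have : Finset.range (i + 1) ⊆
            (Finset.range h₀).filter fun j => r Q ∉ ball F G j (r P) := fun j hj => by
          simp only [Finset.mem_range] at hj
          exact Finset.mem_filter.2 ⟨Finset.mem_range.2 (by omega),
            fun hb => hc (hmono P (by omega) hb)⟩
        have := Finset.card_le_card this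
        rw [Finset.card_range] at this
        simp only [D] at hd
        omega
      · refine hc ((hmem P le_rfl).1 ?_)
        rw [hL.top _ (hr0 P), hE P]
        exact Q.2.1 (hr Q)
    · intro hb
      refine (Finset.card_le_card (t := Finset.range i) fun j hj => ?_).trans (by simp)
      simp only [Finset.mem_filter, Finset.mem_range] at hj ⊢
      by_contra hc
      exact hj.2 (hmono P (by omega) hb)
  have hD0 : ∀ P Q, D P Q = 0 ↔ P = Q := by
    intro P Q
    rw [← Nat.le_zero, hDiff P Q 0 (Nat.zero_le _)]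
    constructor
    · intro hb
      apply Subtype.ext
      rw [← hsp Q, ← hsp P]
      exact (span_eq_of_finrank_one (finrank_span_singleton (hr0 P)) hb (hr0 Q)).symm
    · rintro rfl; exact Submodule.mem_span_singleton_self _
  have hsymm : ∀ P Q, D P Q = D Q P := by
    intro P Q
    refine le_antisymm ?_ ?_ <;> rw [hDiff _ _ _ (hDle _ _)] <;>
      exact ball_symm h hm (hr0 _) (hr0 _) ((hDiff _ _ _ (hDle _ _)).1 le_rfl)
  -- points on lines and lines through points
  have pt : ∀ (u : U), u ∈ E → u ≠ 0 → ∃ P : PT, u ∈ P.1 := fun u hu hu0 =>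
    ⟨⟨Submodule.span F {u}, Submodule.span_le.2 (Set.singleton_subset_iff.2 hu),
      finrank_span_singleton hu0⟩, Submodule.mem_span_singleton_self u⟩
  have rep : ∀ (P : PT) {X : Submodule F U}, P.1 ≤ X ↔ r P ∈ X := fun P X =>
    ⟨fun hle => hle (hr P), fun hx => hsp P ▸ Submodule.span_le.2 (Set.singleton_subset_iff.2 hx)⟩
  have mkLine : ∀ (a c : U), a ∈ E → a ≠ 0 → c ∈ wsp F G a → c ∉ Submodule.span F {a} →
      ∀ X : Submodule F U, X ≤ wsp F G a → a ∈ X → c ∈ X → finrank F X = 2 →
        X ≤ E ∧ ∀ x ∈ X, x ≠ 0 → X ≤ wsp F G x := by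
    intro a c ha ha0 hc hca X hXW haX hcX hX2
    have hWE : wsp F G a ≤ E := (wsp_le_comp h hm ha0).trans (comp_eq h hm hy₀ ha0 ha).le
    refine ⟨hXW.trans hWE, fun x hx hx0 => ?_⟩
    by_cases hxa : x ∈ Submodule.span F {a}
    · obtain ⟨d, rfl⟩ := Submodule.mem_span_singleton.1 hxa
      rwa [wsp_smul h fun hd : d = 0 => hx0 (by simp [hd])]
    · have hxW := hXW hx
      have hle : Submodule.span F {a} ⊔ Submodule.span F {x} ≤ wsp F G a ⊓ wsp F G x :=
        le_inf (sup_le (good_wsp h ha0 hm).1.le (Submodule.span_le.2 (Set.singleton_subset_iff.2 hxW)))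
          (sup_le (Submodule.span_le.2 (Set.singleton_subset_iff.2 (wsp_symm h hm ha0 hx0 hxW)))
            (good_wsp h hx0 hm).1.le)
      have h2 : 1 + 1 ≤ finrank F ↥(Submodule.span F {a} ⊔ Submodule.span F {x}) := by
        have h3 := finrank_line_sup h hm (P := Submodule.span F {a}) (u := x) hxa
          (le_sup_left (b := Submodule.span F {x}))
          (Submodule.mem_sup_right (Submodule.mem_span_singleton_self x))
        rwa [finrank_span_singleton ha0] at h3
      have hXeq : Submodule.span F {a} ⊔ Submodule.span F {x} = X :=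
        Submodule.eq_of_le_of_finrank_le (sup_le (Submodule.span_le.2 (Set.singleton_subset_iff.2 haX))
          (Submodule.span_le.2 (Set.singleton_subset_iff.2 hx))) (by omega)
      rw [← hXeq]; exact hle.trans inf_le_right
  have hlines : ∀ P : PT, Nat.card {l : LT // P.1 ≤ l.1} = Nat.card F + 1 := by
    intro P
    rw [← card_planes h hm hD P.2.2 (hr P) (hr0 P)]
    refine Nat.card_congr ⟨fun l => ⟨l.1.1, l.2, l.1.2.2.2 _ (l.2 (hr P)) (hr0 P), l.1.2.2.1⟩,
      fun X => ⟨⟨X.1, ?_⟩, X.2.1⟩, fun _ => rfl, fun _ => rfl⟩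
    obtain ⟨c, hc, hc'⟩ : ∃ c ∈ X.1, c ∉ Submodule.span F {r P} := by
      by_contra hc; push Not at hc
      have := Submodule.finrank_mono (show X.1 ≤ Submodule.span F {r P} from hc)
      rw [X.2.2.2, finrank_span_singleton (hr0 P)] at this
      omega
    obtain ⟨e1, e2⟩ := mkLine (r P) c (P.2.1 (hr P)) (hr0 P) (X.2.2.1 hc) hc' X.1 X.2.2.1
      (X.2.1 (hr P)) hc X.2.2.2
    exact ⟨e1, X.2.2.2, e2⟩
  have hpoints : ∀ l : LT, Nat.card {P : PT // P.1 ≤ l.1} = Nat.card F + 1 := by
    intro l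
    have e : Nat.card {P : PT // P.1 ≤ l.1} =
        Nat.card {P : Submodule F U // P ≤ l.1 ∧ finrank F P = 1} :=
      Nat.card_congr ⟨fun P => ⟨P.1.1, P.2, P.1.2.2⟩, fun P => ⟨⟨P.1, P.2.1.trans l.2.1, P.2.2⟩, P.2.1⟩,
        fun _ => rfl, fun _ => rfl⟩
    have h1 := card_points h l.1
    rw [← e, l.2.2.1] at h1
    have hq := one_lt_card h
    obtain ⟨s, hs⟩ : ∃ s, Nat.card F = s + 1 := ⟨Nat.card F - 1, by omega⟩
    rw [hs, Nat.add_sub_cancel, show (s + 1) ^ 2 - 1 = s * (s + 2) by
      rw [show (s + 1) ^ 2 = s * (s + 2) + 1 by ring, Nat.add_sub_cancel]] at h1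
    rw [hs, Nat.eq_of_mul_eq_mul_left (by omega) h1]
  -- membership of a layer
  have hlayer : ∀ P Q, ∀ j, D P Q = j + 1 →
      r Q ∈ ballSpan F G (j + 1) (r P) ∧ r Q ∉ ballSpan F G j (r P) := by
    intro P Q j hj
    have hle := hDle P Q
    rw [hj] at hle
    refine ⟨(hmem P hle).2 ((hDiff P Q _ hle).1 hj.le), fun hc => ?_⟩
    have := (hDiff P Q j (by omega)).2 ((hmem P (by omega)).1 hc)
    omega
  have hmeet1 : ∀ P Q, ∀ j, D P Q = j + 1 → (j + 1 < h₀ ∨ n = 2 * h₀ + 1) →
      finrank F ↥(wsp F G (r Q) ⊓ ballSpan F G j (r P)) = 1 := by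
    intro P Q j hj hjh
    obtain ⟨h1, h2⟩ := hlayer P Q j hj
    by_cases hlast : j + 1 = h₀
    · rw [hL.last _ (hr0 P) j hlast _ h1 h2]
      omega
    · exact (hL.meet _ (hr0 P) j (by have := hDle P Q; omega) _ h1 h2).1
  refine polygon_bound (fun (P : PT) (l : LT) => P.1 ≤ l.1) D (Nat.card F) h₀ n
    (one_lt_card h) hL.parity h5 hlines hpoints hD0 hsymm hDle ?_ ?_
  · intro P l
    haveI : Nonempty {Q : PT // Q.1 ≤ l.1} := by
      by_contra hc
      rw [not_nonempty_iff] at hc
      have := hpoints l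
      rw [Nat.card_of_isEmpty] at this
      omega
    obtain ⟨⟨Z, hZl⟩, hmin⟩ := Finite.exists_min (fun Q : {Q : PT // Q.1 ≤ l.1} => D P Q.1)
    have hlW : l.1 ≤ wsp F G (r Z) := l.2.2.2 _ (hZl (hr Z)) (hr0 Z)
    by_cases hlt : D P Z < h₀
    · refine Or.inl ⟨Z, hZl, hlt, fun Z' hZ' hne => ?_⟩
      have hle : D P Z' ≤ D P Z + 1 :=
        (hDiff P Z' _ (by omega)).2 ⟨r Z, (hDiff P Z _ hlt.le).1 le_rfl, hr0 Z, hlW (hZ' (hr Z'))⟩
      refine le_antisymm hle (Nat.succ_le_of_lt (lt_of_le_of_ne (hmin ⟨Z', hZ'⟩) fun he => ?_))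
      rcases Nat.eq_zero_or_pos (D P Z) with h0 | hpos
      · exact hne (((hD0 P Z').1 (he ▸ h0)).symm.trans ((hD0 P Z).1 h0))
      obtain ⟨j, hj⟩ : ∃ j, D P Z = j + 1 := ⟨D P Z - 1, by omega⟩
      obtain ⟨hz1, hz2⟩ := hlayer P Z j hj
      obtain ⟨hz1', -⟩ := hlayer P Z' j (he ▸ hj)
      have hzz : r Z' ∉ Submodule.span F {r Z} := fun hc => hne (Subtype.ext (by
        rw [← hsp Z', ← hsp Z]
        exact span_eq_of_finrank_one (finrank_span_singleton (hr0 Z)) hc (hr0 Z')))
      have hl2 : 1 + 1 ≤ finrank F ↥(l.1 ⊓ ballSpan F G (j + 1) (r P)) := by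
        have h3 := finrank_line_sup h hm (P := Submodule.span F {r Z})
          (X := l.1 ⊓ ballSpan F G (j + 1) (r P)) (u := r Z') hzz
          (Submodule.span_le.2 (Set.singleton_subset_iff.2 ⟨hZl (hr Z), hz1⟩)) ⟨hZ' (hr Z'), hz1'⟩
        rwa [finrank_span_singleton (hr0 Z)] at h3
      have hlB : l.1 ≤ ballSpan F G (j + 1) (r P) :=
        inf_eq_left.1 (Submodule.eq_of_le_of_finrank_le inf_le_left (by rw [l.2.2.1]; omega))
      have hll : l.1 = wsp F G (r Z) ⊓ ballSpan F G (j + 1) (r P) :=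
        Submodule.eq_of_le_of_finrank_le (le_inf hlW hlB) (by
          rw [(hL.meet _ (hr0 P) j (by omega) _ hz1 hz2).2, l.2.2.1])
      obtain ⟨w, hw, hw0⟩ := exists_rep (hL.meet _ (hr0 P) j (by omega) _ hz1 hz2).1
      have hwl : w ∈ l.1 := hll ▸ ⟨hw.1, ballSpan_mono h hm (hr0 P) hw.2⟩
      obtain ⟨Q, hQ⟩ := pt w (l.2.1 hwl) hw0
      have hQw : Q.1 = Submodule.span F {w} := (span_eq_of_finrank_one Q.2.2 hQ hw0).symm
      have hQl : Q.1 ≤ l.1 := hQw ▸ Submodule.span_le.2 (Set.singleton_subset_iff.2 hwl)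
      have hQB : r Q ∈ ballSpan F G j (r P) :=
        (hQw ▸ Submodule.span_le.2 (Set.singleton_subset_iff.2 hw.2) :
          Q.1 ≤ ballSpan F G j (r P)) (hr Q)
      have := (hDiff P Q j (by omega)).2 ((hmem P (by omega)).1 hQB)
      have := hmin ⟨Q, hQl⟩
      simp only at this
      omega
    · have hall : ∀ Q, Q.1 ≤ l.1 → D P Q = h₀ := fun Q hQ => by
        have := hmin ⟨Q, hQ⟩
        have := hDle P Q
        simp only at *
        omega
      refine Or.inr ⟨?_, hall⟩
      rcases hL.parity with hn | hn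
      · exfalso
        obtain ⟨j, hj⟩ : ∃ j, h₀ = j + 1 := ⟨h₀ - 1, by have := hL.two_le; omega⟩
        obtain ⟨hz1, hz2⟩ := hlayer P Z j ((hall Z hZl).trans hj)
        have h4 := hL.last _ (hr0 P) j hj.symm _ hz1 hz2
        set X := wsp F G (r Z) ⊓ ballSpan F G j (r P) with hX
        have h5' := Submodule.finrank_sup_add_finrank_inf_eq l.1 X
        have h6 := Submodule.finrank_mono (sup_le hlW inf_le_left : l.1 ⊔ X ≤ wsp F G (r Z))
        rw [hD _ (hr0 Z)] at h6
        rw [l.2.2.1, h4] at h5'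
        obtain ⟨w, hw, hw0⟩ : ∃ w, w ∈ l.1 ⊓ X ∧ w ≠ 0 := by
          by_contra hc; push Not at hc
          have : l.1 ⊓ X = ⊥ := eq_bot_iff.2 fun u hu => (Submodule.mem_bot F).2 (hc u hu)
          rw [this, finrank_bot] at h5'
          omega
        obtain ⟨Q, hQ⟩ := pt w (l.2.1 hw.1) hw0
        have hQw : Q.1 = Submodule.span F {w} := (span_eq_of_finrank_one Q.2.2 hQ hw0).symm
        have hQl : Q.1 ≤ l.1 := hQw ▸ Submodule.span_le.2 (Set.singleton_subset_iff.2 hw.1)
        have hQB : r Q ∈ ballSpan F G j (r P) :=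
          (hQw ▸ Submodule.span_le.2 (Set.singleton_subset_iff.2 hw.2.2) :
            Q.1 ≤ ballSpan F G j (r P)) (hr Q)
        have := (hDiff P Q j (by omega)).2 ((hmem P (by omega)).1 hQB)
        have := hall Q hQl
        omega
      · exact hn
  · intro P W hpos hW
    obtain ⟨j, hj⟩ : ∃ j, D P W = j + 1 := ⟨D P W - 1, by omega⟩
    obtain ⟨hw1, hw2⟩ := hlayer P W j hj
    set Qs := wsp F G (r W) ⊓ ballSpan F G j (r P) with hQs
    have hQ1 : finrank F Qs = 1 := hmeet1 P W j hj (by omega)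
    obtain ⟨u, hu, hu0⟩ := exists_rep hQ1
    have huW : u ∉ Submodule.span F {r W} := fun hc => by
      obtain ⟨d, rfl⟩ := Submodule.mem_span_singleton.1 hc
      have hd : d ≠ 0 := fun h0 => hu0 (by simp [h0])
      exact hw2 ((Submodule.smul_mem_iff _ hd).1 hu.2)
    set X := Submodule.span F {r W} ⊔ Submodule.span F {u} with hX
    have hX2 : finrank F X = 2 := by
      have h1 := Submodule.finrank_add_le_finrank_add_finrank (Submodule.span F {r W}) (Submodule.span F {u})
      have h2 := finrank_line_sup h hm (P := Submodule.span F {r W}) (X := X) (u := u) huW le_sup_left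
        (Submodule.mem_sup_right (Submodule.mem_span_singleton_self u))
      rw [finrank_span_singleton (hr0 W), finrank_span_singleton hu0, ← hX] at *
      omega
    obtain ⟨e1, e2⟩ := mkLine (r W) u (W.2.1 (hr W)) (hr0 W) hu.1 huW X
      (sup_le (good_wsp h (hr0 W) hm).1.le (Submodule.span_le.2 (Set.singleton_subset_iff.2 hu.1)))
      (Submodule.mem_sup_left (Submodule.mem_span_singleton_self _))
      (Submodule.mem_sup_right (Submodule.mem_span_singleton_self _)) hX2
    refine ⟨⟨X, e1, hX2, e2⟩, ⟨hsp W ▸ le_sup_left, ?_⟩, ?_⟩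
    · obtain ⟨Q, hQ⟩ := pt u (e1 (Submodule.mem_sup_right (Submodule.mem_span_singleton_self u))) hu0
      have hQu : Q.1 = Submodule.span F {u} := (span_eq_of_finrank_one Q.2.2 hQ hu0).symm
      refine ⟨Q, hQu ▸ le_sup_right, ?_⟩
      have hQB : r Q ∈ ballSpan F G j (r P) :=
        (hQu ▸ Submodule.span_le.2 (Set.singleton_subset_iff.2 hu.2) :
          Q.1 ≤ ballSpan F G j (r P)) (hr Q)
      have := (hDiff P Q j (by have := hDle P W; omega)).2
        ((hmem P (by have := hDle P W; omega)).1 hQB)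
      omega
    · rintro ⟨l, hlE, hl2, hlW⟩ ⟨hWl, Q, hQl, hQlt⟩
      have hQj : r Q ∈ ballSpan F G j (r P) :=
        (hmem P (by have := hDle P W; omega)).2 ((hDiff P Q j (by have := hDle P W; omega)).1 (by omega))
      have hQQ : r Q ∈ Qs := ⟨hlW _ (hWl (hr W)) (hr0 W) (hQl (hr Q)), hQj⟩
      have hul : u ∈ l := by
        have := span_eq_of_finrank_one hQ1 hQQ (hr0 Q)
        rw [hsp Q] at this
        exact (this ▸ hQl : Qs ≤ l) hu
      apply Subtype.ext
      exact (Submodule.eq_of_le_of_finrank_le (sup_le (Submodule.span_le.2 (Set.singleton_subset_iff.2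
        (hWl (hr W)))) (Submodule.span_le.2 (Set.singleton_subset_iff.2 hul)))
        (by rw [hl2, ← hX, hX2])).symm

end Cfsg.Lib.AntiflagTwo
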