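import Mathlib
import Cfsg.Agent.AntiflagTwo.Gon

/-!
The possible dimensions of a component and of the distinguished subspaces.
-/

set_option autoImplicit false
set_option linter.unusedSectionVars false

namespace Cfsg.Lib.AntiflagTwo

open Module

variable {F : Type*} [Field F] [Finite F] {U : Type*} [AddCommGroup U] [Module (ZMod 2) U]
  [Module F U] [Finite U] {G : Subgroup (U ≃ₗ[ZMod 2] U)}

variable (h : Setting F G)
include h
variable (hm : 2 ≤ finrank F U)
include hm

theorem inter_const' {y z y' z' : U} (hy : y ≠ 0) (hz : z ∈ wsp F G y)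
    (hz' : z ∉ Submodule.span F {y}) (hy' : y' ≠ 0) (h1 : z' ∈ wsp F G y')
    (h2 : z' ∉ Submodule.span F {y'}) :
    finrank F ↥(wsp F G y' ⊓ wsp F G z') = finrank F ↥(wsp F G y ⊓ wsp F G z) := by
  have hz0 : z ≠ 0 := fun h0 => hz' (h0 ▸ Submodule.zero_mem _)
  obtain ⟨g, hg, rfl⟩ := trans_vec h hy hy'
  have e1 : wsp F G (g y) ⊓ wsp F G (g z) = img h hg (wsp F G y ⊓ wsp F G z) := by
    rw [wsp_map h hg hy hm, wsp_map h hg hz0 hm]
    ext w
    simp only [Submodule.mem_inf, mem_img]
  rw [inter_const h hm hy' (z := g z) (z' := z') ?_ ?_ h1 h2, e1, finrank_img]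
  · rw [wsp_map h hg hy hm]; exact (apply_mem_img h hg).2 hz
  · exact fun hc => hz' ((apply_mem_span h hg).1 hc)

/-- The shapes of a component. -/
theorem classify {y : U} (hy : y ≠ 0) :
    finrank F (wsp F G y) = finrank F (comp F G y) ∨
      (finrank F (wsp F G y) + 1 = finrank F (comp F G y) ∧ 4 ≤ finrank F (comp F G y)) ∨
      (finrank F (wsp F G y) = 3 ∧
        (finrank F (comp F G y) = 6 ∨ finrank F (comp F G y) = 8)) := by
  set D := finrank F (wsp F G y) with hD
  have hD2 : 2 ≤ D := finrank_wsp h hm hy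
  have hDeq : ∀ u : U, u ≠ 0 → finrank F (wsp F G u) = D := fun u hu => finrank_wsp_eq h hm hy hu
  obtain ⟨z, hz, hz'⟩ := Set.exists_of_ssubset (good_wsp h hy hm).1
  have hz0 : z ≠ 0 := fun h0 => hz' (h0 ▸ Submodule.zero_mem _)
  have hlarge := inter_large h hm hy hz hz'
  set t := finrank F ↥(wsp F G y ⊓ wsp F G z) with ht
  have htD : t ≤ D := Submodule.finrank_mono inf_le_left
  by_cases hcase : t = D
  · left
    rw [hD, comp_eq_wsp h hm hy fun a c ha hc hc' => ?_]
    have e := inter_const' h hm hy hz hz' ha hc hc'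
    exact inf_eq_left.1 (Submodule.eq_of_le_of_finrank_eq inf_le_left
      (by rw [e, hDeq a ha, ← ht, hcase]))
  have ht1 : t + 1 = D := by omega
  have hne : ∀ a c : U, a ≠ 0 → c ∈ wsp F G a → c ∉ Submodule.span F {a} →
      finrank F ↥(wsp F G a ⊓ wsp F G c) + 1 = D := fun a c ha hc hc' => by
    rw [inter_const' h hm hy hz hz' ha hc hc', ← ht, ht1]
  by_cases hD4 : 4 ≤ D
  · refine Or.inr (Or.inl ?_)
    have := finrank_comp_polar h hm hy hD4 fun a c ha hc hc' => by rw [hne a c ha hc hc', hDeq a ha]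
    omega
  have hD3 : D = 3 := by
    by_contra hD3
    have h2 : D = 2 := by omega
    have hyz : y ∈ wsp F G z := wsp_symm h hm hy hz0 hz
    have h3 := finrank_line_sup h hm (P := Submodule.span F {y})
      (X := wsp F G y ⊓ wsp F G z) (u := z) hz'
      (le_inf (good_wsp h hy hm).1.le (Submodule.span_le.2 (Set.singleton_subset_iff.2 hyz)))
      ⟨hz, self_mem_wsp h hz0 hm⟩
    rw [finrank_span_singleton hy] at h3
    omega
  obtain ⟨h₀, n, hL⟩ := exists_layered h hm (fun u hu => (hDeq u hu).trans hD3)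
    (fun a c ha hc hc' => by have := hne a c ha hc hc'; omega)
  have hn := hL.rank y hy
  have h2 := hL.two_le
  rcases hL.parity with hp | hp
  · by_cases h5 : 5 ≤ n
    · exact Or.inr (Or.inr ⟨hD3, hn.symm ▸ layered_six_or_eight h hm (fun u hu => (hDeq u hu).trans hD3)
        (fun a c ha hc hc' => by have := hne a c ha hc hc'; omega) hL h5⟩)
    · exact Or.inr (Or.inl ⟨by omega, by omega⟩)
  · exact Or.inr (Or.inr ⟨hD3, hn.symm ▸ layered_six_or_eight h hm (fun u hu => (hDeq u hu).trans hD3)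
      (fun a c ha hc hc' => by have := hne a c ha hc hc'; omega) hL (by omega)⟩)

end Cfsg.Lib.AntiflagTwo
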