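import Mathlib
import Cfsg.Agent.AntiflagTwo.Defs

/-!
The statement that the endgame proves: in Mersenne dimension at least five there is a transvection.
-/

set_option autoImplicit false

namespace Cfsg.Lib.AntiflagTwo

universe u

/-- Two-transitive linear groups of Mersenne dimension at least five contain transvections. -/
def TransvectionExists : Prop :=
  ∀ (V : Type u) [AddCommGroup V] [Module (ZMod 2) V] [Finite V] (n : ℕ)
    (H : Subgroup (V ≃ₗ[ZMod 2] V)), Module.finrank (ZMod 2) V = n → n.Prime → 5 ≤ n →
      (2 ^ n - 1).Prime → SmallIH.{u} n → TwoTrans H → ¬ NoTransvection H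

end Cfsg.Lib.AntiflagTwo
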