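import Mathlib
import Cfsg.Agent.AntiflagTwo.Antiflag
import Cfsg.Agent.AntiflagTwo.Goal
import Cfsg.Agent.S0675

/-!
Transitive linear groups in Mersenne prime dimension, given the existence of transvections in the
two-transitive case.
-/

set_option autoImplicit false
set_option linter.unusedSectionVars false

namespace Cfsg.Lib.AntiflagTwo

open Module
open scoped commutatorElement

universe u

variable {V : Type u} [AddCommGroup V] [Module (ZMod 2) V] [Finite V] {n : ℕ}

theorem apply_centre {g : V ≃ₗ[ZMod 2] V} {f : Dual (ZMod 2) V} {a : V} (ha : a ≠ 0)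
    (hg : ∀ v, g v = v + f v • a) : f a = 0 := by
  rcases zmod_two (f a) with h | h
  · exact h
  · refine absurd (g.injective (a₁ := a) (a₂ := 0) ?_) ha
    rw [hg, h, one_smul, add_self', map_zero]

/-- A two-transitive group with a transvection is the general linear group. -/
theorem eq_top_of_transvection {H : Subgroup (V ≃ₗ[ZMod 2] V)} (h2 : TwoTrans H)
    (hT : ¬ NoTransvection H) : H = ⊤ := by
  haveI : Module.Finite (ZMod 2) V := Module.Finite.of_finite
  simp only [NoTransvection, not_forall] at hT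
  obtain ⟨g₀, hg₀, f₀, a₀, hg, hg1⟩ := hT
  have ha0 : a₀ ≠ 0 := fun e => hg1 (LinearEquiv.ext fun v => by simp [hg, e])
  have hf0 : f₀ ≠ 0 := fun e => hg1 (LinearEquiv.ext fun v => by simp [hg, e])
  refine eq_top_of_transvections H fun f a hfa => ?_
  by_cases ha : a = 0
  · subst ha
    rw [show LinearEquiv.transvection hfa = 1 from LinearEquiv.ext fun v => by
      simp [LinearMap.transvection.apply]]
    exact H.one_mem
  let Z : Submodule (ZMod 2) (Dual (ZMod 2) V) :=
    { carrier := {φ | φ a = 0 ∧ ∃ g ∈ H, ∀ v, g v = v + φ v • a}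
      zero_mem' := ⟨rfl, 1, H.one_mem, fun v => by simp⟩
      add_mem' := by
        rintro φ ψ ⟨hφ, g, hg, hgv⟩ ⟨hψ, g', hg', hgv'⟩
        refine ⟨by simp [hφ, hψ], g * g', H.mul_mem hg hg', fun v => ?_⟩
        show g (g' v) = _
        rw [hgv, hgv', map_add, map_smul, hφ, smul_zero, add_zero, LinearMap.add_apply, add_smul]
        abel
      smul_mem' := by
        intro c φ hφ
        rcases zmod_two c with rfl | rfl
        · rw [zero_smul]; exact ⟨rfl, 1, H.one_mem, fun v => by simp⟩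
        · rwa [one_smul] }
  -- conjugates
  have hconj : ∀ h ∈ H, ∀ (φ : Dual (ZMod 2) V) (b : V) (g : V ≃ₗ[ZMod 2] V), g ∈ H →
      (∀ v, g v = v + φ v • b) → h * g * h⁻¹ ∈ H ∧ ∀ v, (h * g * h⁻¹) v = v + (h • φ) v • h b := by
    intro h hh φ b g hgH hgv
    refine ⟨H.mul_mem (H.mul_mem hh hgH) (H.inv_mem hh), fun v => ?_⟩
    show h (g (h.symm v)) = _
    rw [hgv, map_add, map_smul, LinearEquiv.apply_symm_apply, smul_dual_apply]
  have hZ0 : ∃ φ ∈ Z, φ ≠ 0 := by
    obtain ⟨h, hh, hha⟩ : ∃ h ∈ H, h a₀ = a := by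
      by_cases hab : a = a₀
      · exact ⟨1, H.one_mem, hab.symm⟩
      · obtain ⟨h, hh, h1, -⟩ := h2 a₀ a a a₀ ha0 ha (Ne.symm hab) ha ha0 hab
        exact ⟨h, hh, h1⟩
    obtain ⟨h1, h1'⟩ := hconj h hh f₀ a₀ g₀ hg₀ hg
    rw [hha] at h1'
    refine ⟨h • f₀, ⟨apply_centre ha h1', _, h1, h1'⟩, fun e => hf0 (LinearMap.ext fun v => ?_)⟩
    rw [← smul_dual_smul h f₀ v, e]
    rfl
  have hZle : Z ≤ (Submodule.span (ZMod 2) {a}).dualAnnihilator := fun φ hφ =>
    (Submodule.mem_dualAnnihilator φ).2 fun v hv => by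
      rcases mem_span_two.1 hv with rfl | rfl
      · exact map_zero φ
      · exact hφ.1
  have hco : Z.dualCoannihilator = Submodule.span (ZMod 2) {a} := by
    refine le_antisymm (fun v hv => ?_) fun v hv => ?_
    · by_contra hc
      obtain ⟨hv0, hva⟩ := not_or.1 (mem_span_two.not.1 hc)
      obtain ⟨φ, hφ, hφ0⟩ := hZ0
      refine hφ0 (LinearMap.ext fun w => ?_)
      rw [LinearMap.zero_apply]
      by_cases hw : w ∈ Submodule.span (ZMod 2) {a}
      · exact (Submodule.mem_dualAnnihilator φ).1 (hZle hφ) w hw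
      obtain ⟨hw0, hwa⟩ := not_or.1 (mem_span_two.not.1 hw)
      obtain ⟨h, hh, h1, h1'⟩ := h2 a w a v ha hw0 (Ne.symm hwa) ha hv0 (Ne.symm hva)
      obtain ⟨hφa, g, hgH, hgv⟩ := hφ
      obtain ⟨e1, e2⟩ := hconj h hh φ a g hgH hgv
      rw [h1] at e2
      have := (Submodule.mem_dualCoannihilator v).1 hv (h • φ) ⟨apply_centre ha e2, _, e1, e2⟩
      rw [← h1', smul_dual_smul] at this
      exact this
    · exact (Submodule.mem_dualCoannihilator v).2 fun φ hφ =>
        (Submodule.mem_dualAnnihilator φ).1 (hZle hφ) v hv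
  have hfZ : f ∈ Z := by
    rw [← Subspace.dualCoannihilator_dualAnnihilator_eq (W := Z), hco, Submodule.mem_dualAnnihilator]
    intro v hv
    rcases mem_span_two.1 hv with rfl | rfl
    · exact map_zero f
    · exact hfa
  obtain ⟨-, g, hgH, hgv⟩ := hfZ
  rwa [show LinearEquiv.transvection hfa = g from LinearEquiv.ext fun v => by
    rw [hgv, LinearEquiv.transvection.apply]]

theorem eq_top_dim_two (hn : finrank (ZMod 2) V = 2) {H : Subgroup (V ≃ₗ[ZMod 2] V)}
    (h2 : TwoTrans H) : H = ⊤ := by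
  haveI : Module.Finite (ZMod 2) V := Module.Finite.of_finite
  refine eq_top_iff.2 fun g _ => ?_
  haveI : Nontrivial V := Module.nontrivial_of_finrank_pos (R := ZMod 2) (by omega)
  obtain ⟨a, ha⟩ := exists_ne (0 : V)
  obtain ⟨c, -, hc⟩ := SetLike.exists_of_lt (lt_top_iff_ne_top.2
    (show Submodule.span (ZMod 2) {a} ≠ ⊤ from fun e => by
      have h1 := finrank_span_singleton (K := ZMod 2) ha
      rw [e, finrank_top, hn] at h1
      omega))
  obtain ⟨hc0, hca⟩ := not_or.1 (mem_span_two.not.1 hc)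
  obtain ⟨h, hh, h1, h1'⟩ := h2 a c (g a) (g c) ha hc0 (Ne.symm hca)
    (fun e => ha (g.map_eq_zero_iff.1 e)) (fun e => hc0 (g.map_eq_zero_iff.1 e))
    (fun e => hca (g.injective e).symm)
  have htop : Submodule.span (ZMod 2) {a} ⊔ Submodule.span (ZMod 2) {c} = ⊤ := by
    refine Submodule.eq_top_of_finrank_eq ?_
    have hlt : Submodule.span (ZMod 2) {a} <
        Submodule.span (ZMod 2) {a} ⊔ Submodule.span (ZMod 2) {c} :=
      lt_of_le_of_ne le_sup_left fun e =>
        hc (e ▸ Submodule.mem_sup_right (Submodule.mem_span_singleton_self c))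
    have := Submodule.finrank_lt_finrank_of_lt hlt
    rw [finrank_span_singleton ha] at this
    have := Submodule.finrank_le (Submodule.span (ZMod 2) {a} ⊔ Submodule.span (ZMod 2) {c})
    omega
  have he : g = h := LinearEquiv.ext fun v => by
    obtain ⟨p, hp, q, hq, rfl⟩ := Submodule.mem_sup.1 (htop.symm ▸ Submodule.mem_top :
      v ∈ Submodule.span (ZMod 2) {a} ⊔ Submodule.span (ZMod 2) {c})
    rcases mem_span_two.1 hp with rfl | rfl <;> rcases mem_span_two.1 hq with rfl | rfl <;>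
      simp [h1, h1']
  exact he ▸ hh

theorem exists_transvection_dim_three (hn : finrank (ZMod 2) V = 3) {H : Subgroup (V ≃ₗ[ZMod 2] V)}
    (h2 : TwoTrans H) : ¬ NoTransvection H := by
  intro hT
  haveI : Module.Finite (ZMod 2) V := Module.Finite.of_finite
  haveI : Nontrivial V := Module.nontrivial_of_finrank_pos (R := ZMod 2) (by omega)
  obtain ⟨x, hx⟩ := exists_ne (0 : V)
  obtain ⟨y, -, hy⟩ := SetLike.exists_of_lt (lt_top_iff_ne_top.2
    (show Submodule.span (ZMod 2) {x} ≠ ⊤ from fun e => by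
      have h1 := finrank_span_singleton (K := ZMod 2) hx
      rw [e, finrank_top, hn] at h1
      omega))
  obtain ⟨hy0, hyx⟩ := not_or.1 (mem_span_two.not.1 hy)
  have hstab := card_stab hn le_rfl h2 hx hT hy0 hyx
  set U := V ⧸ Submodule.span (ZMod 2) {x}
  haveI : Finite U := Finite.of_surjective _ (Submodule.mkQ_surjective _)
  haveI := finite_equiv (V := U)
  have hq : finrank (ZMod 2) U = 2 := by
    rw [Submodule.finrank_quotient, hn, finrank_span_singleton hx]
  set c : U := Submodule.Quotient.mk y with hc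
  have hc0 : c ≠ 0 := fun e => hy ((Submodule.Quotient.mk_eq_zero _).1 e)
  obtain ⟨w, -, hw⟩ := SetLike.exists_of_lt (lt_top_iff_ne_top.2
    (show Submodule.span (ZMod 2) {c} ≠ ⊤ from fun e => by
      have h1 := finrank_span_singleton (K := ZMod 2) hc0
      rw [e, finrank_top, hq] at h1
      omega))
  obtain ⟨hw0, hwc⟩ := not_or.1 (mem_span_two.not.1 hw)
  set S := (quotHom H x).range ⊓ MulAction.stabilizer (U ≃ₗ[ZMod 2] U) c
  have hle : Nat.card S ≤ Nat.card {v : U | v ≠ 0 ∧ v ≠ c} := by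
    refine Nat.card_le_card_of_injective (fun g : S => (⟨g.1 w, fun e => hw0 (g.1.map_eq_zero_iff.1 e),
      fun e => hwc (g.1.injective (e.trans g.2.2.symm))⟩ : {v : U | v ≠ 0 ∧ v ≠ c})) fun g g' e => ?_
    have e' : g.1 w = g'.1 w := congrArg Subtype.val e
    have htop : Submodule.span (ZMod 2) {c} ⊔ Submodule.span (ZMod 2) {w} = ⊤ := by
      refine Submodule.eq_top_of_finrank_eq ?_
      have hlt : Submodule.span (ZMod 2) {c} <
          Submodule.span (ZMod 2) {c} ⊔ Submodule.span (ZMod 2) {w} :=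
        lt_of_le_of_ne le_sup_left fun e =>
          hw (e ▸ Submodule.mem_sup_right (Submodule.mem_span_singleton_self w))
      have := Submodule.finrank_lt_finrank_of_lt hlt
      rw [finrank_span_singleton hc0] at this
      have := Submodule.finrank_le (Submodule.span (ZMod 2) {c} ⊔ Submodule.span (ZMod 2) {w})
      omega
    have h1 : g.1 c = c := g.2.2
    have h1' : g'.1 c = c := g'.2.2
    refine Subtype.ext (LinearEquiv.ext fun v => ?_)
    obtain ⟨p, hp, q, hq, rfl⟩ := Submodule.mem_sup.1 (htop.symm ▸ Submodule.mem_top :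
      v ∈ Submodule.span (ZMod 2) {c} ⊔ Submodule.span (ZMod 2) {w})
    rcases mem_span_two.1 hp with rfl | rfl <;> rcases mem_span_two.1 hq with rfl | rfl <;>
      simp [h1, h1', e']
  rw [hstab, card_ne_zero_x hq hc0] at hle
  haveI := finite_equiv (V := V)
  obtain ⟨e, he, hdvd⟩ := card_fix2_mod hn le_rfl h2 hx (by norm_num) hy0 hyx
  have hpos : 0 < Nat.card (fix2 H x y) := Nat.card_pos
  rw [show Nat.card (fix2 H x y) = 1 by omega] at hdvd
  rcases he with rfl | rfl <;> exact absurd hdvd (by decide)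

theorem prime_of_mersenne (hp : (2 ^ n - 1).Prime) : n.Prime :=
  (Nat.prime_of_pow_sub_one_prime (ne_of_gt (by
    have := two_le_of_mersenne hp
    omega)) hp).2

/-- Two-transitive groups in Mersenne prime dimension are general linear. -/
theorem eq_top_of_twoTrans (main : TransvectionExists.{u}) :
    ∀ (n : ℕ) (W : Type u) [AddCommGroup W] [Module (ZMod 2) W] [Finite W]
      (K : Subgroup (W ≃ₗ[ZMod 2] W)), finrank (ZMod 2) W = n → (2 ^ n - 1).Prime → TwoTrans K →
        K = ⊤ := by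
  intro n
  induction n using Nat.strong_induction_on with
  | _ n ih =>
    intro W _ _ _ K hn hp h2
    have hnp := prime_of_mersenne hp
    rcases Nat.lt_or_ge n 5 with h5 | h5
    · have : 2 ≤ n := hnp.two_le
      interval_cases n
      · exact eq_top_dim_two hn h2
      · exact eq_top_of_transvection h2 (exists_transvection_dim_three hn h2)
      · exact absurd hnp (by decide)
    · refine eq_top_of_transvection h2 (main W n K hn hnp h5 hp ?_ h2)
      intro W' _ _ _ K' hlt _ hp' h2'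
      exact ih _ hlt W' K' rfl hp' h2'

theorem trans_of_twoTrans_perm {H : Subgroup (V ≃ₗ[ZMod 2] V)} (π : H →* Equiv.Perm {v : V // v ≠ 0})
    (hπ : ∀ (h : H) v, (π h v).1 = h.1 v.1)
    (h2 : MulAction.IsMultiplyPretransitive π.range {v : V // v ≠ 0} 2) : TwoTrans H := by
  intro a b c d ha hb hab hc hd hcd
  rw [MulAction.is_two_pretransitive_iff] at h2
  obtain ⟨⟨_, g, rfl⟩, h1, h1'⟩ := h2 (a := ⟨a, ha⟩) (b := ⟨b, hb⟩) (c := ⟨c, hc⟩) (d := ⟨d, hd⟩)
    (fun e => hab (congrArg Subtype.val e)) (fun e => hcd (congrArg Subtype.val e))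
  exact ⟨g.1, g.2, (hπ g _).symm.trans (congrArg Subtype.val h1),
    (hπ g _).symm.trans (congrArg Subtype.val h1')⟩

theorem exists_abelian_normal (H : Subgroup (V ≃ₗ[ZMod 2] V)) (hs : Group.IsSolvable H)
    (hne : H ≠ ⊥) : ∃ C : Subgroup (V ≃ₗ[ZMod 2] V), C ≤ H ∧ C ≠ ⊥ ∧
      (∀ h ∈ H, ∀ c ∈ C, h * c * h⁻¹ ∈ C) ∧ ∀ c ∈ C, ∀ d ∈ C, c * d = d * c := by
  classical
  obtain ⟨m, hm⟩ := hs.solvable
  have h1 : ∃ k, derivedSeries H (k + 1) = ⊥ := ⟨m, by
    rw [derivedSeries_succ, hm, Subgroup.commutator_bot_left]⟩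
  have hk := Nat.find_spec h1
  set k := Nat.find h1
  have hne' : derivedSeries H k ≠ ⊥ := by
    intro e
    rcases Nat.eq_zero_or_pos k with hk0 | hk0
    · rw [hk0, derivedSeries_zero] at e
      refine hne ((Subgroup.eq_bot_iff_forall _).2 fun h hh => ?_)
      have : (⟨h, hh⟩ : H) ∈ (⊥ : Subgroup H) := e ▸ Subgroup.mem_top _
      exact congrArg Subtype.val (Subgroup.mem_bot.1 this)
    · exact Nat.find_min h1 (Nat.sub_lt hk0 one_pos)
        (by rw [show Nat.find h1 - 1 + 1 = Nat.find h1 by omega]; exact e)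
  refine ⟨(derivedSeries H k).map H.subtype, Subgroup.map_subtype_le _, fun e => hne' ?_, ?_, ?_⟩
  · exact (Subgroup.map_eq_bot_iff_of_injective _ H.subtype_injective).1 e
  · rintro h hh _ ⟨c, hc, rfl⟩
    exact ⟨⟨h, hh⟩ * c * ⟨h, hh⟩⁻¹, (derivedSeries_normal H k).conj_mem c hc _, rfl⟩
  · rintro _ ⟨c, hc, rfl⟩ _ ⟨d, hd, rfl⟩
    rw [← map_mul, ← map_mul]
    congr 1
    have := (derivedSeries_succ H k).symm.trans hk
    have hcd : ⁅c, d⁆ ∈ (⊥ : Subgroup H) := this ▸ Subgroup.commutator_mem_commutator hc hd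
    exact commutatorElement_eq_one_iff_mul_comm.1 (Subgroup.mem_bot.1 hcd)

theorem trans_of_normal_mersenne (hn : finrank (ZMod 2) V = n) (hp : (2 ^ n - 1).Prime)
    {H C : Subgroup (V ≃ₗ[ZMod 2] V)} (htr : ∀ v w : V, v ≠ 0 → w ≠ 0 → ∃ h ∈ H, h v = w)
    (hne : C ≠ ⊥) (hnorm : ∀ h ∈ H, ∀ c ∈ C, h * c * h⁻¹ ∈ C) {v w : V} (hv : v ≠ 0) (hw : w ≠ 0) :
    ∃ c ∈ C, c v = w := by
  haveI := finite_equiv (V := V)
  set A : Set V := {u | u ≠ 0}
  have hA : Nat.card A = 2 ^ n - 1 := card_nonzero hn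
  have hAinv : ∀ g ∈ C, ∀ a ∈ A, g • a ∈ A := fun g _ a ha e => ha (g.map_eq_zero_iff.1 e)
  have hsize : ∀ a : V, a ≠ 0 → Nat.card (MulAction.orbit C a) = Nat.card (MulAction.orbit C v) := by
    intro a ha
    obtain ⟨h, hh, rfl⟩ := htr v a hv ha
    refine (Nat.card_congr (Equiv.subtypeEquiv h.toEquiv fun u => ?_)).symm
    show u ∈ MulAction.orbit C v ↔ h u ∈ MulAction.orbit C (h v)
    constructor
    · rintro ⟨⟨c, hc⟩, rfl⟩
      refine ⟨⟨_, hnorm h hh c hc⟩, ?_⟩
      show h (c (h.symm (h v))) = h (c v)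
      rw [LinearEquiv.symm_apply_apply]
    · rintro ⟨⟨c, hc⟩, hcu⟩
      have hc' := hnorm h⁻¹ (H.inv_mem hh) c hc
      refine ⟨⟨_, hc'⟩, h.injective ?_⟩
      show h (h⁻¹ (c ((h⁻¹)⁻¹ v))) = h u
      rw [inv_inv, LinearEquiv.coe_inv, LinearEquiv.apply_symm_apply]
      exact hcu
  have hd : Nat.card (MulAction.orbit C v) ∣ Nat.card A :=
    dvd_of_orbits C A hAinv _ fun a ha => dvd_of_eq (hsize a ha).symm
  rw [hA] at hd
  rcases (Nat.dvd_prime hp).1 hd with h1 | h1
  · refine absurd ((Subgroup.eq_bot_iff_forall _).2 fun c hc => LinearEquiv.ext fun u => ?_) hne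
    by_cases hu : u = 0
    · subst hu; rw [map_zero, map_zero]
    haveI := (Nat.card_eq_one_iff_unique.1 ((hsize u hu).trans h1)).1
    exact congrArg Subtype.val (Subsingleton.elim (α := MulAction.orbit C u)
      ⟨c u, ⟨⟨c, hc⟩, rfl⟩⟩ ⟨u, MulAction.mem_orbit_self u⟩)
  · have he : MulAction.orbit C v = A := orbit_eq_of_card (G := C) hv
      (fun g a ha => hAinv g.1 g.2 a ha) (by rw [hA, h1])
    obtain ⟨c, hc⟩ : w ∈ MulAction.orbit C v := he ▸ hw
    exact ⟨c.1, c.2, hc⟩

theorem exists_trans_top {v w : V} (hv : v ≠ 0) (hw : w ≠ 0) : ∃ g : V ≃ₗ[ZMod 2] V, g v = w := by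
  by_cases hvw : v = w
  · exact ⟨1, hvw⟩
  obtain ⟨f, hfv, hf⟩ := exists_dual_of_notMem (Submodule.span (ZMod 2) {v + w}) (v := v) fun hc => by
    rcases mem_span_two.1 hc with e | e
    · exact hv e
    · exact hw (by rwa [left_eq_add] at e)
  have hfa : f (v + w) = 0 := (Submodule.mem_dualAnnihilator f).1 hf _ (Submodule.mem_span_singleton_self _)
  exact ⟨LinearEquiv.transvection hfa, by
    rw [LinearEquiv.transvection.apply, hfv, one_smul, ← add_assoc, add_self', zero_add]⟩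

/-- The classification of transitive linear groups in Mersenne prime dimension. -/
theorem classification (main : TransvectionExists.{u}) (n : ℕ) (hn : Module.finrank (ZMod 2) V = n)
    (hprime : (2 ^ n - 1).Prime) (H : Subgroup (V ≃ₗ[ZMod 2] V)) :
    (∀ v w : V, v ≠ 0 → w ≠ 0 → ∃ h ∈ H, h v = w) ↔
      ((IsCyclic ↥H ∧ Nat.card ↥H = 2 ^ n - 1) ∨
       (Nat.card ↥H = n * (2 ^ n - 1) ∧ ∃ C : Subgroup (V ≃ₗ[ZMod 2] V), C ≤ H ∧ (C.subgroupOf H).Normal ∧
          IsCyclic ↥C ∧ Nat.card ↥C = 2 ^ n - 1) ∨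
       H = ⊤) := by
  haveI := finite_equiv (V := V)
  haveI := Fact.mk hprime
  have hn2 := two_le_of_mersenne hprime
  constructor
  · intro htr
    classical
    haveI := Fintype.ofFinite V
    let π : H →* Equiv.Perm {v : V // v ≠ 0} :=
      { toFun := fun h => Equiv.Perm.subtypePerm (h.1.toEquiv : Equiv.Perm V) fun v => not_congr h.1.map_eq_zero_iff
        map_one' := Equiv.ext fun v => rfl
        map_mul' := fun a b => Equiv.ext fun v => rfl }
    have hπ : ∀ (h : H) v, (π h v).1 = h.1 v.1 := fun _ _ => rfl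
    have hπinj : Function.Injective π := fun a b e => Subtype.ext (LinearEquiv.ext fun v => by
      by_cases hv : v = 0
      · subst hv; rw [map_zero, map_zero]
      · rw [← hπ a ⟨v, hv⟩, ← hπ b ⟨v, hv⟩, e])
    haveI : MulAction.IsPretransitive π.range {v : V // v ≠ 0} := ⟨fun a b => by
      obtain ⟨h, hh, hab⟩ := htr a.1 b.1 a.2 b.2
      exact ⟨⟨π ⟨h, hh⟩, ⟨_, rfl⟩⟩, Subtype.ext hab⟩⟩
    have hcard : (Fintype.card {v : V // v ≠ 0}).Prime := by
      rw [← Nat.card_eq_fintype_card, card_nonzero hn]; exact hprime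
    rcases Cfsg.Agent.S0675.result hcard π.range with hs | h2
    · haveI := hs
      have hsH : Group.IsSolvable H := solvable_of_solvable_injective (π.rangeRestrict_injective_iff.2 hπinj)
      have hne : H ≠ ⊥ := by
        intro e
        obtain ⟨⟨v, hv⟩, ⟨w, hw⟩, hvw⟩ :=
          Fintype.exists_pair_of_one_lt_card (hcard.one_lt : 1 < Fintype.card {v : V // v ≠ 0})
        obtain ⟨h, hh, he⟩ := htr v w hv hw
        rw [e, Subgroup.mem_bot] at hh
        subst hh
        exact hvw (Subtype.ext he)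
      obtain ⟨C, hCH, hC, hnorm, hcomm⟩ := exists_abelian_normal H hsH hne
      obtain ⟨hcC, hdvd⟩ := card_dvd_of_abelian_transitive hn (by omega) hCH hnorm hcomm
        fun v w hv hw => trans_of_normal_mersenne hn hprime htr hC hnorm hv hw
      obtain ⟨e, he⟩ : 2 ^ n - 1 ∣ Nat.card H := hcC ▸ Subgroup.card_dvd_of_le hCH
      rw [he, mul_comm n] at hdvd
      rcases (Nat.dvd_prime (prime_of_mersenne hprime)).1
        (Nat.dvd_of_mul_dvd_mul_left hprime.pos hdvd) with rfl | rfl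
      · rw [mul_one] at he
        exact Or.inl ⟨isCyclic_of_prime_card he, he⟩
      · refine Or.inr (Or.inl ⟨he.trans (mul_comm _ _), C, hCH, ?_, isCyclic_of_prime_card hcC, hcC⟩)
        exact ⟨fun c hc h => hnorm h.1 h.2 c.1 hc⟩
    · exact Or.inr (Or.inr (eq_top_of_twoTrans main n V H hn hprime
        (trans_of_twoTrans_perm π hπ h2)))
  · intro hH v w hv hw
    rcases hH with ⟨-, hc⟩ | ⟨-, C, hCH, -, -, hc⟩ | rfl
    · obtain ⟨g, hg⟩ := exists_prime_orderOf_dvd_card' (G := H) (2 ^ n - 1) (hc ▸ dvd_rfl)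
      obtain ⟨c, hc', hcv⟩ := trans_of_orderOf_eq hn hprime (g := g.1)
        (by rw [Subgroup.orderOf_coe, hg]) hv hw
      exact ⟨c, Subgroup.zpowers_le.2 g.2 hc', hcv⟩
    · obtain ⟨g, hg⟩ := exists_prime_orderOf_dvd_card' (G := C) (2 ^ n - 1) (hc ▸ dvd_rfl)
      obtain ⟨c, hc', hcv⟩ := trans_of_orderOf_eq hn hprime (g := g.1)
        (by rw [Subgroup.orderOf_coe, hg]) hv hw
      exact ⟨c, hCH (Subgroup.zpowers_le.2 g.2 hc'), hcv⟩
    · obtain ⟨g, hg⟩ := exists_trans_top hv hw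
      exact ⟨g, Subgroup.mem_top g, hg⟩

end Cfsg.Lib.AntiflagTwo
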