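import Mathlib
import Cfsg.Agent.AntiflagTwo.Wsp

/-!
The dual setting, and the subspace of vectors whose distinguished subspace lies in a hyperplane.
-/

set_option autoImplicit false
set_option linter.unusedSectionVars false

namespace Cfsg.Lib.AntiflagTwo

open Module

variable {F : Type*} [Field F] [Finite F] {U : Type*} [AddCommGroup U] [Module (ZMod 2) U]
  [Module F U] [Finite U] {G : Subgroup (U ≃ₗ[ZMod 2] U)}

/-- A scalar, as a map that is linear over the prime field. -/
def scalarMap (c : F) : U →ₗ[ZMod 2] U := (DistribSMul.toAddMonoidHom U c).toZModLinearMap 2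

theorem scalarMap_apply (c : F) (u : U) : scalarMap c u = c • u := rfl

/-- The field acts on functionals. -/
scoped instance (priority := 50) dualModule : Module F (Dual (ZMod 2) U) where
  smul c f := f ∘ₗ scalarMap c
  one_smul f := LinearMap.ext fun u => congrArg f (one_smul F u)
  mul_smul c d f := LinearMap.ext fun u => congrArg f (show (c * d) • u = d • c • u by
    rw [mul_comm, mul_smul])
  smul_zero c := LinearMap.ext fun _ => rfl
  smul_add c f f' := LinearMap.ext fun _ => rfl
  add_smul c d f := LinearMap.ext fun u =>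
    (congrArg f (add_smul c d u)).trans (map_add f _ _)
  zero_smul f := LinearMap.ext fun u => (congrArg f (zero_smul F u)).trans (map_zero f)

theorem smul_apply_dual (c : F) (f : Dual (ZMod 2) U) (u : U) : (c • f) u = f (c • u) := rfl

/-- The contragredient. -/
def dualHom : (U ≃ₗ[ZMod 2] U) →* (Dual (ZMod 2) U ≃ₗ[ZMod 2] Dual (ZMod 2) U) where
  toFun g := g.symm.dualMap
  map_one' := LinearEquiv.ext fun _ => rfl
  map_mul' _ _ := LinearEquiv.ext fun _ => rfl

theorem dualHom_apply (g : U ≃ₗ[ZMod 2] U) (f : Dual (ZMod 2) U) : dualHom g f = g • f := rfl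

variable (F G) in
/-- The vectors killed by the distinguished subspace of a functional. -/
def dualPerp (f : Dual (ZMod 2) U) : Submodule F U where
  carrier := {u | ∀ a ∈ wsp F (G.map dualHom) f, a u = 0}
  add_mem' := fun hu hv a ha => by rw [map_add, hu a ha, hv a ha, add_zero]
  zero_mem' := fun a _ => map_zero a
  smul_mem' c u hu a ha := by
    rw [← smul_apply_dual]
    exact hu _ (Submodule.smul_mem _ c ha)

variable (h : Setting F G)
include h

theorem dual_setting : Setting F (G.map dualHom) where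
  semi := by
    rintro _ ⟨g, hg, rfl⟩ c
    obtain ⟨c', hc'⟩ := semi_inv h (G.inv_mem hg) c
    refine ⟨c', fun f => LinearMap.ext fun u => ?_⟩
    show f (c • g.symm u) = f (g.symm (c' • u))
    exact congrArg f (hc' u)
  scal := by
    intro c hc
    obtain ⟨g, hg, hgc⟩ := h.scal c⁻¹ (inv_ne_zero hc)
    refine ⟨_, ⟨g, hg, rfl⟩, fun f => LinearMap.ext fun u => ?_⟩
    show f (g.symm u) = f (c • u)
    congr 1
    apply g.injective
    rw [LinearEquiv.apply_symm_apply, hgc, smul_smul, inv_mul_cancel₀ hc, one_smul]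
  anti := by
    intro f f' φ φ' h1 h2
    obtain ⟨u, rfl⟩ := (Module.evalEquiv (ZMod 2) U).surjective φ
    obtain ⟨u', rfl⟩ := (Module.evalEquiv (ZMod 2) U).surjective φ'
    obtain ⟨g, hg, hgu, hgf⟩ := h.anti u u' f f' (by simpa using h1) (by simpa using h2)
    refine ⟨_, ⟨g, hg, rfl⟩, hgf, LinearMap.ext fun a => ?_⟩
    show ((dualHom g).symm a) u = a u'
    obtain ⟨a, rfl⟩ := (dualHom g).surjective a
    rw [LinearEquiv.symm_apply_apply, ← hgu, dualHom_apply, smul_dual_smul]
  ne := by
    obtain ⟨u, hu⟩ := h.ne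
    obtain ⟨f, hf⟩ := exists_dual hu
    exact ⟨f, fun h0 => by simp [h0] at hf⟩

theorem finrank_dual : finrank F (Dual (ZMod 2) U) = finrank F U := by
  have h1 := finrank_prime (dual_setting h)
  rw [Subspace.dual_finrank_eq, finrank_prime h] at h1
  exact (Nat.eq_of_mul_eq_mul_left (card_F h).2 h1).symm

variable (hm : 2 ≤ finrank F U)
include hm

theorem mem_dualPerp {f : Dual (ZMod 2) U} {u : U} :
    u ∈ dualPerp F G f ↔ ∀ a ∈ wsp F (G.map dualHom) f, a u = 0 := Iff.rfl

theorem eval_mem_ann {X : Submodule F (Dual (ZMod 2) U)} {u : U} :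
    Module.evalEquiv (ZMod 2) U u ∈ ann X ↔ ∀ a ∈ X, a u = 0 := by
  rw [mem_ann]
  exact forall₂_congr fun a _ => by simp

theorem span_dual_perp {f : Dual (ZMod 2) U} {u : U} :
    (∀ a ∈ Submodule.span F {f}, a u = 0) ↔ f ∈ ann (Submodule.span F {u}) := by
  rw [mem_ann]
  simp only [Submodule.mem_span_singleton, forall_exists_index, forall_apply_eq_imp_iff,
    smul_apply_dual]

theorem dualPerp_le {f : Dual (ZMod 2) U} (hf : f ≠ 0) {u : U} (hu : u ∈ dualPerp F G f) :
    f ∈ ann (Submodule.span F {u}) :=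
  (span_dual_perp h hm).1 fun a ha =>
    hu a ((good_wsp (dual_setting h) hf ((finrank_dual h).symm ▸ hm)).1.le ha)

/-- The vectors whose distinguished subspace is killed by a functional form a subspace. -/
theorem mem_ann_wsp_iff {f : Dual (ZMod 2) U} (hf : f ≠ 0) {y : U} (hy : y ≠ 0) :
    f ∈ ann (wsp F G y) ↔ y ∈ dualPerp F G f := by
  classical
  haveI := finite_dual (V := U)
  haveI := Fintype.ofFinite U
  haveI := Fintype.ofFinite (Dual (ZMod 2) U)
  have hd := dual_setting h
  have hmd : 2 ≤ finrank F (Dual (ZMod 2) U) := (finrank_dual h).symm ▸ hm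
  set P : U → Dual (ZMod 2) U → Prop := fun u a => a ∈ ann (Submodule.span F {u}) with hP
  set A : U → Dual (ZMod 2) U → Prop := fun u a => P u a ∧ a ∉ ann (wsp F G u) with hA
  set B : U → Dual (ZMod 2) U → Prop := fun u a => P u a ∧ u ∉ dualPerp F G a with hB
  -- the two kinds of pairs form single orbits
  have hAinv : ∀ g ∈ G, ∀ u a, u ≠ 0 → A u a → A (g u) (g • a) := by
    intro g hg u a hu ⟨h1, h2⟩
    refine ⟨?_, ?_⟩
    · show g • a ∈ ann _
      rw [← img_span h hg]; exact (smul_mem_ann h hg).2 h1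
    · rw [wsp_map h hg hu hm]; exact fun hc => h2 ((smul_mem_ann h hg).1 hc)
  have hAsmul : ∀ (c : F) u a, c ≠ 0 → A u a → A (c • u) a := by
    intro c u a hc ⟨h1, h2⟩
    refine ⟨?_, ?_⟩
    · show a ∈ ann _
      rwa [Submodule.span_singleton_smul_eq hc.isUnit]
    · rwa [wsp_smul h hc]
  have hBtr : ∀ u a u' a', a ≠ 0 → a' ≠ 0 → u ≠ 0 → u' ≠ 0 → B u a → B u' a' →
      ∃ g ∈ G, g • a = a' ∧ ∃ c : F, c ≠ 0 ∧ g u = c • u' := by
    intro u a u' a' ha ha' hu hu' ⟨h1, h2⟩ ⟨h1', h2'⟩
    obtain ⟨g, hg, rfl⟩ := trans_dual h ha ha'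
    have hga : (dualHom g) a = g • a := rfl
    have hmap := wsp_map hd (Subgroup.mem_map_of_mem dualHom hg) ha hmd
    rw [hga] at hmap
    have e1 : Module.evalEquiv (ZMod 2) U (g u) ∈ ann (Submodule.span F {g • a}) := by
      rw [eval_mem_ann h hm, span_dual_perp h hm, ← img_span h hg]
      exact (smul_mem_ann h hg).2 h1
    have e2 : Module.evalEquiv (ZMod 2) U (g u) ∉ ann (wsp F (G.map dualHom) (g • a)) := by
      rw [eval_mem_ann h hm, hmap]
      intro hc
      refine h2 fun b hb => ?_
      have := hc _ ((apply_mem_img hd (Subgroup.mem_map_of_mem dualHom hg)).2 hb)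
      rwa [dualHom_apply, smul_dual_smul] at this
    obtain ⟨k, hk, hku⟩ := (good_wsp hd ha' hmd).2.2 _ (Module.evalEquiv (ZMod 2) U u')
      e1 e2 (by rw [eval_mem_ann h hm, span_dual_perp h hm]; exact h1')
      (by rw [eval_mem_ann h hm]; exact h2')
    obtain ⟨hk', hkl⟩ := (mem_lineStab hd ha').1 hk
    obtain ⟨k0, hk0, rfl⟩ := hk'
    obtain ⟨c, hc⟩ := Submodule.mem_span_singleton.1 hkl
    have hc0 : c ≠ 0 := by
      rintro rfl; rw [zero_smul] at hc; exact ha' ((dualHom k0).map_eq_zero_iff.1 hc.symm)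
    have hku' : k0 (g u) = u' := by
      apply (Module.evalEquiv (ZMod 2) U).injective
      rw [← hku]
      refine LinearMap.ext fun b => ?_
      show b (k0 (g u)) = ((dualHom k0).symm b) (g u)
      obtain ⟨b, rfl⟩ := (dualHom k0).surjective b
      rw [LinearEquiv.symm_apply_apply, dualHom_apply, smul_dual_smul]
    obtain ⟨s, hs, hsc⟩ := h.scal c hc0
    refine ⟨s * (k0 * g), G.mul_mem hs (G.mul_mem hk0 hg), ?_, c, hc0, ?_⟩
    · refine LinearMap.ext fun w => ?_
      rw [mul_smul, mul_smul, smul_dual_apply]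
      have := LinearMap.congr_fun hc (s.symm w)
      rw [smul_apply_dual] at this
      have hs' : c • s.symm w = w := by rw [← hsc]; exact s.apply_symm_apply w
      rw [hs'] at this
      exact this.symm
    · rw [LinearEquiv.mul_apply, LinearEquiv.mul_apply, hku', hsc]
  have hne : ∀ a : Dual (ZMod 2) U, ∀ u, A u a → a ≠ 0 := fun a u ha h0 =>
    ha.2 (h0 ▸ Submodule.zero_mem _)
  suffices hex : ∃ u a, u ≠ 0 ∧ A u a ∧ B u a by
    obtain ⟨u0, a0, hu0, hA0, hB0⟩ := hex
    have hA' : ∀ u a, u ≠ 0 → a ≠ 0 → B u a → A u a := by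
      intro u a hu ha hBu
      obtain ⟨g, hg, rfl, c, hc, hgu⟩ := hBtr u0 a0 u a (hne _ _ hA0) ha hu0 hu hB0 hBu
      have h1 := hAinv g hg u0 a0 hu0 hA0
      rw [hgu] at h1
      have h2 := hAsmul c⁻¹ _ _ (inv_ne_zero hc) h1
      rwa [smul_smul, inv_mul_cancel₀ hc, one_smul] at h2
    constructor
    · intro hfW
      by_contra hc
      exact (hA' y f hy hf ⟨ann_le_iff.2 (good_wsp h hy hm).1.le hfW, hc⟩).2 hfW
    · intro hyX
      by_contra hc
      -- move the witness along the pairs of the first kind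
      obtain ⟨g, hg, hgy⟩ := trans_vec h hu0 hy
      obtain ⟨h1, h2⟩ := hAinv g hg u0 a0 hu0 hA0
      rw [hgy] at h1 h2
      obtain ⟨k, hk, hkf⟩ := (good_wsp h hy hm).2.2 (g • a0) f h1 h2 (dualPerp_le h hm hf hyX) hc
      obtain ⟨hkG, hky⟩ := (mem_lineStab h hy).1 hk
      obtain ⟨c, hcy⟩ := Submodule.mem_span_singleton.1 hky
      have hmap := wsp_map hd (Subgroup.mem_map_of_mem dualHom (G.mul_mem hkG hg)) (hne _ _ hA0) hmd
      rw [show dualHom (k * g) a0 = f from (mul_smul k g a0).trans hkf] at hmap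
      refine hB0.2 fun b hb => ?_
      have hb' := hyX
      have := (Submodule.smul_mem _ c hb') _ (hmap ▸
        (apply_mem_img hd (Subgroup.mem_map_of_mem dualHom (G.mul_mem hkG hg))).2 hb)
      rw [hcy, ← hgy, dualHom_apply, show k (g u0) = (k * g) u0 from rfl, smul_dual_smul] at this
      exact this
  -- both kinds take more than half of the incident pairs
  by_contra hdis
  push Not at hdis
  obtain ⟨y0, hy0⟩ := h.ne
  set N := finrank F U with hN
  have hcardU : Nat.card U = Nat.card (Dual (ZMod 2) U) := by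
    rw [Module.natCard_eq_pow_finrank (K := ZMod 2) (V := U),
      Module.natCard_eq_pow_finrank (K := ZMod 2) (V := Dual (ZMod 2) U), Subspace.dual_finrank_eq]
  have hb := (card_F h).2
  have half : ∀ (d : ℕ), 2 ≤ d → 2 * 2 ^ (deg F * (N - d)) ≤ 2 ^ (deg F * (N - 1)) := by
    intro d hd2
    rw [← pow_succ']
    refine Nat.pow_le_pow_right (by norm_num) ?_
    have : deg F * (N - d) + deg F ≤ deg F * (N - 1) := by
      rw [← Nat.mul_succ]
      exact Nat.mul_le_mul_left _ (by omega)
    omega
  have hP' : ∀ u : U, u ≠ 0 → 2 ^ (deg F * (N - 1)) =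
      (Finset.univ.filter (fun a => P u a)).card := by
    intro u hu
    rw [← Fintype.card_subtype, ← Nat.card_eq_fintype_card]
    exact (finrank_span_singleton (K := F) hu ▸ (card_ann h (Submodule.span F {u}))).symm
  have hA' : ∀ u : U, u ≠ 0 → 2 ^ (deg F * (N - 1)) ≤
      2 * (Finset.univ.filter (fun a => A u a)).card := by
    intro u hu
    have hsplit : Finset.univ.filter (fun a => A u a) = Finset.univ.filter (fun a => P u a) \
        Finset.univ.filter (· ∈ ann (wsp F G u)) := by
      ext a; simp [hA]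
    have hw : (Finset.univ.filter (· ∈ ann (wsp F G u))).card =
        2 ^ (deg F * (N - finrank F (wsp F G u))) := by
      rw [← Fintype.card_subtype, ← Nat.card_eq_fintype_card]
      exact card_ann h _
    rw [hsplit, Finset.card_sdiff_of_subset (fun a ha => by
      simp only [Finset.mem_filter, Finset.mem_univ, true_and] at ha ⊢
      exact ann_le_iff.2 (good_wsp h hu hm).1.le ha), ← hP' u hu, hw]
    have := half _ (finrank_wsp h hm hu)
    omega
  have hB' : ∀ a : Dual (ZMod 2) U, a ≠ 0 → 2 ^ (deg F * (N - 1)) ≤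
      2 * (Finset.univ.filter (fun u => B u a)).card ∧
      (Finset.univ.filter (fun u => P u a)).card = 2 ^ (deg F * (N - 1)) := by
    intro a ha
    have hc : ∀ (X : Submodule F (Dual (ZMod 2) U)),
        (Finset.univ.filter (fun u : U => ∀ b ∈ X, b u = 0)).card =
          2 ^ (deg F * (N - finrank F X)) := by
      intro X
      rw [← Fintype.card_subtype, ← Nat.card_eq_fintype_card, hN, ← finrank_dual h,
        ← card_ann hd X]
      exact Nat.card_congr ((Module.evalEquiv (ZMod 2) U).toEquiv.subtypeEquiv fun u =>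
        (eval_mem_ann h hm).symm)
    have h1 : Finset.univ.filter (fun u => P u a) =
        Finset.univ.filter (fun u : U => ∀ b ∈ Submodule.span F {a}, b u = 0) := by
      ext u; simp only [Finset.mem_filter, Finset.mem_univ, true_and]; exact (span_dual_perp h hm).symm
    have hsplit : Finset.univ.filter (fun u => B u a) = Finset.univ.filter (fun u => P u a) \
        Finset.univ.filter (fun u : U => ∀ b ∈ wsp F (G.map dualHom) a, b u = 0) := by
      ext u
      simp only [hB, Finset.mem_filter, Finset.mem_univ, true_and, Finset.mem_sdiff,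
        mem_dualPerp h hm]
    have hPc := hc (Submodule.span F {a})
    rw [← h1, finrank_span_singleton ha] at hPc
    refine ⟨?_, hPc⟩
    rw [hsplit, Finset.card_sdiff_of_subset (fun u hu => by
      simp only [Finset.mem_filter, Finset.mem_univ, true_and] at hu ⊢
      exact (span_dual_perp h hm).1 fun b hb => hu b ((good_wsp hd ha hmd).1.le hb)), hPc, hc]
    have := half _ (finrank_wsp hd hmd ha)
    omega
  set s : Finset U := Finset.univ.erase 0
  set t : Finset (Dual (ZMod 2) U) := Finset.univ.erase 0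
  have hst : s.card = t.card := by
    simp only [s, t, Finset.card_erase_of_mem (Finset.mem_univ _), Finset.card_univ]
    rw [← Nat.card_eq_fintype_card, ← Nat.card_eq_fintype_card, hcardU]
  have key : ∀ u ∈ s, (t.filter (fun a => A u a)).card + (t.filter (fun a => B u a)).card + 1 ≤
      2 ^ (deg F * (N - 1)) := by
    intro u hu
    have hu0 := (Finset.mem_erase.1 hu).1
    rw [← Finset.card_union_of_disjoint (Finset.disjoint_filter.2 fun a _ ha hb => hdis u a hu0 ha hb),
      hP' u hu0]
    refine Finset.card_lt_card ((Finset.ssubset_iff_of_subset fun a ha => ?_).2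
      ⟨0, Finset.mem_filter.2 ⟨Finset.mem_univ _, Submodule.zero_mem _⟩, fun hc => ?_⟩)
    · simp only [Finset.mem_union, Finset.mem_filter] at ha
      rcases ha with ha | ha <;> exact Finset.mem_filter.2 ⟨Finset.mem_univ _, ha.2.1⟩
    · simp [t] at hc
  have hAt : ∀ u ∈ s, 2 ^ (deg F * (N - 1)) ≤ 2 * (t.filter (fun a => A u a)).card := by
    intro u hu
    refine (hA' u (Finset.mem_erase.1 hu).1).trans (Nat.mul_le_mul_left 2 (Finset.card_le_card ?_))
    intro a ha
    simp only [Finset.mem_filter, Finset.mem_univ, true_and] at ha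
    exact Finset.mem_filter.2 ⟨Finset.mem_erase.2 ⟨hne a u ha, Finset.mem_univ _⟩, ha⟩
  have hBs : ∀ a ∈ t, 2 ^ (deg F * (N - 1)) ≤ 2 * (s.filter (fun u => B u a)).card := by
    intro a ha
    refine (hB' a (Finset.mem_erase.1 ha).1).1.trans (Nat.mul_le_mul_left 2 (Finset.card_le_card ?_))
    intro u hu
    simp only [Finset.mem_filter, Finset.mem_univ, true_and] at hu
    refine Finset.mem_filter.2 ⟨Finset.mem_erase.2 ⟨fun h0 => hu.2 ?_, Finset.mem_univ _⟩, hu⟩
    exact h0 ▸ Submodule.zero_mem _
  have e1 := Finset.sum_le_sum hAt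
  have e2 := Finset.sum_le_sum hBs
  have e3 := Finset.sum_le_sum key
  have e4 := Finset.sum_card_bipartiteAbove_eq_sum_card_bipartiteBelow (s := s) (t := t) B
  simp only [Finset.bipartiteAbove, Finset.bipartiteBelow] at e4
  rw [← Finset.mul_sum, Finset.sum_const, smul_eq_mul] at e1 e2
  rw [Finset.sum_add_distrib, Finset.sum_add_distrib, e4, Finset.sum_const, Finset.sum_const,
    smul_eq_mul, smul_eq_mul] at e3
  have hs0 : 0 < s.card := Finset.card_pos.2 ⟨y0, Finset.mem_erase.2 ⟨hy0, Finset.mem_univ _⟩⟩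
  rw [← hst] at e2
  omega

end Cfsg.Lib.AntiflagTwo
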