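import Mathlib

/-!
Residues of the divisors of the odd parts that occur in the exceptional dimensions.
-/

set_option autoImplicit false

namespace Cfsg.Lib.AntiflagTwo

/-- The residues modulo `p` of the divisors of a product of prime powers. -/
def residues (p : ℕ) : List (ℕ × ℕ) → List ℕ
  | [] => [1 % p]
  | (q, e) :: l => (List.range (e + 1)).flatMap fun i => (residues p l).map fun r => q ^ i * r % p

theorem mem_residues (p : ℕ) : ∀ (l : List (ℕ × ℕ)), (∀ a ∈ l, a.1.Prime) →
    ∀ d, d ∣ (l.map fun a => a.1 ^ a.2).prod → d % p ∈ residues p l := by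
  intro l
  induction l with
  | nil =>
    intro _ d hd
    rw [List.map_nil, List.prod_nil, Nat.dvd_one] at hd
    simp [residues, hd]
  | cons a l ih =>
    intro hp d hd
    obtain ⟨q, e⟩ := a
    rw [List.map_cons, List.prod_cons] at hd
    obtain ⟨d₁, d₂, h1, h2, rfl⟩ := Nat.dvd_mul.1 hd
    obtain ⟨i, hi, rfl⟩ := (Nat.dvd_prime_pow (hp (q, e) List.mem_cons_self)).1 h1
    have h3 := ih (fun a ha => hp a (List.mem_cons_of_mem _ ha)) d₂ h2
    simp only [residues, List.mem_flatMap, List.mem_map, List.mem_range]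
    refine ⟨i, by omega, _, h3, ?_⟩
    exact (Nat.mul_mod _ _ _).trans (by simp [Nat.mul_mod, Nat.mod_mod, Nat.pow_mod])

/-- No divisor of the product, times a power of two, is congruent to minus twice `1` or `n`. -/
def admissible (n : ℕ) (l : List (ℕ × ℕ)) : Bool :=
  (residues (2 ^ n - 1) l).all fun r => (List.range n).all fun a =>
    (r * 2 ^ a % (2 ^ n - 1) != 2 ^ n - 1 - 2) && (r * 2 ^ a % (2 ^ n - 1) != 2 ^ n - 1 - 2 * n)

theorem false_of_admissible {n : ℕ} {l : List (ℕ × ℕ)} (hn : 4 ≤ n) (hl : ∀ a ∈ l, a.1.Prime)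
    (hadm : admissible n l = true) {L N e : ℕ}
    (hd : L ∣ (l.map fun a => a.1 ^ a.2).prod * 2 ^ N) (he : e = 1 ∨ e = n)
    (hmod : 2 ^ n - 1 ∣ L + 2 * e) : False := by
  obtain ⟨d, t, h1, h2, rfl⟩ := Nat.dvd_mul.1 hd
  obtain ⟨a, -, rfl⟩ := (Nat.dvd_prime_pow Nat.prime_two).1 h2
  set p := 2 ^ n - 1 with hp
  have hp2 : 2 * n < p := by
    have : ∀ k, 2 * (k + 4) + 2 ≤ 2 ^ (k + 4) := by
      intro k
      induction k with
      | zero => norm_num
      | succ k ih => rw [pow_succ]; omega
    have h := this (n - 4)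
    rw [Nat.sub_add_cancel hn] at h
    omega
  have hpow : 2 ^ a % p = 2 ^ (a % n) % p := by
    conv_lhs => rw [← Nat.div_add_mod a n, pow_add, pow_mul, Nat.mul_mod, Nat.pow_mod]
    have h1n : 2 ^ n % p = 1 := by
      have : 2 ^ n = p + 1 := by
        have := Nat.one_le_two_pow (n := n); omega
      rw [this, Nat.add_mod_left, Nat.mod_eq_of_lt (by omega)]
    rw [h1n, one_pow, Nat.mod_eq_of_lt (show 1 < p by omega), one_mul, Nat.mod_mod]
  have hr := List.all_eq_true.1 hadm _ (mem_residues p l hl d h1)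
  have hr' := List.all_eq_true.1 hr (a % n) (List.mem_range.2 (Nat.mod_lt _ (by omega)))
  simp only [Bool.and_eq_true, bne_iff_ne, ne_eq, ← hp] at hr'
  have hLmod : d * 2 ^ a % p = p - 2 * e := by
    have hlt : d * 2 ^ a % p < p := Nat.mod_lt _ (by omega)
    have h0 : (d * 2 ^ a % p + 2 * e) % p = 0 := by
      rw [Nat.mod_add_mod]; exact Nat.mod_eq_zero_of_dvd hmod
    have he2 : 2 * e < p := by rcases he with rfl | rfl <;> omega
    by_cases hc : d * 2 ^ a % p + 2 * e < p
    · rw [Nat.mod_eq_of_lt hc] at h0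
      rcases he with rfl | rfl <;> omega
    · push Not at hc
      rw [Nat.mod_eq_sub_mod hc, Nat.mod_eq_of_lt (by omega)] at h0
      omega
  rw [Nat.mul_mod, hpow, ← Nat.mul_mod] at hLmod
  rw [Nat.mul_mod, Nat.mod_mod, ← Nat.mul_mod, hLmod] at hr'
  rcases he with rfl | rfl
  · exact hr'.1 (by omega)
  · exact hr'.2 rfl

theorem admissible_13a : admissible 13 [(3, 6), (7, 4)] = true := by decide +kernel
theorem admissible_13b : admissible 13 [(3, 6), (5, 1), (7, 3), (31, 1)] = true := by decide +kernel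
theorem admissible_17a : admissible 17 [(3, 10), (5, 3), (7, 2), (17, 1)] = true := by decide +kernel
theorem admissible_17b :
    admissible 17 [(3, 9), (5, 3), (7, 4), (17, 1), (31, 2), (127, 1)] = true := by decide +kernel
theorem admissible_17c :
    admissible 17 [(3, 8), (5, 3), (7, 3), (17, 1), (31, 2), (127, 1)] = true := by decide +kernel
theorem admissible_19 : admissible 19 [(3, 8), (7, 6), (73, 1)] = true := by decide +kernel

end Cfsg.Lib.AntiflagTwo
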