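import Mathlib
import Cfsg.Agent.AntiflagTwo.Setting

/-!
Orders of semilinear groups fixing a flag.
-/

set_option autoImplicit false
set_option linter.unusedSectionVars false

namespace Cfsg.Lib.AntiflagTwo

open Module

/-- A bound for the order of a semilinear group in dimension `c` over the field of `2 ^ b` elements. -/
def semBound (b c : ℕ) : ℕ := b * ∏ i : Fin c, ((2 ^ b) ^ c - (2 ^ b) ^ (i : ℕ))

variable {F : Type*} [Field F] [Finite F]

theorem card_ringAut {b : ℕ} [CharP F 2] (hF : Nat.card F = 2 ^ b) : Nat.card (F ≃+* F) = b := by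
  haveI : Fact (Nat.Prime 2) := ⟨Nat.prime_two⟩
  letI := ZMod.algebra F 2
  haveI : Module.Finite (ZMod 2) F := Module.Finite.of_finite
  have e : (F ≃+* F) ≃ (F ≃ₐ[ZMod 2] F) :=
    { toFun := fun σ => AlgEquiv.ofRingEquiv (f := σ)
        (fun a => RingHom.congr_fun (RingHom.ext_zmod (σ.toRingHom.comp (algebraMap (ZMod 2) F))
          (algebraMap (ZMod 2) F)) a)
      invFun := fun σ => σ.toRingEquiv
      left_inv := fun σ => RingEquiv.ext fun _ => rfl
      right_inv := fun σ => AlgEquiv.ext fun _ => rfl }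
  rw [Nat.card_congr e, IsGalois.card_aut_eq_finrank]
  have := Module.natCard_eq_pow_finrank (K := ZMod 2) (V := F)
  rw [Nat.card_zmod, hF] at this
  exact (Nat.pow_right_injective le_rfl this).symm

section SemiHom

variable {R : Type*} [Semiring R] {X : Type*} [AddCommGroup X] [Module R X] [Module F X]
  (T : Subgroup (X ≃ₗ[R] X)) (hsemi : ∀ g ∈ T, ∀ c : F, ∃ c' : F, ∀ u : X, g (c • u) = c' • g u)
  {u₀ : X} (hu₀ : u₀ ≠ 0)

include hu₀ in
theorem smul_left_inj' {a c : F} (h : ∀ v : X, a • v = c • v) : a = c :=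
  smul_left_injective F hu₀ (h u₀)

/-- The automorphism of the field that belongs to a semilinear map. -/
noncomputable def semiFun (g : T) (c : F) : F := (hsemi g.1 g.2 c).choose

theorem semiFun_spec (g : T) (c : F) (u : X) : g.1 (c • u) = semiFun T hsemi g c • g.1 u :=
  (hsemi g.1 g.2 c).choose_spec u

include hu₀ in
theorem semiFun_eq {g : T} {c c' : F} (h : ∀ u, g.1 (c • u) = c' • g.1 u) :
    semiFun T hsemi g c = c' :=
  smul_left_inj' hu₀ fun v => by
    obtain ⟨w, rfl⟩ := g.1.surjective v
    rw [← semiFun_spec, h]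

include hu₀ in
theorem semiFun_mul (g k : T) (c : F) :
    semiFun T hsemi (g * k) c = semiFun T hsemi g (semiFun T hsemi k c) :=
  semiFun_eq T hsemi hu₀ fun u => by
    show g.1 (k.1 (c • u)) = _
    rw [semiFun_spec T hsemi k, semiFun_spec T hsemi g]
    rfl

include hu₀ in
theorem semiFun_one (c : F) : semiFun T hsemi 1 c = c := semiFun_eq T hsemi hu₀ fun _ => rfl

/-- A semilinear group acts on the field. -/
noncomputable def semiHom : T →* (F ≃+* F) where
  toFun g :=
    { toFun := semiFun T hsemi g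
      invFun := semiFun T hsemi g⁻¹
      left_inv := fun c => by rw [← semiFun_mul T hsemi hu₀, inv_mul_cancel, semiFun_one T hsemi hu₀]
      right_inv := fun c => by rw [← semiFun_mul T hsemi hu₀, mul_inv_cancel, semiFun_one T hsemi hu₀]
      map_mul' := fun a c => semiFun_eq T hsemi hu₀ fun u => by
        rw [mul_smul, semiFun_spec T hsemi g, semiFun_spec T hsemi g, mul_smul]
      map_add' := fun a c => semiFun_eq T hsemi hu₀ fun u => by
        rw [add_smul, map_add, semiFun_spec T hsemi g, semiFun_spec T hsemi g, add_smul] }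
  map_one' := RingEquiv.ext (semiFun_one T hsemi hu₀)
  map_mul' g k := RingEquiv.ext (semiFun_mul T hsemi hu₀ g k)

theorem semiHom_eq_one {g : T} (h : semiHom T hsemi hu₀ g = 1) (c : F) (u : X) :
    g.1 (c • u) = c • g.1 u := by
  rw [semiFun_spec T hsemi g c u,
    show semiFun T hsemi g c = c from RingEquiv.congr_fun h c]

end SemiHom

/-- The order of a semilinear group. -/
theorem semi_card_dvd {R : Type*} [Semiring R] {X : Type*} [AddCommGroup X] [Module R X] [Finite X]
    [Module F X] [CharP F 2] {b c : ℕ} (hF : Nat.card F = 2 ^ b) (hc : finrank F X = c)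
    (T : Subgroup (X ≃ₗ[R] X)) (hsemi : ∀ g ∈ T, ∀ a : F, ∃ a' : F, ∀ u : X, g (a • u) = a' • g u) :
    Nat.card T ∣ semBound b c := by
  classical
  haveI : Finite (X ≃ₗ[R] X) := Finite.of_injective _ DFunLike.coe_injective
  haveI : Finite (F ≃+* F) := Finite.of_injective _ DFunLike.coe_injective
  haveI : Finite (X ≃ₗ[F] X) := Finite.of_injective _ DFunLike.coe_injective
  haveI := Fintype.ofFinite F
  by_cases h0 : ∀ u : X, u = 0
  · haveI : Subsingleton (X ≃ₗ[R] X) := ⟨fun g k => LinearEquiv.ext fun u => by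
      rw [h0 (g u), h0 (k u)]⟩
    rw [Nat.card_of_subsingleton (1 : T)]
    exact one_dvd _
  push Not at h0
  obtain ⟨u₀, hu₀⟩ := h0
  set σ := semiHom T hsemi hu₀
  have h1 : Nat.card σ.range ∣ b := card_ringAut hF ▸ Subgroup.card_subgroup_dvd_card σ.range
  let lin : σ.ker →* (X ≃ₗ[F] X) :=
    { toFun := fun g =>
        { toFun := g.1.1
          invFun := g.1.1.symm
          map_add' := map_add g.1.1
          map_smul' := fun a u => semiHom_eq_one T hsemi hu₀ g.2 a u
          left_inv := g.1.1.symm_apply_apply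
          right_inv := g.1.1.apply_symm_apply }
      map_one' := rfl
      map_mul' := fun _ _ => rfl }
  have h2 : Nat.card σ.ker ∣ ∏ i : Fin c, ((2 ^ b) ^ c - (2 ^ b) ^ (i : ℕ)) := by
    have hinj : Function.Injective lin := fun g k hgk =>
      Subtype.ext (Subtype.ext (LinearEquiv.ext fun u => LinearEquiv.congr_fun hgk u))
    refine (Subgroup.card_dvd_of_injective lin hinj).trans (dvd_of_eq ?_)
    haveI : Module.Finite F X := Module.Finite.of_finite
    let e : (X ≃ₗ[F] X) ≃* GL (Fin c) F :=
      ((LinearMap.GeneralLinearGroup.generalLinearEquiv F X).symm.trans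
        (LinearMap.GeneralLinearGroup.congrLinearEquiv (Module.finBasisOfFinrankEq F X hc).equivFun)).trans
        Matrix.GeneralLinearGroup.toLin.symm
    rw [Nat.card_congr e.toEquiv, Matrix.card_GL_field, ← Nat.card_eq_fintype_card, hF]
  rw [Subgroup.card_eq_card_quotient_mul_card_subgroup σ.ker,
    Nat.card_congr (QuotientGroup.quotientKerEquivRange σ).toEquiv]
  exact mul_dvd_mul h1 h2

variable {U : Type*} [AddCommGroup U] [Module (ZMod 2) U] [Module F U]

/-- The step between two invariant subspaces. -/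
def stepSet (P Q : Submodule F U) : Submodule F Q := P.comap Q.subtype

theorem finrank_step [Finite U] {P Q : Submodule F U} (hPQ : P ≤ Q) :
    finrank F (Q ⧸ stepSet P Q) = finrank F Q - finrank F P := by
  haveI : Module.Finite F U := Module.Finite.of_finite
  have h1 := Submodule.finrank_quotient_add_finrank (stepSet P Q)
  have h2 : finrank F (stepSet P Q) = finrank F P := (Submodule.comapSubtypeEquivOfLe hPQ).finrank_eq
  omega

variable (T : Subgroup (U ≃ₗ[ZMod 2] U))
  (hsemi : ∀ g ∈ T, ∀ c : F, ∃ c' : F, ∀ u : U, g (c • u) = c' • g u)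

/-- The action on a step, as a map. -/
def stepFun (P Q : Submodule F U) (hP : ∀ g ∈ T, ∀ u ∈ P, g u ∈ P)
    (hQ : ∀ g ∈ T, ∀ u ∈ Q, g u ∈ Q) (g : T) : (Q ⧸ stepSet P Q) → (Q ⧸ stepSet P Q) :=
  Quotient.map' (fun u : Q => (⟨g.1 u.1, hQ g.1 g.2 u.1 u.2⟩ : Q)) fun a c hac => by
    rw [Submodule.quotientRel_def] at hac ⊢
    show g.1 a.1 - g.1 c.1 ∈ P
    rw [← map_sub]
    exact hP g.1 g.2 _ hac

theorem stepFun_mk (P Q : Submodule F U) (hP : ∀ g ∈ T, ∀ u ∈ P, g u ∈ P)
    (hQ : ∀ g ∈ T, ∀ u ∈ Q, g u ∈ Q) (g : T) (u : Q) :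
    stepFun T P Q hP hQ g (Submodule.Quotient.mk u) =
      Submodule.Quotient.mk ⟨g.1 u.1, hQ g.1 g.2 u.1 u.2⟩ := rfl

/-- The action on a step. -/
def stepHom (P Q : Submodule F U) (hP : ∀ g ∈ T, ∀ u ∈ P, g u ∈ P)
    (hQ : ∀ g ∈ T, ∀ u ∈ Q, g u ∈ Q) : T →* ((Q ⧸ stepSet P Q) ≃ₗ[ℤ] (Q ⧸ stepSet P Q)) where
  toFun g :=
    AddEquiv.toIntLinearEquiv
    { toFun := stepFun T P Q hP hQ g
      invFun := stepFun T P Q hP hQ g⁻¹
      left_inv := fun a => by
        induction a using Submodule.Quotient.induction_on with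
        | _ u =>
          rw [stepFun_mk, stepFun_mk]
          exact congrArg _ (Subtype.ext (g.1.symm_apply_apply u.1))
      right_inv := fun a => by
        induction a using Submodule.Quotient.induction_on with
        | _ u =>
          rw [stepFun_mk, stepFun_mk]
          exact congrArg _ (Subtype.ext (g.1.apply_symm_apply u.1))
      map_add' := fun a c => by
        induction a using Submodule.Quotient.induction_on with
        | _ u =>
          induction c using Submodule.Quotient.induction_on with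
          | _ v =>
            rw [← Submodule.Quotient.mk_add, stepFun_mk, stepFun_mk, stepFun_mk,
              ← Submodule.Quotient.mk_add]
            exact congrArg _ (Subtype.ext (map_add g.1 u.1 v.1)) }
  map_one' := LinearEquiv.ext fun a => by
    induction a using Submodule.Quotient.induction_on with
    | _ u => rfl
  map_mul' g k := LinearEquiv.ext fun a => by
    induction a using Submodule.Quotient.induction_on with
    | _ u => rfl

include hsemi in
/-- The order of a semilinear group fixing a flag, up to a power of two. -/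
theorem card_dvd_flag [Finite U] [CharP F 2] {b : ℕ} (hF : Nat.card F = 2 ^ b) (L : ℕ)
    (X : ℕ → Submodule F U) (h0 : X 0 = ⊥) (hL : X L = ⊤)
    (hmono : ∀ i < L, X i ≤ X (i + 1)) (hinv : ∀ i, ∀ g ∈ T, ∀ u ∈ X i, g u ∈ X i) :
    ∃ N, Nat.card T ∣
      (∏ i ∈ Finset.range L, semBound b (finrank F (X (i + 1)) - finrank F (X i))) * 2 ^ N := by
  haveI := finite_equiv (V := U)
  haveI : CharP F 2 := inferInstance
  let ρ : ∀ i, T →* ((X (i + 1) ⧸ stepSet (X i) (X (i + 1))) ≃ₗ[ℤ]
      (X (i + 1) ⧸ stepSet (X i) (X (i + 1)))) := fun i =>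
    stepHom T (X i) (X (i + 1)) (hinv i) (hinv (i + 1))
  -- elements trivial on the first steps
  suffices hk : ∀ j ≤ L, ∃ K : Subgroup T, Nat.card T ∣
      (∏ i ∈ Finset.range j, semBound b (finrank F (X (i + 1)) - finrank F (X i))) * Nat.card K ∧
      ∀ g ∈ K, ∀ i < j, ∀ u ∈ X (i + 1), g.1 u - u ∈ X i by
    obtain ⟨K, hKd, hK⟩ := hk L le_rfl
    have hK2 : IsPGroup 2 K := by
      intro g
      refine ⟨L, Subtype.ext (Subtype.ext (LinearEquiv.ext fun u => ?_))⟩
      have key : ∀ j ≤ L, ∀ u ∈ X j, ((g.1.1 : U ≃ₗ[ZMod 2] U) ^ 2 ^ j) u = u := by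
        intro j
        induction j with
        | zero => intro _ u hu; rw [h0, Submodule.mem_bot] at hu; rw [hu, map_zero]
        | succ j ih =>
          intro hj u hu
          rw [pow_succ, pow_mul]
          set h := (g.1.1 : U ≃ₗ[ZMod 2] U) ^ 2 ^ j with hh
          have hd : ∀ i, ((g.1.1 : U ≃ₗ[ZMod 2] U) ^ i) u - u ∈ X j := by
            intro i
            induction i with
            | zero => rw [pow_zero, LinearEquiv.coe_one, id_eq, sub_self]; exact Submodule.zero_mem _
            | succ i ihi =>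
              rw [pow_succ', LinearEquiv.mul_apply,
                show g.1.1 (((g.1.1 : U ≃ₗ[ZMod 2] U) ^ i) u) - u =
                  g.1.1 (((g.1.1 : U ≃ₗ[ZMod 2] U) ^ i) u - u) + (g.1.1 u - u) by rw [map_sub]; abel]
              exact Submodule.add_mem _ (hinv j _ g.1.2 _ ihi) (hK g.1 g.2 j (by omega) u hu)
          have he := ih (by omega) _ (hd (2 ^ j))
          rw [← hh] at he
          rw [pow_two, LinearEquiv.mul_apply]
          have e3 : h (h u) = h u + (h u - u) := by
            calc h (h u) = h (u + (h u - u)) := by rw [add_sub_cancel]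
              _ = _ := by rw [map_add, he]
          rw [e3, sub_eq_add', ← add_assoc, add_self', zero_add]
      have := key L le_rfl u (hL ▸ Submodule.mem_top)
      rw [show ((g ^ 2 ^ L : K) : T).1 = (g.1.1 : U ≃ₗ[ZMod 2] U) ^ 2 ^ L by
        rw [SubmonoidClass.coe_pow, SubmonoidClass.coe_pow]]
      exact this
    obtain ⟨N, hN⟩ := IsPGroup.iff_card.1 hK2
    exact ⟨N, hN ▸ hKd⟩
  intro j hj
  induction j with
  | zero => exact ⟨⊤, by simp, fun g _ i hi => absurd hi (Nat.not_lt_zero i)⟩
  | succ j ih =>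
    obtain ⟨K, hKd, hK⟩ := ih (by omega)
    set φ := (ρ j).comp K.subtype with hφ
    have hr : Nat.card φ.range ∣ semBound b (finrank F (X (j + 1)) - finrank F (X j)) := by
      haveI : Finite (X (j + 1) ⧸ stepSet (X j) (X (j + 1))) :=
        Finite.of_surjective _ (Submodule.Quotient.mk_surjective _)
      refine semi_card_dvd hF (finrank_step (hmono j (by omega))) φ.range ?_
      rintro _ ⟨g, rfl⟩ a
      obtain ⟨a', ha'⟩ := hsemi g.1.1 g.1.2 a
      refine ⟨a', fun w => ?_⟩
      induction w using Submodule.Quotient.induction_on with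
      | _ u =>
        rw [← Submodule.Quotient.mk_smul, show ∀ w, φ g w =
          stepFun T (X j) (X (j + 1)) (hinv j) (hinv (j + 1)) g.1 w from fun _ => rfl,
          show ∀ w, φ g w = stepFun T (X j) (X (j + 1)) (hinv j) (hinv (j + 1)) g.1 w from fun _ => rfl]
        rw [stepFun_mk, stepFun_mk, ← Submodule.Quotient.mk_smul]
        exact congrArg _ (Subtype.ext (ha' u.1))
    refine ⟨φ.ker.map K.subtype, hKd.trans ?_, ?_⟩
    · rw [Finset.prod_range_succ, mul_assoc, Subgroup.card_eq_card_quotient_mul_card_subgroup φ.ker,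
        Nat.card_congr (QuotientGroup.quotientKerEquivRange φ).toEquiv,
        Nat.card_congr (Subgroup.equivMapOfInjective φ.ker _ K.subtype_injective).toEquiv]
      exact Nat.mul_dvd_mul_left _ (mul_dvd_mul hr dvd_rfl)
    · rintro _ ⟨g, hg, rfl⟩ i hi u hu
      rcases (Nat.lt_succ_iff.1 hi).lt_or_eq with hi' | rfl
      · exact hK g.1 g.2 i hi' u hu
      · have := LinearEquiv.congr_fun (show φ g = 1 from hg) (Submodule.Quotient.mk ⟨u, hu⟩)
        rw [show ∀ w, φ g w = stepFun T (X i) (X (i + 1)) (hinv i) (hinv (i + 1)) g.1 w from fun _ => rfl,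
          stepFun_mk] at this
        exact (Submodule.Quotient.eq (stepSet (X i) (X (i + 1)))).1 this

end Cfsg.Lib.AntiflagTwo
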