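import Mathlib
import Cfsg.Agent.AntiflagTwo.Semilinear
import Cfsg.Agent.AntiflagTwo.Comp
import Cfsg.Agent.AntiflagTwo.Residues
import Cfsg.Agent.AntiflagTwo.Arith

/-!
The exceptional parameters contradict a congruence.
-/

set_option autoImplicit false
set_option linter.unusedSectionVars false

namespace Cfsg.Lib.AntiflagTwo

open Module

theorem semBound_zero (b : ℕ) : semBound b 0 = b := by simp [semBound]

theorem dvd_odd_part {a c : ℕ} {N : ℕ} {P : ℕ} (k : ℕ) (h : a ∣ P * 2 ^ k) (hc : c ∣ a * 2 ^ N) :
    c ∣ P * 2 ^ (k + N) :=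
  hc.trans (by rw [pow_add, ← mul_assoc]; exact Nat.mul_dvd_mul_right h _)

variable {F : Type*} [Field F] [Finite F] {U : Type*} [AddCommGroup U] [Module (ZMod 2) U]
  [Module F U] [Finite U] {G : Subgroup (U ≃ₗ[ZMod 2] U)}

variable (h : Setting F G)
include h
variable (hm : 2 ≤ finrank F U)
include hm

/-- The order of a vector stabiliser through the flag of its subspaces. -/
theorem card_vecStab_dvd {y : U} (hy : y ≠ 0) :
    ∃ K, Nat.card (G ⊓ MulAction.stabilizer (U ≃ₗ[ZMod 2] U) y : Subgroup _) ∣
      semBound (deg F) 1 * semBound (deg F) (finrank F (wsp F G y) - 1) *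
        semBound (deg F) (finrank F (comp F G y) - finrank F (wsp F G y)) *
        semBound (deg F) (finrank F U - finrank F (comp F G y)) * 2 ^ K := by
  haveI := char_two h
  set T : Subgroup (U ≃ₗ[ZMod 2] U) := G ⊓ MulAction.stabilizer (U ≃ₗ[ZMod 2] U) y
  let X : ℕ → Submodule F U := fun i => match i with
    | 0 => ⊥
    | 1 => Submodule.span F {y}
    | 2 => wsp F G y
    | 3 => comp F G y
    | _ => ⊤
  have hinv : ∀ i, ∀ g ∈ T, ∀ u ∈ X i, g u ∈ X i := by
    intro i g hg u hu
    have hgy : g y = y := hg.2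
    match i, hu with
    | 0, hu => rw [(Submodule.mem_bot F).1 hu, map_zero]; exact Submodule.zero_mem _
    | 1, hu =>
      have := (apply_mem_span h hg.1).2 hu
      rwa [hgy] at this
    | 2, hu =>
      have e := wsp_map h hg.1 hy hm
      rw [hgy] at e
      show g u ∈ wsp F G y
      rw [e]; exact (apply_mem_img h hg.1).2 hu
    | 3, hu =>
      have e := comp_map h hm hg.1 hy
      rw [hgy] at e
      show g u ∈ comp F G y
      rw [e]; exact (apply_mem_img h hg.1).2 hu
    | _ + 4, _ => exact Submodule.mem_top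
  have hmono : ∀ i < 4, X i ≤ X (i + 1) := by
    intro i hi
    interval_cases i
    · exact bot_le
    · exact (good_wsp h hy hm).1.le
    · exact wsp_le_comp h hm hy
    · exact le_top
  obtain ⟨K, hK⟩ := card_dvd_flag T (fun g hg => h.semi g hg.1) (card_F h).1 4 X rfl rfl hmono hinv
  refine ⟨K, ?_⟩
  simp only [Finset.prod_range_succ, Finset.prod_range_zero, one_mul] at hK
  have e0 : finrank F (X 0) = 0 := finrank_bot F U
  have e1 : finrank F (X 1) = 1 := finrank_span_singleton hy
  have e4 : finrank F (X 4) = finrank F U := finrank_top F U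
  change _ ∣ semBound _ (finrank F (X 1) - finrank F (X 0)) *
    semBound _ (finrank F (X 2) - finrank F (X 1)) * semBound _ (finrank F (X 3) - finrank F (X 2)) *
    semBound _ (finrank F (X 4) - finrank F (X 3)) * _ at hK
  rw [e0, e1, e4, Nat.sub_zero] at hK
  exact hK

/-- The exceptional parameters are impossible. -/
theorem not_exceptional {y : U} (hy : y ≠ 0)
    (hx : Exceptional (deg F) (finrank F (wsp F G y)) (finrank F (comp F G y)) (finrank F U))
    {n e c : ℕ} (hn : n = deg F * finrank F U + 1) (he : e = 1 ∨ e = n)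
    (hc : 2 * c ∣ Nat.card (G ⊓ MulAction.stabilizer (U ≃ₗ[ZMod 2] U) y : Subgroup _))
    (hmod : 2 ^ n - 1 ∣ c + e) : False := by
  obtain ⟨K, hK⟩ := card_vecStab_dvd h hm hy
  have hc' := hc.trans hK
  have hmod' : 2 ^ n - 1 ∣ 2 * c + 2 * e := by
    rw [← Nat.mul_add]; exact hmod.mul_left 2
  set b := deg F
  set D := finrank F (wsp F G y)
  set E := finrank F (comp F G y)
  set N := finrank F U
  rcases hx with ⟨hb, hD, hE, hN⟩ | ⟨hb, hD, hE, hN⟩ | ⟨hb, hD, hE, hN⟩ | ⟨hb, hD, hE, hN⟩ |
      ⟨hb, hD, hE, hN⟩ | ⟨hb, hD, hE, hN⟩ | ⟨hb, hD, hE, hN⟩ <;>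
    rw [hb, hD, hE, hN] at hc' <;> rw [hb, hN] at hn <;> subst hn
  · exact false_of_admissible (by norm_num) (by intro a ha; fin_cases ha <;> norm_num)
      admissible_13a (dvd_odd_part 80 (by decide +kernel) hc') he hmod'
  · exact false_of_admissible (by norm_num) (by intro a ha; fin_cases ha <;> norm_num)
      admissible_19 (dvd_odd_part 80 (by decide +kernel) hc') he hmod'
  · exact false_of_admissible (by norm_num) (by intro a ha; fin_cases ha <;> norm_num)
      admissible_19 (dvd_odd_part 80 (by decide +kernel) hc') he hmod'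
  · exact false_of_admissible (by norm_num) (by intro a ha; fin_cases ha <;> norm_num)
      admissible_17a (dvd_odd_part 80 (by decide +kernel) hc') he hmod'
  · exact false_of_admissible (by norm_num) (by intro a ha; fin_cases ha <;> norm_num)
      admissible_17b (dvd_odd_part 80 (by decide +kernel) hc') he hmod'
  · exact false_of_admissible (by norm_num) (by intro a ha; fin_cases ha <;> norm_num)
      admissible_13b (dvd_odd_part 80 (by decide +kernel) hc') he hmod'
  · exact false_of_admissible (by norm_num) (by intro a ha; fin_cases ha <;> norm_num)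
      admissible_17c (dvd_odd_part 80 (by decide +kernel) hc') he hmod'

end Cfsg.Lib.AntiflagTwo
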