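import Mathlib
import Cfsg.Agent.AntiflagTwo.Hyper
import Cfsg.Agent.AntiflagTwo.Dual

/-!
Components that are small give a spread whose kernel is a larger field.
-/

set_option autoImplicit false
set_option linter.unusedSectionVars false

namespace Cfsg.Lib.AntiflagTwo

open Module

variable {F : Type*} [Field F] [Finite F] {U : Type*} [AddCommGroup U] [Module (ZMod 2) U]
  [Module F U] [Finite U] {G : Subgroup (U ≃ₗ[ZMod 2] U)}

/-- Conjugation of an endomorphism by an automorphism. -/
def conjEnd (g : U ≃ₗ[ZMod 2] U) (φ : Module.End (ZMod 2) U) : Module.End (ZMod 2) U :=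
  (g : U →ₗ[ZMod 2] U) ∘ₗ φ ∘ₗ (g.symm : U →ₗ[ZMod 2] U)

theorem conjEnd_apply (g : U ≃ₗ[ZMod 2] U) (φ : Module.End (ZMod 2) U) (u : U) :
    conjEnd g φ u = g (φ (g.symm u)) := rfl

variable (F G) in
/-- A subspace that is a union of components. -/
def Closed (X : Submodule F U) : Prop := ∀ u ∈ X, u ≠ 0 → comp F G u ≤ X

variable (F G) in
/-- The endomorphisms preserving every component. -/
def kern : Subring (Module.End (ZMod 2) U) where
  carrier := {φ | ∀ u : U, u ≠ 0 → ∀ w ∈ comp F G u, φ w ∈ comp F G u}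
  one_mem' := fun _ _ _ hw => hw
  mul_mem' := fun hφ hψ u hu w hw => hφ u hu _ (hψ u hu w hw)
  zero_mem' := fun u _ _ _ => (comp F G u).zero_mem
  add_mem' := fun hφ hψ u hu w hw => (comp F G u).add_mem (hφ u hu w hw) (hψ u hu w hw)
  neg_mem' := fun hφ u hu w hw => (comp F G u).neg_mem (hφ u hu w hw)

variable (h : Setting F G)
include h
variable (hm : 2 ≤ finrank F U)
include hm

theorem closed_comp {y : U} (hy : y ≠ 0) : Closed F G (comp F G y) := fun u hu hu0 =>
  (comp_eq h hm hy hu0 hu).le

theorem wsp_le_of_closed {X : Submodule F U} (hX : Closed F G X) {u : U} (hu : u ∈ X) (hu0 : u ≠ 0) :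
    wsp F G u ≤ X :=
  (wsp_le_comp h hm hu0).trans (hX u hu hu0)

theorem closed_sup {X Y : Submodule F U} (hX : Closed F G X) (hY : Closed F G Y) :
    Closed F G (X ⊔ Y) := fun u hu hu0 => comp_le h hm hu0 hu fun v hv hv0 => by
  refine ann_le_iff.1 fun f hf => ?_
  by_cases hf0 : f = 0
  · rw [hf0]; exact Submodule.zero_mem _
  have hle : ∀ Z : Submodule F U, Closed F G Z → f ∈ ann Z → Z ≤ dualPerp F G f := by
    intro Z hZ hfZ z hz
    by_cases hz0 : z = 0
    · rw [hz0]; exact Submodule.zero_mem _
    exact (mem_ann_wsp_iff h hm hf0 hz0).1 (ann_le_iff.2 (wsp_le_of_closed h hm hZ hz hz0) hfZ)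
  exact (mem_ann_wsp_iff h hm hf0 hv0).2
    (sup_le (hle X hX (mem_ann_sup.1 hf).1) (hle Y hY (mem_ann_sup.1 hf).2) hv)

theorem closed_inf {X Y : Submodule F U} (hX : Closed F G X) (hY : Closed F G Y) :
    Closed F G (X ⊓ Y) := fun u hu hu0 => le_inf (hX u hu.1 hu0) (hY u hu.2 hu0)

theorem closed_disjoint {X : Submodule F U} (hX : Closed F G X) {v : U} (hv : v ≠ 0) (hvX : v ∉ X) :
    X ⊓ comp F G v = ⊥ := by
  rw [Submodule.eq_bot_iff]
  intro z hz
  by_contra hz0
  exact hvX (hX z hz.1 hz0 ((comp_eq h hm hv hz0 hz.2).symm ▸ self_mem_comp h hm hv))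

theorem finrank_sup_comp {X : Submodule F U} (hX : Closed F G X) {y v : U} (hy : y ≠ 0) (hv : v ≠ 0)
    (hvX : v ∉ X) :
    finrank F ↥(X ⊔ comp F G v) = finrank F X + finrank F (comp F G y) := by
  have h1 := Submodule.finrank_sup_add_finrank_inf_eq X (comp F G v)
  rw [closed_disjoint h hm hX hv hvX, finrank_bot, add_zero, finrank_comp_eq h hm hy hv] at h1
  exact h1

/-- Two sums of two components with a large sum meet in a component. -/
theorem meet_two {y p q r s u : U} (hy : y ≠ 0) (hp : p ≠ 0) (hq : q ≠ 0) (hr : r ≠ 0) (hs : s ≠ 0)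
    (hu : u ≠ 0) (hu1 : u ∈ comp F G p ⊔ comp F G q) (hu2 : u ∈ comp F G r ⊔ comp F G s)
    (h3 : 3 * finrank F (comp F G y) ≤
      finrank F ↥((comp F G p ⊔ comp F G q) ⊔ (comp F G r ⊔ comp F G s))) {z : U}
    (hz1 : z ∈ comp F G p ⊔ comp F G q) (hz2 : z ∈ comp F G r ⊔ comp F G s) : z ∈ comp F G u := by
  set T := comp F G p ⊔ comp F G q
  set T' := comp F G r ⊔ comp F G s
  have hle : comp F G u ≤ T ⊓ T' :=
    (closed_inf h hm (closed_sup h hm (closed_comp h hm hp) (closed_comp h hm hq))
      (closed_sup h hm (closed_comp h hm hr) (closed_comp h hm hs))) u ⟨hu1, hu2⟩ hu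
  have e1 : finrank F T ≤ _ := Submodule.finrank_add_le_finrank_add_finrank (comp F G p) (comp F G q)
  have e2 : finrank F T' ≤ _ := Submodule.finrank_add_le_finrank_add_finrank (comp F G r) (comp F G s)
  rw [finrank_comp_eq h hm hy hp, finrank_comp_eq h hm hy hq] at e1
  rw [finrank_comp_eq h hm hy hr, finrank_comp_eq h hm hy hs] at e2
  have e3 := Submodule.finrank_sup_add_finrank_inf_eq T T'
  have e4 := finrank_comp_eq h hm hy hu
  rw [Submodule.eq_of_le_of_finrank_le hle (by omega)]
  exact ⟨hz1, hz2⟩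

/-- The components partition the non-zero vectors. -/
theorem dvd_finrank {y : U} (hy : y ≠ 0) :
    finrank F (comp F G y) ∣ finrank F U ∧
      (comp F G y ≠ ⊤ → 2 * finrank F (comp F G y) ≤ finrank F U) := by
  classical
  haveI := Fintype.ofFinite U
  haveI := char_two h
  set e := finrank F (comp F G y) with he
  have hb := (card_F h).2
  have hfib : ∀ C ∈ (Finset.univ.erase (0 : U)).image (comp F G),
      ((Finset.univ.erase (0 : U)).filter (fun v => comp F G v = C)).card = 2 ^ (deg F * e) - 1 := by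
    intro C hC
    obtain ⟨v, hv, rfl⟩ := Finset.mem_image.1 hC
    have hv0 := (Finset.mem_erase.1 hv).1
    have : (Finset.univ.erase (0 : U)).filter (fun w => comp F G w = comp F G v) =
        (Finset.univ.filter (fun w => w ∈ comp F G v)).erase 0 := by
      ext w
      simp only [Finset.mem_filter, Finset.mem_erase, Finset.mem_univ, and_true, true_and]
      exact and_congr_right fun hw0 =>
        ⟨fun e => e ▸ self_mem_comp h hm hw0, fun hw => comp_eq h hm hv0 hw0 hw⟩
    rw [this, Finset.card_erase_of_mem (by simp), ← Fintype.card_subtype, ← Nat.card_eq_fintype_card,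
      show Nat.card {w // w ∈ comp F G v} = Nat.card (comp F G v) from rfl, card_sub h,
      finrank_comp_eq h hm hy hv0]
  have hsum := Finset.card_eq_sum_card_image (comp F G) (Finset.univ.erase (0 : U))
  rw [Finset.sum_congr rfl hfib, Finset.sum_const, smul_eq_mul,
    Finset.card_erase_of_mem (Finset.mem_univ _), Finset.card_univ, ← Nat.card_eq_fintype_card,
    Module.natCard_eq_pow_finrank (K := F), (card_F h).1, ← pow_mul] at hsum
  have hg := Nat.pow_sub_one_gcd_pow_sub_one 2 (deg F * e) (deg F * finrank F U)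
  rw [Nat.gcd_eq_left ⟨_, hsum.trans (mul_comm _ _)⟩] at hg
  have hpos : ∀ k : ℕ, 1 ≤ 2 ^ k := fun k => Nat.one_le_two_pow
  have hd : (deg F * e).gcd (deg F * finrank F U) = deg F * e := by
    refine Nat.pow_right_injective le_rfl (?_ : (2 : ℕ) ^ _ = 2 ^ _)
    have := hpos ((deg F * e).gcd (deg F * finrank F U))
    have := hpos (deg F * e)
    omega
  have hdvd : e ∣ finrank F U := Nat.dvd_of_mul_dvd_mul_left hb (Nat.gcd_eq_left_iff_dvd.1 hd)
  refine ⟨hdvd, fun hne => ?_⟩
  have hlt := Submodule.finrank_lt hne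
  obtain ⟨k, hk⟩ := hdvd
  have hk2 : 2 ≤ k := by
    by_contra hc
    interval_cases k <;> omega
  rw [hk, mul_comm 2]
  exact Nat.mul_le_mul_left _ hk2

/-- Components of at most a third of the dimension give a larger field. -/
theorem spread_field {y : U} (hy : y ≠ 0) (h3 : 3 * finrank F (comp F G y) ≤ finrank F U) :
    ∃ K : Subring (Module.End (ZMod 2) U), IsField K ∧ (∀ g ∈ G, ∀ φ ∈ K, conjEnd g φ ∈ K) ∧
      Nat.card F < Nat.card K := by
  classical
  set e := finrank F (comp F G y) with he
  have he2 : 2 ≤ e := (finrank_wsp h hm hy).trans (Submodule.finrank_mono (wsp_le_comp h hm hy))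
  set E := comp F G y with hE
  have hEc : Closed F G E := closed_comp h hm hy
  have hout : ∀ v : U, ∃ z, z ∉ E ⊔ comp F G v ∧ z ∉ E := by
    intro v
    obtain ⟨z, -, hz⟩ := SetLike.exists_of_lt (lt_top_iff_ne_top.2
      (show E ⊔ comp F G v ≠ ⊤ from fun htop => by
        have e1 := Submodule.finrank_add_le_finrank_add_finrank E (comp F G v)
        rw [htop, finrank_top] at e1
        by_cases hv : v = 0
        · have e2 : finrank F (comp F G v) ≤ 0 := by
            have : comp F G v ≤ ⊥ := Submodule.span_le.2 (by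
              rintro w (rfl | ⟨i, hi⟩)
              · exact Submodule.zero_mem _
              · cases i with
                | zero => simpa [hv, ball] using hi
                | succ i =>
                  obtain ⟨c, hc, hc0, -⟩ := hi
                  subst hv
                  clear htop e1
                  induction i generalizing c with
                  | zero => exact absurd (by simpa [ball] using hc) hc0
                  | succ i ih =>
                    obtain ⟨d, hd, hd0, -⟩ := hc
                    exact ih d hd0 hd)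
            exact (Submodule.finrank_mono this).trans (finrank_bot F U).le
          omega
        · rw [finrank_comp_eq h hm hy hv, ← he] at e1
          omega))
    exact ⟨z, hz, fun hc => hz (Submodule.mem_sup_left hc)⟩
  have hne : ∀ v, v ∉ E → v ≠ 0 := fun v hv h0 => hv (h0 ▸ E.zero_mem)
  have hyv : ∀ v, v ∉ E → y + v ∉ E := fun v hv hc => hv (by
    simpa using E.sub_mem hc (self_mem_comp h hm hy))
  -- a vector of the first component off the line of `y`
  obtain ⟨a, haE, ha⟩ : ∃ a ∈ E, a ∉ Submodule.span F {y} := by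
    by_contra hc
    push Not at hc
    have := Submodule.finrank_mono (show E ≤ Submodule.span F {y} from hc)
    rw [finrank_span_singleton hy] at this
    omega
  -- the value at a vector off the first component
  have hex : ∀ v, v ∉ E → ∃ w ∈ comp F G v, a + w ∈ comp F G (y + v) := by
    intro v hv
    have hv0 := hne v hv
    have hw0 := hne _ (hyv v hv)
    have hle : comp F G (y + v) ≤ E ⊔ comp F G v :=
      closed_sup h hm hEc (closed_comp h hm hv0) _
        (Submodule.add_mem_sup (self_mem_comp h hm hy) (self_mem_comp h hm hv0)) hw0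
    have hnot : y + v ∉ comp F G v := fun hc => by
      have hyv' : y ∈ comp F G v := by simpa using Submodule.sub_mem _ hc (self_mem_comp h hm hv0)
      exact hv (show v ∈ E by rw [hE, comp_eq h hm hv0 hy hyv']; exact self_mem_comp h hm hv0)
    have e1 := finrank_sup_comp h hm hEc hy hv0 hv
    have e2 := finrank_sup_comp h hm (closed_comp h hm hv0) hy hw0 hnot
    have heq : comp F G v ⊔ comp F G (y + v) = E ⊔ comp F G v :=
      Submodule.eq_of_le_of_finrank_le (sup_le le_sup_right hle) (by
        rw [e1, e2, finrank_comp_eq h hm hy hv0])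
    obtain ⟨p, hp, q, hq, hpq⟩ := Submodule.mem_sup.1 (heq ▸ Submodule.mem_sup_left haE :
      a ∈ comp F G v ⊔ comp F G (y + v))
    refine ⟨p, hp, ?_⟩
    rw [← hpq, add_comm p q, add_assoc, add_self', add_zero]
    exact hq
  choose! φ₁ hφ1 hφ2 using hex
  have huniq : ∀ v, v ∉ E → ∀ w ∈ comp F G v, a + w ∈ comp F G (y + v) → φ₁ v = w := by
    intro v hv w hw hw'
    have hv0 := hne v hv
    have hd := closed_disjoint h hm (closed_comp h hm hv0) (hne _ (hyv v hv)) fun hc => by
      have hyv' : y ∈ comp F G v := by simpa using Submodule.sub_mem _ hc (self_mem_comp h hm hv0)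
      exact hv (show v ∈ E by rw [hE, comp_eq h hm hv0 hy hyv']; exact self_mem_comp h hm hv0)
    refine sub_eq_zero.1 ((Submodule.eq_bot_iff _).1 hd _
      ⟨Submodule.sub_mem _ (hφ1 v hv) hw, ?_⟩)
    have := Submodule.sub_mem _ (hφ2 v hv) hw'
    simpa using this
  have hclosed2 : ∀ v, v ∉ E → Closed F G (E ⊔ comp F G v) := fun v hv =>
    closed_sup h hm hEc (closed_comp h hm (hne v hv))
  -- additivity on independent components
  have hindep : ∀ v w, v ∉ E → w ∉ E ⊔ comp F G v → v + w ∉ E ∧ φ₁ (v + w) = φ₁ v + φ₁ w := by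
    intro v w hv hw
    have hwE : w ∉ E := fun hc => hw (Submodule.mem_sup_left hc)
    have hv0 := hne v hv
    have hw0 := hne w hwE
    have hvw : v + w ∉ E := fun hc => hw (by
      have := Submodule.sub_mem (E ⊔ comp F G v) (Submodule.mem_sup_left hc)
        (Submodule.mem_sup_right (self_mem_comp h hm hv0))
      simpa using this)
    have hbig : ∀ T : Submodule F U, y ∈ T → v ∈ T → w ∈ T → Closed F G T → 3 * e ≤ finrank F T := by
      intro T hyT hvT hwT hT
      have := Submodule.finrank_mono
        (sup_le (sup_le (hT y hyT hy) (hT v hvT hv0)) (hT w hwT hw0))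
      rw [finrank_sup_comp h hm (hclosed2 v hv) hy hw0 hw, finrank_sup_comp h hm hEc hy hv0 hv] at this
      omega
    have hcT : ∀ p q r s : U, p ≠ 0 → q ≠ 0 → r ≠ 0 → s ≠ 0 →
        Closed F G ((comp F G p ⊔ comp F G q) ⊔ (comp F G r ⊔ comp F G s)) := fun p q r s hp hq hr hs =>
      closed_sup h hm (closed_sup h hm (closed_comp h hm hp) (closed_comp h hm hq))
        (closed_sup h hm (closed_comp h hm hr) (closed_comp h hm hs))
    have hy1 := hne _ (hyv v hv)
    have hy2 := hne _ (hyv w hwE)
    have sv : ∀ {p : U}, p ≠ 0 → ∀ (q : U), p ∈ comp F G p ⊔ comp F G q := fun hp q =>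
      Submodule.mem_sup_left (self_mem_comp h hm hp)
    have sw : ∀ {q : U}, q ≠ 0 → ∀ (p : U), q ∈ comp F G p ⊔ comp F G q := fun hq p =>
      Submodule.mem_sup_right (self_mem_comp h hm hq)
    refine ⟨hvw, huniq _ hvw _ ?_ ?_⟩
    · refine meet_two h hm hy hv0 hw0 hy1 hy2 (hne _ hvw)
        (Submodule.add_mem _ (sv hv0 w) (sw hw0 v)) ?_ ?_
        (Submodule.add_mem_sup (hφ1 v hv) (hφ1 w hwE)) ?_
      · have : v + w = (y + v) + (y + w) := by
          rw [add_add_add_comm, add_self', zero_add]
        rw [this]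
        exact Submodule.add_mem _ (sv hy1 _) (sw hy2 _)
      · refine hbig _ ?_ (Submodule.mem_sup_left (sv hv0 w)) (Submodule.mem_sup_left (sw hw0 v))
          (hcT _ _ _ _ hv0 hw0 hy1 hy2)
        have := Submodule.sub_mem ((comp F G v ⊔ comp F G w) ⊔ (comp F G (y + v) ⊔ comp F G (y + w)))
          (Submodule.mem_sup_right (sv hy1 (y + w))) (Submodule.mem_sup_left (sv hv0 w))
        simpa using this
      · have : φ₁ v + φ₁ w = (a + φ₁ v) + (a + φ₁ w) := by
          rw [add_add_add_comm, add_self', zero_add]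
        rw [this]
        exact Submodule.add_mem_sup (hφ2 v hv) (hφ2 w hwE)
    · refine meet_two h hm hy hy1 hw0 hv0 hy2 (hne _ (hyv _ hvw)) ?_ ?_ ?_ ?_ ?_
      · rw [← add_assoc]; exact Submodule.add_mem _ (sv hy1 _) (sw hw0 _)
      · rw [add_left_comm]; exact Submodule.add_mem _ (sv hv0 _) (sw hy2 _)
      · refine hbig _ ?_ (Submodule.mem_sup_right (sv hv0 _)) (Submodule.mem_sup_left (sw hw0 _))
          (hcT _ _ _ _ hy1 hw0 hv0 hy2)
        have := Submodule.sub_mem ((comp F G (y + v) ⊔ comp F G w) ⊔ (comp F G v ⊔ comp F G (y + w)))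
          (Submodule.mem_sup_left (sv hy1 w)) (Submodule.mem_sup_right (sv hv0 (y + w)))
        simpa using this
      · rw [← add_assoc]; exact Submodule.add_mem_sup (hφ2 v hv) (hφ1 w hwE)
      · rw [add_left_comm]; exact Submodule.add_mem_sup (hφ1 v hv) (hφ2 w hwE)
  have hmemsup : ∀ u v, u ∈ E → v ∉ E → u + v ∈ E ⊔ comp F G v := fun u v hu hv =>
    Submodule.add_mem_sup hu (self_mem_comp h hm (hne v hv))
  have hcut : ∀ u v, u ∈ E → v ∉ E → u + v ∉ E := fun u v hu hv hc => hv (by
    simpa using E.sub_mem hc hu)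
  have hsub : ∀ v w, v ∉ E → w ∉ E → w ∈ E ⊔ comp F G v → E ⊔ comp F G w ≤ E ⊔ comp F G v :=
    fun v w hv hw hwv => sup_le le_sup_left (hclosed2 v hv w hwv (hne w hw))
  -- the difference along a translation by a vector of the first component is constant
  have hconst1 : ∀ u v z, u ∈ E → v ∉ E → z ∉ E ⊔ comp F G v →
      φ₁ (u + v) + φ₁ v = φ₁ (u + z) + φ₁ z := by
    intro u v z hu hv hz
    have h1 := (hindep (u + v) z (hcut u v hu hv)
      fun hc => hz (hsub v _ hv (hcut u v hu hv) (hmemsup u v hu hv) hc)).2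
    have h2 := (hindep v (u + z) hv fun hc => hz (by
      simpa using Submodule.sub_mem _ hc (Submodule.mem_sup_left (T := comp F G v) hu))).2
    rw [show v + (u + z) = u + v + z by abel] at h2
    rw [h2] at h1
    rw [← sub_eq_zero] at h1
    rw [← sub_eq_zero]
    simp only [sub_eq_add'] at h1 ⊢
    rw [← h1]
    abel
  have hconst : ∀ u v z, u ∈ E → v ∉ E → z ∉ E → φ₁ (u + v) + φ₁ v = φ₁ (u + z) + φ₁ z := by
    intro u v z hu hv hz
    by_cases hzv : z ∈ E ⊔ comp F G v
    · obtain ⟨t, ht, -⟩ := hout v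
      rw [hconst1 u v t hu hv ht, hconst1 u z t hu hz fun hc => ht (hsub v z hv hz hzv hc)]
    · exact hconst1 u v z hu hv hzv
  obtain ⟨z0, -, hz0⟩ := hout y
  let φf : U → U := fun u => if u ∈ E then φ₁ (u + z0) + φ₁ z0 else φ₁ u
  have hshift : ∀ u v, u ∈ E → v ∉ E → φ₁ (u + v) = φf u + φ₁ v := by
    intro u v hu hv
    simp only [φf, if_pos hu]
    rw [← hconst u v z0 hu hv hz0, add_assoc, add_self', add_zero]
  have hadd : ∀ p q, φf (p + q) = φf p + φf q := by
    intro p q
    by_cases hp : p ∈ E <;> by_cases hq : q ∈ E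
    · simp only [φf, if_pos (E.add_mem hp hq), if_pos hp, if_pos hq]
      rw [add_assoc p q z0, hshift p (q + z0) hp (hcut q z0 hq hz0)]
      simp only [φf, if_pos hp]
      abel
    · simp only [φf, if_neg (hcut p q hp hq), if_neg hq]
      exact hshift p q hp hq
    · rw [add_comm p q, add_comm (φf p)]
      simp only [φf, if_neg (hcut q p hq hp), if_neg hp]
      exact hshift q p hq hp
    · simp only [φf, if_neg hp, if_neg hq]
      by_cases hpq : p + q ∈ E
      · rw [if_pos hpq, ← hconst _ q z0 hpq hq hz0, add_assoc, add_self', add_zero]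
      rw [if_neg hpq]
      by_cases hqp : q ∈ E ⊔ comp F G p
      · obtain ⟨z, hz, -⟩ := hout p
        have hsum : p + q ∈ E ⊔ comp F G p :=
          Submodule.add_mem _ (Submodule.mem_sup_right (self_mem_comp h hm (hne p hp))) hqp
        have h1 := (hindep (p + q) z hpq fun hc => hz (hsub p _ hp hpq hsum hc)).2
        have h2 := (hindep p (q + z) hp fun hc => hz (by simpa using Submodule.sub_mem _ hc hqp)).2
        have h3 := (hindep q z hq fun hc => hz (hsub p q hp hq hqp hc)).2
        rw [h3, ← add_assoc, ← add_assoc, h1] at h2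
        exact add_right_cancel h2
      · exact (hindep p q hp hqp).2
  let φ : Module.End (ZMod 2) U := (AddMonoidHom.mk' φf hadd).toZModLinearMap 2
  have hφap : ∀ u, φ u = φf u := fun u => rfl
  have hφK : φ ∈ kern F G := by
    intro u hu w hw
    rw [hφap]
    by_cases hw0 : w = 0
    · subst hw0
      have := hadd 0 0
      rw [add_zero, add_self'] at this
      rw [this]; exact Submodule.zero_mem _
    have hcw := comp_eq h hm hu hw0 hw
    rw [← hcw]
    by_cases hwE : w ∈ E
    · rw [comp_eq h hm hy hw0 hwE]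
      obtain ⟨z, hz, hzE⟩ := hout z0
      have hin : ∀ t, t ∉ E → φ₁ (w + t) + φ₁ t ∈ comp F G y ⊔ comp F G t := fun t ht =>
        Submodule.add_mem _ (hclosed2 t ht _ (hmemsup w t hwE ht) (hne _ (hcut w t hwE ht))
          (hφ1 _ (hcut w t hwE ht))) (Submodule.mem_sup_right (hφ1 t ht))
      simp only [φf, if_pos hwE]
      refine meet_two h hm hy hy (hne z0 hz0) hy (hne z hzE) hy
        (Submodule.mem_sup_left (self_mem_comp h hm hy)) (Submodule.mem_sup_left (self_mem_comp h hm hy))
        ?_ (hin z0 hz0) ?_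
      · refine le_trans ?_ (Submodule.finrank_mono (sup_le_sup_left
          (le_sup_right : comp F G z ≤ comp F G y ⊔ comp F G z) _))
        rw [finrank_sup_comp h hm (hclosed2 z0 hz0) hy (hne z hzE) hz,
          finrank_sup_comp h hm hEc hy (hne z0 hz0) hz0]
        omega
      · rw [hconst w z0 z hwE hz0 hzE]
        exact hin z hzE
    · simp only [φf, if_neg hwE]
      exact hφ1 w hwE
  haveI : Finite (Module.End (ZMod 2) U) :=
    Finite.of_injective (fun ψ => (ψ : U → U)) DFunLike.coe_injective
  have hzero : ∀ ψ ∈ kern F G, ∀ v : U, v ≠ 0 → ψ v = 0 → ψ = 0 := by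
    intro ψ hψ v hv hv'
    have houtv : ∀ w, w ∉ comp F G v → ψ w = 0 := by
      intro w hw
      have hw0 : w ≠ 0 := fun h0 => hw (h0 ▸ Submodule.zero_mem _)
      have hvw : v + w ≠ 0 := fun h0 => hw ((eq_of_add_eq_zero' h0) ▸ self_mem_comp h hm hv)
      have hd := closed_disjoint h hm (closed_comp h hm hw0) hvw fun hc => hw (by
        have hvw' : v ∈ comp F G w := by simpa using Submodule.sub_mem _ hc (self_mem_comp h hm hw0)
        rw [comp_eq h hm hw0 hv hvw']
        exact self_mem_comp h hm hw0)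
      refine (Submodule.eq_bot_iff _).1 hd _ ⟨hψ w hw0 w (self_mem_comp h hm hw0), ?_⟩
      have := hψ _ hvw _ (self_mem_comp h hm hvw)
      rwa [map_add, hv', zero_add] at this
    obtain ⟨t, -, ht⟩ := SetLike.exists_of_lt (lt_top_iff_ne_top.2
      (show comp F G v ≠ ⊤ from fun htop => by
        have := finrank_comp_eq h hm hy hv
        rw [htop, finrank_top] at this
        omega))
    refine LinearMap.ext fun w => ?_
    by_cases hw : w ∈ comp F G v
    · have := houtv (w + t) fun hc => ht (by simpa using Submodule.sub_mem _ hc hw)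
      rw [map_add, houtv t ht, add_zero] at this
      exact this
    · exact houtv w hw
  haveI : Nontrivial (kern F G) := ⟨⟨0, 1, fun h01 => hy (by
    have := congrArg (fun ψ : kern F G => (ψ : Module.End (ZMod 2) U) y) h01
    simpa using this.symm)⟩⟩
  haveI : NoZeroDivisors (kern F G) := ⟨fun {ψ χ} hψχ => by
    by_contra hc
    push Not at hc
    obtain ⟨v, hv⟩ : ∃ v, χ.1 v ≠ 0 := by
      by_contra h'
      push Not at h'
      exact hc.2 (Subtype.ext (LinearMap.ext h'))
    exact hc.1 (Subtype.ext (hzero ψ.1 ψ.2 _ hv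
      (congrArg (fun ρ : kern F G => (ρ : Module.End (ZMod 2) U) v) hψχ)))⟩
  haveI : IsDomain (kern F G) := NoZeroDivisors.to_isDomain _
  refine ⟨kern F G, Finite.isDomain_to_isField _, fun g hg ψ hψ u hu w hw => ?_, ?_⟩
  · have hgu : g.symm u ≠ 0 := fun h0 => hu (g.symm.map_eq_zero_iff.1 h0)
    have hmap : comp F G u = img h hg (comp F G (g.symm u)) := by
      rw [← comp_map h hm hg hgu, LinearEquiv.apply_symm_apply]
    rw [hmap, conjEnd_apply]
    rw [hmap, mem_img] at hw
    exact (apply_mem_img h hg).2 (hψ _ hgu _ hw)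
  · let sc : F → kern F G := fun c =>
      ⟨scalarMap c, fun u _ w hw => Submodule.smul_mem _ c hw⟩
    haveI := Fintype.ofFinite F
    haveI := Fintype.ofFinite (kern F G)
    rw [Nat.card_eq_fintype_card, Nat.card_eq_fintype_card]
    refine Fintype.card_lt_of_injective_of_notMem sc (fun c d hcd => ?_) (b := ⟨φ, hφK⟩) ?_
    · exact smul_left_injective F hy
        (congrArg (fun ρ : kern F G => (ρ : Module.End (ZMod 2) U) y) hcd)
    · rintro ⟨c, hc⟩
      apply ha
      have hval : φ₁ z0 = c • z0 := by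
        have := congrArg (fun ρ : kern F G => (ρ : Module.End (ZMod 2) U) z0) hc
        simp only [sc, scalarMap_apply, hφap, φf, if_neg hz0] at this
        exact this.symm
      have h1 := hφ2 z0 hz0
      rw [hval] at h1
      have hyz := hyv z0 hz0
      have h2 := Submodule.sub_mem _ h1
        (Submodule.smul_mem _ c (self_mem_comp h hm (hne _ hyz)))
      rw [smul_add, add_sub_add_right_eq_sub] at h2
      have h4 := (Submodule.eq_bot_iff _).1 (closed_disjoint h hm hEc (hne _ hyz) hyz) (a - c • y)
        ⟨E.sub_mem haE (E.smul_mem c (self_mem_comp h hm hy)), h2⟩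
      exact Submodule.mem_span_singleton.2 ⟨c, (sub_eq_zero.1 h4).symm⟩

end Cfsg.Lib.AntiflagTwo
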