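import Mathlib
import Cfsg.Agent.AntiflagTwo.Spread

/-!
A largest field over which an antiflag transitive group is semilinear.
-/

set_option autoImplicit false
set_option linter.unusedSectionVars false

namespace Cfsg.Lib.AntiflagTwo

open Module

universe u

variable {U : Type u} [AddCommGroup U] [Module (ZMod 2) U] [Finite U]

theorem conjEnd_mul (g g' : U ≃ₗ[ZMod 2] U) (φ : Module.End (ZMod 2) U) :
    conjEnd g (conjEnd g' φ) = conjEnd (g * g') φ := LinearMap.ext fun _ => rfl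

theorem exists_setting (hne : ∃ u : U, u ≠ 0) (L : Subgroup (U ≃ₗ[ZMod 2] U))
    (hanti : ∀ (u u' : U) (f f' : Dual (ZMod 2) U), f u = 1 → f' u' = 1 →
      ∃ g ∈ L, g u = u' ∧ g • f = f') :
    ∃ (F : Type u) (_ : Field F) (_ : Finite F) (_ : Module F U)
      (G : Subgroup (U ≃ₗ[ZMod 2] U)), L ≤ G ∧ Setting F G ∧
      (∀ g ∈ G, ∃ c : F, c ≠ 0 ∧ ∃ l ∈ L, ∀ u, g u = c • l u) ∧
      ∀ K : Subring (Module.End (ZMod 2) U), IsField K →
        (∀ l ∈ L, ∀ φ ∈ K, conjEnd l φ ∈ K) → Nat.card K ≤ Nat.card F := by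
  classical
  haveI : Finite (Module.End (ZMod 2) U) :=
    Finite.of_injective (fun ψ => (ψ : U → U)) DFunLike.coe_injective
  haveI : Finite (Subring (Module.End (ZMod 2) U)) :=
    Finite.of_injective (fun K => (K : Set (Module.End (ZMod 2) U))) SetLike.coe_injective
  obtain ⟨u₀, hu₀⟩ := hne
  set good : Subring (Module.End (ZMod 2) U) → Prop := fun K =>
    IsField K ∧ ∀ l ∈ L, ∀ φ ∈ K, conjEnd l φ ∈ K with hgood
  have h0 : ∃ K, good K := by
    let f := algebraMap (ZMod 2) (Module.End (ZMod 2) U)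
    refine ⟨f.range, ?_, ?_⟩
    · have hinj : Function.Injective f := (injective_iff_map_eq_zero f).2 fun a ha => by
        rcases zmod_two a with rfl | rfl
        · rfl
        · have := LinearMap.congr_fun ha u₀
          simp [f] at this
          exact absurd this hu₀
      exact MulEquiv.isField (Field.toIsField (ZMod 2))
        (RingEquiv.ofBijective f.rangeRestrict
          ⟨fun a c e => hinj (congrArg Subtype.val e), f.rangeRestrict_surjective⟩).symm.toMulEquiv
    · rintro l hl _ ⟨a, rfl⟩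
      refine ⟨a, LinearMap.ext fun u => ?_⟩
      simp [f, conjEnd_apply, Module.algebraMap_end_apply, map_smul]
  haveI := Fintype.ofFinite (Subring (Module.End (ZMod 2) U))
  obtain ⟨K0, hK0, hmax⟩ := Finset.exists_max_image (Finset.univ.filter good)
    (fun K => Nat.card K) ⟨_, Finset.mem_filter.2 ⟨Finset.mem_univ _, h0.choose_spec⟩⟩
  obtain ⟨hfield, hnorm⟩ : good K0 := (Finset.mem_filter.1 hK0).2
  letI : Field K0 := hfield.toField
  have hact : ∀ (c : K0) (u : U), c • u = c.1 u := fun _ _ => rfl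
  have hsemi : ∀ l ∈ L, ∀ (c : K0), ∃ c' : K0, ∀ u, l (c • u) = c' • l u := fun l hl c =>
    ⟨⟨conjEnd l c.1, hnorm l hl c.1 c.2⟩, fun u => by
      rw [hact, hact, conjEnd_apply, LinearEquiv.symm_apply_apply]⟩
  let G : Subgroup (U ≃ₗ[ZMod 2] U) :=
    { carrier := {g | ∃ c : K0, c ≠ 0 ∧ ∃ l ∈ L, ∀ u, g u = c • l u}
      one_mem' := ⟨1, one_ne_zero, 1, L.one_mem, fun u => (one_smul K0 u).symm⟩
      mul_mem' := by
        rintro g g' ⟨c, hc, l, hl, hg⟩ ⟨c', hc', l', hl', hg'⟩
        obtain ⟨d, hd⟩ := hsemi l hl c'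
        refine ⟨c * d, mul_ne_zero hc fun hd0 => ?_, l * l', L.mul_mem hl hl', fun u => ?_⟩
        · refine hc' (Subtype.ext (LinearMap.ext fun w => ?_))
          have := hd w
          rw [hd0, zero_smul] at this
          exact (l.map_eq_zero_iff.1 this)
        · show g (g' u) = (c * d) • l (l' u)
          rw [hg', hg, hd, smul_smul]
      inv_mem' := by
        rintro g ⟨c, hc, l, hl, hg⟩
        obtain ⟨d, hd⟩ := hsemi l⁻¹ (L.inv_mem hl) c⁻¹
        refine ⟨d, fun hd0 => ?_, l⁻¹, L.inv_mem hl, fun u => g.injective ?_⟩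
        · refine inv_ne_zero hc (Subtype.ext (LinearMap.ext fun w => ?_))
          have := hd w
          rw [hd0, zero_smul] at this
          exact ((l⁻¹).map_eq_zero_iff.1 this)
        · rw [LinearEquiv.coe_inv, LinearEquiv.apply_symm_apply, hg, ← hd, LinearEquiv.coe_inv,
            LinearEquiv.apply_symm_apply, smul_smul, mul_inv_cancel₀ hc, one_smul] }
  have hLG : L ≤ G := fun l hl => ⟨1, one_ne_zero, l, hl, fun u => (one_smul K0 _).symm⟩
  have hfin : Finite K0 := inferInstance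
  refine ⟨K0, inferInstance, hfin, inferInstance, G, hLG, ⟨?_, ?_, ?_, ⟨u₀, hu₀⟩⟩,
    fun g hg => hg, ?_⟩
  · rintro g ⟨c, hc, l, hl, hg⟩ e
    obtain ⟨e', he'⟩ := hsemi l hl e
    refine ⟨e', fun u => ?_⟩
    rw [hg, hg, he', smul_smul, smul_smul, mul_comm]
  · intro c hc
    refine ⟨LinearEquiv.ofLinear c.1 (c⁻¹).1 (LinearMap.ext fun u => ?_) (LinearMap.ext fun u => ?_),
      ⟨c, hc, 1, L.one_mem, fun u => rfl⟩, fun u => rfl⟩
    · show c • c⁻¹ • u = u
      rw [smul_smul, mul_inv_cancel₀ hc, one_smul]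
    · show c⁻¹ • c • u = u
      rw [smul_smul, inv_mul_cancel₀ hc, one_smul]
  · intro u u' f f' hu hu'
    obtain ⟨g, hg, h1, h2⟩ := hanti u u' f f' hu hu'
    exact ⟨g, hLG hg, h1, h2⟩
  · intro K hK hKn
    exact hmax K (Finset.mem_filter.2 ⟨Finset.mem_univ _, hK, hKn⟩)

end Cfsg.Lib.AntiflagTwo
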