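import Mathlib
import Cfsg.Agent.AntiflagTwo.Semilinear
import Cfsg.Agent.AntiflagTwo.Comp

/-!
Two-parts, linearity of elements of large prime order, and the passage to the original group.
-/

set_option autoImplicit false
set_option linter.unusedSectionVars false

namespace Cfsg.Lib.AntiflagTwo

open Module

variable {F : Type*} [Field F] [Finite F] {U : Type*} [AddCommGroup U] [Module (ZMod 2) U]
  [Module F U] [Finite U] {G : Subgroup (U ≃ₗ[ZMod 2] U)}

theorem not_two_pow_dvd {b o : ℕ} (hb : 0 < b) (ho : ¬ 2 ∣ o) : ¬ 2 ^ b ∣ b * o := fun h => by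
  have hco : Nat.Coprime (2 ^ b) o :=
    Nat.Coprime.pow_left _ ((Nat.Prime.coprime_iff_not_dvd Nat.prime_two).2 ho)
  exact absurd (Nat.le_of_dvd hb (hco.dvd_of_dvd_mul_right h)) (Nat.not_le.2 Nat.lt_two_pow_self)

theorem not_two_dvd_pow_sub_one {a : ℕ} (ha : 0 < a) : ¬ 2 ∣ 2 ^ a - 1 := by
  have h1 : 2 ∣ 2 ^ a := dvd_pow_self 2 ha.ne'
  have h2 := Nat.one_le_two_pow (n := a)
  omega

theorem semBound_two (b : ℕ) :
    semBound b 2 = b * ((2 ^ (2 * b) - 1) * (2 ^ b * (2 ^ b - 1))) := by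
  rw [semBound, Fin.prod_univ_two]
  congr 1
  rw [Fin.val_zero, Fin.val_one, pow_zero, pow_one, sq, Nat.mul_sub_one, ← pow_add, ← two_mul]

variable (h : Setting F G)
include h

/-- The dimension over the field is at least three. -/
theorem three_le_finrank (h2 : 2 ^ (deg F * finrank F U) ∣ Nat.card G) : 3 ≤ finrank F U := by
  haveI := char_two h
  obtain ⟨u, hu⟩ := h.ne
  haveI : Module.Finite F U := Module.Finite.of_finite
  have hpos : 0 < finrank F U := Module.finrank_pos_iff_exists_ne_zero.2 ⟨u, hu⟩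
  have hd := h2.trans (semi_card_dvd (card_F h).1 rfl G h.semi)
  have hb := (card_F h).2
  by_contra hlt
  obtain hN | hN : finrank F U = 1 ∨ finrank F U = 2 := by omega
  · rw [hN, semBound, Fin.prod_univ_one, Fin.val_zero, pow_zero, pow_one, mul_one] at hd
    exact not_two_pow_dvd hb (not_two_dvd_pow_sub_one hb) hd
  · rw [hN, semBound_two, show deg F * 2 = deg F + deg F by ring, pow_add] at hd
    refine not_two_pow_dvd (o := (2 ^ (2 * deg F) - 1) * (2 ^ deg F - 1)) hb ?_ ?_
    · intro hd'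
      rcases (Nat.Prime.dvd_mul Nat.prime_two).1 hd' with hd' | hd'
      · exact not_two_dvd_pow_sub_one (by omega) hd'
      · exact not_two_dvd_pow_sub_one hb hd'
    · refine Nat.dvd_of_mul_dvd_mul_left (show 0 < 2 ^ deg F by positivity) (hd.trans (dvd_of_eq ?_))
      ring

theorem card_eq_nonzero_mul {y : U} (hy : y ≠ 0) : Nat.card G =
    (Nat.card U - 1) * Nat.card (G ⊓ MulAction.stabilizer (U ≃ₗ[ZMod 2] U) y : Subgroup _) := by
  haveI := finite_equiv (V := U)
  rw [card_subgroup_eq G y]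
  congr 1
  rw [orbit_eq_of_trans (A := (Set.univ : Set U) \ {0}) ⟨trivial, hy⟩
    (fun g a ha => ⟨trivial, fun hc => ha.2 (g.1.map_eq_zero_iff.1 hc)⟩) fun a ha => by
      obtain ⟨g, hg, hga⟩ := trans_vec h hy ha.2
      exact ⟨⟨g, hg⟩, hga⟩,
    Nat.card_coe_set_eq, Set.ncard_sdiff_singleton_of_mem (Set.mem_univ _), Set.ncard_univ]

/-- A member of a spread with two members in a sum: only the identity fixes it and one vector more. -/
theorem eq_one_of_fix {y u : U} (hm : 2 ≤ finrank F U) (hy : y ≠ 0)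
    (he : 2 * finrank F (comp F G y) = finrank F U) {g : U ≃ₗ[ZMod 2] U} (hg : g ∈ G)
    (hfix : ∀ v ∈ comp F G y, g v = v) (hu : u ∉ comp F G y) (hgu : g u = u) : g = 1 := by
  haveI : Module.Finite F U := Module.Finite.of_finite
  set E := comp F G y with hE
  have hu0 : u ≠ 0 := fun h0 => hu (h0 ▸ E.zero_mem)
  set E' := comp F G u with hE'
  have hdim : ∀ v : U, v ≠ 0 → finrank F (comp F G v) = finrank F E := fun v hv =>
    finrank_comp_eq h hm hy hv
  have hdisj : ∀ a c : U, a ≠ 0 → c ≠ 0 → c ∉ comp F G a →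
      comp F G a ⊓ comp F G c = ⊥ := by
    intro a c ha hc hca
    rw [eq_bot_iff]
    rintro v ⟨hva, hvc⟩
    rw [Submodule.mem_bot]
    by_contra hv
    exact hca (comp_eq h hm ha hv hva ▸ (comp_eq h hm hc hv hvc).symm ▸ self_mem_comp h hm hc)
  have hinv : ∀ a : U, a ≠ 0 → g a = a → ∀ v ∈ comp F G a, g v ∈ comp F G a := by
    intro a ha hga v hv
    have e := comp_map h hm hg ha
    rw [hga] at e
    rw [e]; exact (apply_mem_img h hg).2 hv
  have hspan : ∀ a c : U, a ≠ 0 → c ≠ 0 → c ∉ comp F G a → comp F G a ⊔ comp F G c = ⊤ := by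
    intro a c ha hc hca
    refine Submodule.eq_top_of_finrank_eq ?_
    have h1 := Submodule.finrank_sup_add_finrank_inf_eq (comp F G a) (comp F G c)
    rw [hdisj a c ha hc hca, finrank_bot, hdim a ha, hdim c hc] at h1
    omega
  set M := comp F G (y + u) with hM
  have hyu : y + u ∉ E := fun hc => hu ((Submodule.add_mem_iff_right _ (self_mem_comp h hm hy)).1 hc)
  have hyu0 : y + u ≠ 0 := fun h0 => hyu (h0 ▸ E.zero_mem)
  have hME : y + u ∉ E' := fun hc => by
    have hyE' : y ∈ E' := (Submodule.add_mem_iff_left _ (self_mem_comp h hm hu0)).1 hc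
    exact hu (comp_eq h hm hu0 hy hyE' ▸ self_mem_comp h hm hu0 : u ∈ comp F G y)
  have hgy : g (y + u) = y + u := by rw [map_add, hfix y (self_mem_comp h hm hy), hgu]
  have hfix' : ∀ v ∈ E', g v = v := by
    intro v hv
    have hv' : v ∈ E ⊔ M := by rw [hE, hM, hspan y (y + u) hy hyu0 hyu]; trivial
    obtain ⟨a, ha, m, hm', rfl⟩ := Submodule.mem_sup.1 hv'
    have hd : g (a + m) - (a + m) ∈ E' ⊓ M := by
      refine ⟨E'.sub_mem (hinv u hu0 hgu _ hv) hv, ?_⟩
      rw [map_add, hfix a ha, add_sub_add_left_eq_sub]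
      exact M.sub_mem (hinv (y + u) hyu0 hgy m hm') hm'
    rw [hE', hM, hdisj u (y + u) hu0 hyu0 hME, Submodule.mem_bot, sub_eq_zero] at hd
    exact hd
  refine LinearEquiv.ext fun v => ?_
  have hv : v ∈ E ⊔ E' := by rw [hE, hE', hspan y u hy hu0 hu]; trivial
  obtain ⟨a, ha, c, hc, rfl⟩ := Submodule.mem_sup.1 hv
  rw [map_add, hfix a ha, hfix' c hc]
  rfl

/-- A line spread in dimension four has too small a two-part. -/
theorem not_line_spread (hm : 2 ≤ finrank F U) {y : U} (hy : y ≠ 0) (h4 : finrank F U = 4)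
    (he : finrank F (comp F G y) = 2) (h2 : 2 ^ (deg F * finrank F U) ∣ Nat.card G) : False := by
  classical
  haveI := finite_equiv (V := U)
  haveI := char_two h
  have hb := (card_F h).2
  set E := comp F G y with hE
  set T0 : Subgroup (U ≃ₗ[ZMod 2] U) := G ⊓ MulAction.stabilizer (U ≃ₗ[ZMod 2] U) y with hT0
  rw [card_eq_nonzero_mul h hy] at h2
  have hodd : ¬ 2 ∣ Nat.card U - 1 := by
    rw [Module.natCard_eq_pow_finrank (K := F), (card_F h).1, ← pow_mul]
    exact not_two_dvd_pow_sub_one (by rw [h4]; omega)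
  have hT := (Nat.Coprime.pow_left _ ((Nat.Prime.coprime_iff_not_dvd Nat.prime_two).2 hodd)).dvd_of_dvd_mul_left h2
  have hinv : ∀ g ∈ T0, ∀ u ∈ E, g u ∈ E := by
    intro g hg u hu
    have e := comp_map h hm hg.1 hy
    rw [show g y = y from hg.2] at e
    rw [hE, e]; exact (apply_mem_img h hg.1).2 hu
  set φ := stepHom T0 ⊥ E (fun g _ u hu => by
    rw [Submodule.mem_bot] at hu ⊢; rw [hu, map_zero]) hinv
  have hr : Nat.card φ.range ∣ semBound (deg F) 2 := by
    haveI : Finite (E ⧸ stepSet (⊥ : Submodule F U) E) :=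
      Finite.of_surjective _ (Submodule.Quotient.mk_surjective _)
    refine semi_card_dvd (card_F h).1 (by rw [finrank_step bot_le, finrank_bot, he]) φ.range ?_
    rintro _ ⟨g, rfl⟩ a
    obtain ⟨a', ha'⟩ := h.semi g.1 g.2.1 a
    refine ⟨a', fun w => ?_⟩
    induction w using Submodule.Quotient.induction_on with
    | _ u => exact congrArg Submodule.Quotient.mk (Subtype.ext (ha' u.1))
  set K := φ.ker.map T0.subtype with hK
  have hKfix : ∀ g ∈ K, g ∈ G ∧ ∀ v ∈ E, g v = v := by
    rintro _ ⟨g, hg, rfl⟩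
    refine ⟨g.2.1, fun v hv => ?_⟩
    have h1 : Submodule.Quotient.mk (p := stepSet (⊥ : Submodule F U) E)
        (⟨g.1 v, hinv g.1 g.2 v hv⟩ : E) = Submodule.Quotient.mk ⟨v, hv⟩ :=
      LinearEquiv.congr_fun (show φ g = 1 from hg) (Submodule.Quotient.mk ⟨v, hv⟩)
    exact sub_eq_zero.1 ((Submodule.mem_bot F).1
      ((Submodule.Quotient.eq (stepSet (⊥ : Submodule F U) E)).1 h1))
  have hKd : Nat.card K ∣ Nat.card ↥((E : Set U)ᶜ) := by
    have hKinv : ∀ g ∈ K, ∀ a ∈ (E : Set U)ᶜ, g • a ∈ (E : Set U)ᶜ := by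
      intro g hg a ha hc
      have hgi := (hKfix g⁻¹ (K.inv_mem hg)).2 _ hc
      rw [LinearEquiv.smul_def, LinearEquiv.coe_inv, LinearEquiv.symm_apply_apply] at hgi
      exact ha (by rw [hgi]; exact hc)
    refine dvd_of_orbits K _ hKinv _ fun a ha => dvd_of_eq ?_
    · have hst : MulAction.stabilizer K a = ⊥ := by
        rw [eq_bot_iff]
        intro g hg
        exact Subtype.ext (eq_one_of_fix h hm hy (by rw [← hE, he, h4]) (hKfix g.1 g.2).1
          (hKfix g.1 g.2).2 ha hg)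
      rw [card_group_eq (G := K) a, hst, Subgroup.card_bot, mul_one]
  have hcard : Nat.card T0 = Nat.card φ.range * Nat.card K := by
    rw [Subgroup.card_eq_card_quotient_mul_card_subgroup φ.ker,
      Nat.card_congr (QuotientGroup.quotientKerEquivRange φ).toEquiv,
      Nat.card_congr (Subgroup.equivMapOfInjective φ.ker _ T0.subtype_injective).toEquiv]
  rw [Nat.card_coe_set_eq, Set.ncard_compl, ← Nat.card_coe_set_eq (E : Set U), SetLike.coe_sort_coe,
    card_sub h E, he, Module.natCard_eq_pow_finrank (K := F) (V := U), (card_F h).1, ← pow_mul, h4] at hKd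
  rw [h4, hcard] at hT
  have hd := hT.trans (mul_dvd_mul hr hKd)
  rw [semBound_two] at hd
  set b := deg F
  have e1 : 2 ^ (b * 4) - 2 ^ (b * 2) = 2 ^ (2 * b) * (2 ^ (2 * b) - 1) := by
    rw [Nat.mul_sub_one, ← pow_add]; congr 2 <;> ring
  rw [e1] at hd
  refine not_two_pow_dvd (o := (2 ^ (2 * b) - 1) * (2 ^ b - 1) * (2 ^ (2 * b) - 1)) hb ?_ ?_
  · intro hd'
    rcases (Nat.Prime.dvd_mul Nat.prime_two).1 hd' with hd' | hd'
    · rcases (Nat.Prime.dvd_mul Nat.prime_two).1 hd' with hd' | hd'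
      · exact not_two_dvd_pow_sub_one (by omega) hd'
      · exact not_two_dvd_pow_sub_one hb hd'
    · exact not_two_dvd_pow_sub_one (by omega) hd'
  · refine Nat.dvd_of_mul_dvd_mul_left (show 0 < 2 ^ (b + 2 * b) by positivity) ?_
    rw [← pow_add, show b + 2 * b + b = b * 4 by ring]
    refine hd.trans (dvd_of_eq ?_)
    rw [pow_add]; ring

/-- Elements of large prime order are linear. -/
theorem linear_of_prime {g : U ≃ₗ[ZMod 2] U} (hg : g ∈ G) {r : ℕ} (hr : r.Prime) (hgr : g ^ r = 1)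
    (hrb : ¬ r ∣ deg F) (c : F) (u : U) : g (c • u) = c • g u := by
  haveI := char_two h
  haveI : Finite (F ≃+* F) := Finite.of_injective _ DFunLike.coe_injective
  obtain ⟨u₀, hu₀⟩ := h.ne
  set σ := semiHom G h.semi hu₀ with hσ
  have h1 : orderOf (σ ⟨g, hg⟩) ∣ r := orderOf_dvd_of_pow_eq_one (by
    rw [← map_pow, show (⟨g, hg⟩ : G) ^ r = 1 from Subtype.ext hgr, map_one])
  have h2 : orderOf (σ ⟨g, hg⟩) ∣ deg F := card_ringAut (card_F h).1 ▸ orderOf_dvd_natCard _
  rcases (Nat.dvd_prime hr).1 h1 with h3 | h3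
  · exact semiHom_eq_one G h.semi hu₀ (g := ⟨g, hg⟩) (orderOf_eq_one_iff.1 h3) c u
  · exact absurd (h3 ▸ h2) hrb

/-- A prime divisor of a line stabiliser prime to the scalars and to the degree divides the stabiliser
of a vector in any subgroup that generates the group with the scalars. -/
theorem dvd_card_vecStab {L : Subgroup (U ≃ₗ[ZMod 2] U)} (hL : L ≤ G)
    (hGL : ∀ g ∈ G, ∃ c : F, c ≠ 0 ∧ ∃ l ∈ L, ∀ u, g u = c • l u) {y : U} (hy : y ≠ 0) {r : ℕ}
    (hr : r.Prime) (hdvd : r ∣ Nat.card (lineStab F G y)) (hrq : ¬ r ∣ Nat.card F - 1)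
    (hrb : ¬ r ∣ deg F) :
    r ∣ Nat.card (L ⊓ MulAction.stabilizer (U ≃ₗ[ZMod 2] U) y : Subgroup _) := by
  classical
  haveI := finite_equiv (V := U)
  haveI := Fact.mk hr
  haveI := Fintype.ofFinite F
  set S := lineStab F G y with hS
  set T := (L ⊓ S).subgroupOf S with hT
  set C := (scalars F G).subgroupOf S with hC
  have hno : ∀ c : F, c ^ r = 1 → c = 1 := by
    intro c hc
    have hc0 : c ≠ 0 := fun h0 => by rw [h0, zero_pow hr.ne_zero] at hc; exact zero_ne_one hc
    have h2 : orderOf c ∣ Nat.card F - 1 := orderOf_dvd_of_pow_eq_one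
      (Nat.card_eq_fintype_card (α := F) ▸ FiniteField.pow_card_sub_one_eq_one c hc0)
    rcases (Nat.dvd_prime hr).1 (orderOf_dvd_of_pow_eq_one hc) with h3 | h3
    · exact orderOf_eq_one_iff.1 h3
    · exact absurd (h3 ▸ h2) hrq
  have hiter : ∀ (g : U ≃ₗ[ZMod 2] U) (c : F), (∀ a : F, g (a • y) = a • g y) → g y = c • y →
      ∀ i : ℕ, (g ^ i) y = c ^ i • y := by
    intro g c hlin hgy i
    induction i with
    | zero => rw [pow_zero, pow_zero, one_smul]; rfl
    | succ i ih => rw [pow_succ', LinearEquiv.mul_apply, ih, hlin, hgy, smul_smul, ← pow_succ]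
  have hCr : ¬ r ∣ Nat.card C := by
    intro hd
    obtain ⟨g, hg⟩ := exists_prime_orderOf_dvd_card' r hd
    obtain ⟨-, c, -, hgc⟩ := g.2
    have hgr : (g.1.1 : U ≃ₗ[ZMod 2] U) ^ r = 1 := by
      have := congrArg (fun a : C => (a.1.1 : U ≃ₗ[ZMod 2] U)) (hg ▸ pow_orderOf_eq_one g)
      simpa using this
    have hc : c ^ r = 1 := by
      have h2 := hiter g.1.1 c (fun a => (hgc (a • y)).trans ((smul_comm c a y).trans
        (congrArg (a • ·) (hgc y)).symm)) (hgc y) r
      rw [hgr] at h2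
      exact smul_left_injective F hy (show c ^ r • y = (1 : F) • y by rw [one_smul]; exact h2.symm)
    apply hr.ne_one
    rw [← hg, orderOf_eq_one_iff]
    refine Subtype.ext (Subtype.ext (LinearEquiv.ext fun u => ?_))
    exact (hgc u).trans (by rw [hno c hc, one_smul]; rfl)
  have hidx : Nat.card (S ⧸ T) ∣ Nat.card C := by
    have horb : MulAction.orbit C ((1 : S) : S ⧸ T) = Set.univ := by
      refine Set.eq_univ_of_forall fun a => ?_
      induction a using QuotientGroup.induction_on with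
      | _ s =>
        obtain ⟨c, hc, l, hl, hgl⟩ := hGL s.1 (lineStab_le h y s.2)
        obtain ⟨g, hgG, hgc⟩ := h.scal c hc
        have hgS : g ∈ scalars F G := ⟨hgG, c, hc, hgc⟩
        have he : s.1 = g * l := LinearEquiv.ext fun u => by rw [hgl, LinearEquiv.mul_apply, hgc]
        have hgS' : g ∈ S := scalars_le_lineStab h hy hgS
        have hlS : l ∈ S := by
          have := S.mul_mem (S.inv_mem hgS') s.2
          rwa [he, inv_mul_cancel_left] at this
        refine ⟨⟨⟨g, hgS'⟩, hgS⟩, QuotientGroup.eq.2 ?_⟩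
        show ((⟨g, hgS'⟩ : S) * 1)⁻¹ * s ∈ T
        rw [mul_one, hT, Subgroup.mem_subgroupOf]
        simp [he, hl, hlS]
    rw [card_group_eq (G := C) ((1 : S) : S ⧸ T), horb, Nat.card_coe_set_eq, Set.ncard_univ]
    exact dvd_mul_right _ _
  have hrT : r ∣ Nat.card T := by
    rw [Subgroup.card_eq_card_quotient_mul_card_subgroup T] at hdvd
    exact (hr.dvd_mul.1 hdvd).resolve_left fun hd => hCr (hd.trans hidx)
  obtain ⟨g, hg⟩ := exists_prime_orderOf_dvd_card' r hrT
  set l := (g.1.1 : U ≃ₗ[ZMod 2] U) with hl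
  have hlmem : l ∈ L ⊓ S := g.2
  have hlo : orderOf l = r := by rw [hl, Subgroup.orderOf_coe, Subgroup.orderOf_coe, hg]
  have hlr : l ^ r = 1 := hlo ▸ pow_orderOf_eq_one l
  have hlin := linear_of_prime h (hL hlmem.1) hr hlr hrb
  obtain ⟨c, hc⟩ := Submodule.mem_span_singleton.1 ((mem_lineStab h hy).1 hlmem.2).2
  have h2 := hiter l c (fun a => hlin a y) hc.symm r
  rw [hlr] at h2
  have hc1 := hno c (smul_left_injective F hy (show c ^ r • y = (1 : F) • y by
    rw [one_smul]; exact h2.symm))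
  rw [hc1, one_smul] at hc
  have hmem : l ∈ L ⊓ MulAction.stabilizer (U ≃ₗ[ZMod 2] U) y := ⟨hlmem.1, hc.symm⟩
  rw [← hlo, ← Subgroup.orderOf_mk l hmem]
  exact orderOf_dvd_natCard _

/-- The line stabiliser has order divisible by the size of `wsp y` off the line. -/
theorem dvd_card_lineStab (hm : 2 ≤ finrank F U) {y : U} (hy : y ≠ 0) :
    2 ^ (deg F * (finrank F (wsp F G y) - 1)) - 1 ∣ Nat.card (lineStab F G y) := by
  haveI := finite_equiv (V := U)
  obtain ⟨z, hz, hz'⟩ := Set.exists_of_ssubset (good_wsp h hy hm).1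
  have h1 := card_group_eq (G := lineStab F G y) z
  rw [orbit_wsp h hm hy hz hz', card_wsp_diff h hm hy] at h1
  refine Dvd.dvd.trans ?_ (h1 ▸ dvd_mul_right _ _)
  have hD := finrank_wsp h hm hy
  exact Dvd.intro_left (2 ^ deg F) (by
    rw [Nat.mul_sub_one, ← pow_add]; congr 2
    rw [add_comm, ← Nat.mul_succ]; congr 1; omega)

end Cfsg.Lib.AntiflagTwo
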