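import Mathlib
import Cfsg.Agent.AntiflagTwo.Linear

/-!
Fixed and moved spaces of groups of odd order of linear maps over the field with two elements, restriction to
invariant subspaces, and normal subgroups of two-transitive linear groups.
-/

set_option autoImplicit false
set_option linter.style.haveILetI false

namespace Cfsg.Lib.AntiflagTwo

universe u

variable {Y : Type u} [AddCommGroup Y] [Module (ZMod 2) Y]

instance finite_glTwo [Finite Y] : Finite (Y ≃ₗ[ZMod 2] Y) :=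
  Finite.of_injective (fun φ => (φ : Y → Y)) DFunLike.coe_injective

theorem nsmul_of_odd {n : ℕ} (hn : Odd n) (v : Y) : n • v = v := by
  obtain ⟨m, rfl⟩ := hn
  rw [add_smul, one_smul, mul_comm, mul_smul, two_smul, add_self_zero, smul_zero, zero_add]

theorem inv_apply_eq {g : Y ≃ₗ[ZMod 2] Y} {v w : Y} (h : g v = w) : g⁻¹ w = v :=
  (LinearEquiv.symm_apply_eq g).2 h.symm

theorem inv_apply_self (g : Y ≃ₗ[ZMod 2] Y) (v : Y) : g⁻¹ (g v) = v := g.symm_apply_apply v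

theorem apply_inv_self (g : Y ≃ₗ[ZMod 2] Y) (v : Y) : g (g⁻¹ v) = v := g.apply_symm_apply v

/-- The vectors fixed by a group of linear maps. -/
def fixedSp (R : Subgroup (Y ≃ₗ[ZMod 2] Y)) : Submodule (ZMod 2) Y where
  carrier := {v | ∀ g ∈ R, g v = v}
  add_mem' := fun ha hb g hg => by rw [map_add, ha g hg, hb g hg]
  zero_mem' := fun g _ => map_zero g
  smul_mem' := fun c v hv g hg => by rw [map_smul, hv g hg]

theorem mem_fixedSp {R : Subgroup (Y ≃ₗ[ZMod 2] Y)} {v : Y} : v ∈ fixedSp R ↔ ∀ g ∈ R, g v = v := Iff.rfl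

theorem fixedSp_sup {R S : Subgroup (Y ≃ₗ[ZMod 2] Y)} {v : Y} (hR : v ∈ fixedSp R) (hS : v ∈ fixedSp S) :
    v ∈ fixedSp (R ⊔ S) := by
  have : R ⊔ S ≤ MulAction.stabilizer (Y ≃ₗ[ZMod 2] Y) v := sup_le hR hS
  exact this

theorem fixedSp_zpowers {g : Y ≃ₗ[ZMod 2] Y} {v : Y} (h : g v = v) : v ∈ fixedSp (Subgroup.zpowers g) := by
  have : Subgroup.zpowers g ≤ MulAction.stabilizer (Y ≃ₗ[ZMod 2] Y) v := Subgroup.zpowers_le.2 h
  exact this

section Avg

variable [Finite Y]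

open scoped Classical in
/-- The sum of the members of a group of linear maps. -/
noncomputable def avg (R : Subgroup (Y ≃ₗ[ZMod 2] Y)) : Module.End (ZMod 2) Y :=
  letI := Fintype.ofFinite R
  ∑ g : R, ((g.1 : Y ≃ₗ[ZMod 2] Y) : Module.End (ZMod 2) Y)

/-- The kernel of the sum. -/
noncomputable def fpfSp (R : Subgroup (Y ≃ₗ[ZMod 2] Y)) : Submodule (ZMod 2) Y := LinearMap.ker (avg R)

variable {R : Subgroup (Y ≃ₗ[ZMod 2] Y)}

theorem avg_apply [Fintype R] (v : Y) : avg R v = ∑ g : R, g.1 v := by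
  unfold avg
  rw [LinearMap.sum_apply]
  refine Finset.sum_congr (Finset.ext fun g => by simp) fun g _ => rfl

theorem avg_fixed (v : Y) : avg R v ∈ fixedSp R := fun g hg => by
  haveI := Fintype.ofFinite R
  rw [avg_apply, map_sum]
  exact Fintype.sum_equiv (Equiv.mulLeft (⟨g, hg⟩ : R)) _ _ fun h => rfl

theorem avg_comp {g : Y ≃ₗ[ZMod 2] Y} (hg : g ∈ R) (v : Y) : avg R (g v) = avg R v := by
  haveI := Fintype.ofFinite R
  rw [avg_apply, avg_apply]
  exact Fintype.sum_equiv (Equiv.mulRight (⟨g, hg⟩ : R)) _ _ fun h => rfl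

theorem avg_of_fixed (hR : Odd (Nat.card R)) {v : Y} (hv : v ∈ fixedSp R) : avg R v = v := by
  haveI := Fintype.ofFinite R
  rw [avg_apply, Finset.sum_congr rfl fun g _ => hv g.1 g.2, Finset.sum_const, Finset.card_univ,
    ← Nat.card_eq_fintype_card, nsmul_of_odd hR]

theorem avg_comm {h : Y ≃ₗ[ZMod 2] Y} (hn : ∀ g ∈ R, h * g * h⁻¹ ∈ R) (v : Y) :
    h (avg R v) = avg R (h v) := by
  haveI := Fintype.ofFinite R
  rw [avg_apply, avg_apply, map_sum]
  have hinj : Function.Injective fun g : R => (⟨h * g.1 * h⁻¹, hn g.1 g.2⟩ : R) := fun a b e =>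
    Subtype.ext (mul_left_cancel (mul_right_cancel (congrArg Subtype.val e)))
  refine Fintype.sum_equiv (Equiv.ofBijective _ (Finite.injective_iff_bijective.1 hinj)) _ _ fun g => ?_
  show h (g.1 v) = h (g.1 (h⁻¹ (h v)))
  rw [inv_apply_self]

theorem fpfSp_inv {h : Y ≃ₗ[ZMod 2] Y} (hn : ∀ g ∈ R, h * g * h⁻¹ ∈ R) {v : Y} (hv : v ∈ fpfSp R) :
    h v ∈ fpfSp R := by
  rw [fpfSp, LinearMap.mem_ker] at hv ⊢
  rw [← avg_comm hn, hv, map_zero]

theorem fixedSp_inv {h : Y ≃ₗ[ZMod 2] Y} (hn : ∀ g ∈ R, h⁻¹ * g * h ∈ R) {v : Y} (hv : v ∈ fixedSp R) :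
    h v ∈ fixedSp R := fun g hg => by
  have e : h ((h⁻¹ * g * h) v) = g (h v) := apply_inv_self h _
  rw [hv _ (hn g hg)] at e
  exact e.symm

theorem eq_zero_of_fixed_fpf (hR : Odd (Nat.card R)) {v : Y} (h1 : v ∈ fixedSp R) (h2 : v ∈ fpfSp R) :
    v = 0 := by
  rw [fpfSp, LinearMap.mem_ker, avg_of_fixed hR h1] at h2
  exact h2

theorem sub_avg_mem (hR : Odd (Nat.card R)) (v : Y) : v - avg R v ∈ fpfSp R := by
  rw [fpfSp, LinearMap.mem_ker, map_sub, avg_of_fixed hR (avg_fixed v), sub_self]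

theorem isCompl_fixed_fpf (hR : Odd (Nat.card R)) : IsCompl (fixedSp R) (fpfSp R) := by
  refine ⟨?_, ?_⟩
  · rw [Submodule.disjoint_def]
    exact fun v h1 h2 => eq_zero_of_fixed_fpf hR h1 h2
  · rw [codisjoint_iff, eq_top_iff]
    intro v _
    rw [← add_sub_cancel (avg R v) v]
    exact Submodule.add_mem_sup (avg_fixed v) (sub_avg_mem hR v)

theorem finrank_fixed_add (hR : Odd (Nat.card R)) :
    Module.finrank (ZMod 2) (fixedSp R) + Module.finrank (ZMod 2) (fpfSp R) = Module.finrank (ZMod 2) Y :=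
  Submodule.finrank_add_eq_of_isCompl (isCompl_fixed_fpf hR)

theorem odd_card_of_pGroup {r : ℕ} [Fact r.Prime] (hr2 : r ≠ 2) (hR : IsPGroup r R) : Odd (Nat.card R) := by
  obtain ⟨n, hn⟩ := hR.exists_card_eq
  rw [hn]
  exact ((Fact.out : r.Prime).eq_two_or_odd'.resolve_left hr2).pow

theorem ord_dvd_finrank {r : ℕ} [Fact r.Prime] (hR : IsPGroup r R) {U : Submodule (ZMod 2) Y}
    (hU : ∀ g ∈ R, ∀ v ∈ U, g v ∈ U) (hfix : ∀ v ∈ U, v ∈ fixedSp R → v = 0) :
    orderOf (2 : ZMod r) ∣ Module.finrank (ZMod 2) U := by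
  letI : MulAction R U :=
    { smul := fun g v => ⟨g.1 v.1, hU g.1 g.2 v.1 v.2⟩
      one_smul := fun v => rfl
      mul_smul := fun g h v => rfl }
  have h1 := hR.card_modEq_card_fixedPoints U
  haveI : Subsingleton (MulAction.fixedPoints R U) := ⟨fun a b => by
    have e : ∀ a : MulAction.fixedPoints R U, a.1.1 = 0 := fun a =>
      hfix _ a.1.2 fun g hg => congrArg Subtype.val (a.2 ⟨g, hg⟩)
    exact Subtype.ext (Subtype.ext ((e a).trans (e b).symm))⟩
  haveI : Nonempty (MulAction.fixedPoints R U) :=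
    ⟨⟨0, fun g => Subtype.ext (map_zero g.1)⟩⟩
  haveI : Fintype U := Fintype.ofFinite U
  rw [Nat.card_of_subsingleton (Classical.arbitrary (MulAction.fixedPoints R U)), Nat.card_eq_fintype_card,
    Module.card_eq_pow_finrank (K := ZMod 2) (V := U), ZMod.card] at h1
  refine orderOf_dvd_of_pow_eq_one ?_
  have := (ZMod.natCast_eq_natCast_iff' _ _ r).2 h1
  simpa using this

theorem ord_le_finrank {r : ℕ} [Fact r.Prime] (hR : IsPGroup r R) {U : Submodule (ZMod 2) Y}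
    (hU : ∀ g ∈ R, ∀ v ∈ U, g v ∈ U) (hfix : ∀ v ∈ U, v ∈ fixedSp R → v = 0) (hne : U ≠ ⊥) :
    orderOf (2 : ZMod r) ≤ Module.finrank (ZMod 2) U := by
  refine Nat.le_of_dvd (Nat.pos_of_ne_zero fun e => hne ?_) (ord_dvd_finrank hR hU hfix)
  exact Submodule.finrank_eq_zero.1 e

end Avg

/-- The linear maps leaving a subspace invariant. -/
def invSub (U : Submodule (ZMod 2) Y) : Subgroup (Y ≃ₗ[ZMod 2] Y) where
  carrier := {g | ∀ v, g v ∈ U ↔ v ∈ U}
  mul_mem' := fun {a b} ha hb v => (ha (b v)).trans (hb v)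
  one_mem' := fun v => Iff.rfl
  inv_mem' := fun {a} ha v => by
    have := ha (a⁻¹ v)
    rw [apply_inv_self] at this
    exact this.symm

theorem mem_invSub {U : Submodule (ZMod 2) Y} {g : Y ≃ₗ[ZMod 2] Y} :
    g ∈ invSub U ↔ ∀ v, g v ∈ U ↔ v ∈ U := Iff.rfl

theorem mem_invSub_of {U : Submodule (ZMod 2) Y} {g : Y ≃ₗ[ZMod 2] Y} (h1 : ∀ v ∈ U, g v ∈ U)
    (h2 : ∀ v ∈ U, g⁻¹ v ∈ U) : g ∈ invSub U := fun v =>
  ⟨fun hv => inv_apply_self g v ▸ h2 _ hv, h1 v⟩

/-- Restriction to an invariant subspace. -/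
def resHom (U : Submodule (ZMod 2) Y) : invSub U →* (U ≃ₗ[ZMod 2] U) where
  toFun g :=
    { toFun := fun v => ⟨g.1 v.1, (g.2 v.1).2 v.2⟩
      map_add' := fun v w => Subtype.ext (map_add g.1 v.1 w.1)
      map_smul' := fun c v => Subtype.ext (map_smul g.1 c v.1)
      invFun := fun v => ⟨g.1⁻¹ v.1, ((inv_mem g.2 : g.1⁻¹ ∈ invSub U) v.1).2 v.2⟩
      left_inv := fun v => Subtype.ext (inv_apply_self g.1 v.1)
      right_inv := fun v => Subtype.ext (apply_inv_self g.1 v.1) }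
  map_one' := rfl
  map_mul' _ _ := rfl

theorem resHom_apply {U : Submodule (ZMod 2) Y} (g : invSub U) (v : U) : (resHom U g v).1 = g.1 v.1 := rfl

theorem resHom_eq_one {U : Submodule (ZMod 2) Y} {g : invSub U} : resHom U g = 1 ↔ ∀ v ∈ U, g.1 v = v :=
  ⟨fun e v hv => by
    have := LinearEquiv.congr_fun e ⟨v, hv⟩
    exact congrArg Subtype.val this,
   fun h => LinearEquiv.ext fun v => Subtype.ext (h v.1 v.2)⟩

section Normal

variable [Finite Y] {k : ℕ}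

theorem trans_of_normal {H C : Subgroup (Y ≃ₗ[ZMod 2] Y)} (h2 : TwoTrans H)
    (hnorm : ∀ h ∈ H, ∀ c ∈ C, h * c * h⁻¹ ∈ C) (hne : C ≠ ⊥) :
    ∀ a b : Y, a ≠ 0 → b ≠ 0 → ∃ c ∈ C, c a = b := by
  obtain ⟨c, hc, hc1⟩ := (Subgroup.ne_bot_iff_exists_ne_one.1 hne).elim fun x hx =>
    (⟨x.1, x.2, fun e => hx (Subtype.ext e)⟩ : ∃ c ∈ C, c ≠ 1)
  obtain ⟨v, hv⟩ : ∃ v, c v ≠ v := by
    by_contra h'
    push Not at h'
    exact hc1 (LinearEquiv.ext h')
  have hv0 : v ≠ 0 := fun e => hv (by rw [e, map_zero])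
  have hcv0 : c v ≠ 0 := fun e => hv0 (c.injective (by rw [e, map_zero]))
  intro a b ha hb
  by_cases hab : a = b
  · exact ⟨1, one_mem C, hab⟩
  obtain ⟨h, hh, e1, e2⟩ := h2 v (c v) a b hv0 hcv0 (Ne.symm hv) ha hb hab
  refine ⟨h * c * h⁻¹, hnorm h hh c hc, ?_⟩
  show h (c (h⁻¹ a)) = b
  rw [inv_apply_eq e1, e2]

theorem pred_dvd_card {C : Subgroup (Y ≃ₗ[ZMod 2] Y)} (hk : Module.finrank (ZMod 2) Y = k) (hk1 : 1 ≤ k)
    (htrans : ∀ a b : Y, a ≠ 0 → b ≠ 0 → ∃ c ∈ C, c a = b) : 2 ^ k - 1 ∣ Nat.card C := by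
  haveI : Nontrivial Y := Module.nontrivial_of_finrank_pos (R := ZMod 2) (by omega)
  obtain ⟨v₀, hv₀⟩ := exists_ne (0 : Y)
  have horb : MulAction.orbit C v₀ = {w : Y | w ≠ 0} := by
    ext w
    refine ⟨?_, fun hw => ?_⟩
    · rintro ⟨g, rfl⟩ e
      exact hv₀ (g.1.injective (by rw [show g.1 v₀ = 0 from e, map_zero]))
    · obtain ⟨c, hc, e⟩ := htrans v₀ w hv₀ hw
      exact ⟨⟨c, hc⟩, e⟩
  have h := MulAction.index_stabilizer C v₀
  rw [horb, ← Nat.card_coe_set_eq] at h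
  rw [← card_nonzero hk, ← (MulAction.stabilizer C v₀).card_mul_index, h]
  exact dvd_mul_left _ _

end Normal

/-- An element of prime power order with non-trivial image. -/
theorem exists_prime_power_element {N L : Type*} [Group N] [Finite N] [Group L] (α : N →* L) (M : Subgroup N)
    {q : ℕ} (hq : q.Prime) (h : q ∣ Nat.card (M.map α)) :
    ∃ g ∈ M, α g ≠ 1 ∧ ∃ a, orderOf g = q ^ a := by
  haveI := Fact.mk hq
  haveI : Finite (M.map α) := (Set.Finite.image α (Set.toFinite (M : Set N))).to_subtype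
  obtain ⟨⟨_, g, hg, rfl⟩, ho⟩ := exists_prime_orderOf_dvd_card' q h
  rw [← Subgroup.orderOf_coe] at ho
  change orderOf (α g) = q at ho
  obtain ⟨a, m, hqm, ham⟩ := Nat.exists_eq_pow_mul_and_not_dvd (orderOf_pos g).ne' q hq.ne_one
  refine ⟨g ^ m, pow_mem hg m, fun e => hqm ?_, a, ?_⟩
  · rw [map_pow] at e
    exact ho ▸ orderOf_dvd_of_pow_eq_one e
  · rw [orderOf_pow' g (by rintro rfl; exact hqm (dvd_zero q)), ham, Nat.gcd_mul_left_left,
      Nat.mul_div_cancel _ (Nat.pos_of_ne_zero (by rintro rfl; exact hqm (dvd_zero q)))]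

end Cfsg.Lib.AntiflagTwo
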