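import Mathlib
import Cfsg.Agent.AntiflagTwo.WittBasic

/-!
If a group is two-transitive on one space and normalises a fixed point free `r`-group on a second space of small
dimension, then the kernel on the second space is non-trivial on the first.
-/

set_option autoImplicit false
set_option linter.style.haveILetI false

namespace Cfsg.Lib.AntiflagTwo

open scoped commutatorElement

universe u w

theorem commute_comm_of_zpowers {G : Type*} [Group G] {g h x : G}
    (hg : g⁻¹ * x * g⁻¹⁻¹ ∈ Subgroup.zpowers x) (hh : h⁻¹ * x * h⁻¹⁻¹ ∈ Subgroup.zpowers x) :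
    Commute (g * h * g⁻¹ * h⁻¹) x := by
  obtain ⟨i, hi⟩ := Subgroup.mem_zpowers_iff.1 hg
  obtain ⟨l, hl⟩ := Subgroup.mem_zpowers_iff.1 hh
  have e1 : (g⁻¹ * h⁻¹) * x * (g⁻¹ * h⁻¹)⁻¹ = x ^ (i * l) := by
    rw [zpow_mul, hi, show (g⁻¹ * h⁻¹) * x * (g⁻¹ * h⁻¹)⁻¹ = g⁻¹ * (h⁻¹ * x * h⁻¹⁻¹) * g⁻¹⁻¹ by group,
      ← hl, conj_zpow]
  have e2 : (h⁻¹ * g⁻¹) * x * (h⁻¹ * g⁻¹)⁻¹ = x ^ (i * l) := by
    rw [mul_comm i l, zpow_mul, hl, show (h⁻¹ * g⁻¹) * x * (h⁻¹ * g⁻¹)⁻¹ = h⁻¹ * (g⁻¹ * x * g⁻¹⁻¹) * h⁻¹⁻¹ by group,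
      ← hi, conj_zpow]
  have e3 := e1.trans e2.symm
  calc g * h * g⁻¹ * h⁻¹ * x = (g * h) * ((g⁻¹ * h⁻¹) * x * (g⁻¹ * h⁻¹)⁻¹) * (g⁻¹ * h⁻¹) := by group
    _ = (g * h) * ((h⁻¹ * g⁻¹) * x * (h⁻¹ * g⁻¹)⁻¹) * (g⁻¹ * h⁻¹) := by rw [e3]
    _ = x * (g * h * g⁻¹ * h⁻¹) := by group

variable {Y : Type u} [AddCommGroup Y] [Module (ZMod 2) Y]

theorem vec_identity {G : Type*} [Group G] {r : ℕ} [Fact r.Prime] (hr2 : r ≠ 2) (φ : G →* Module.End (ZMod 2) Y)
    {a b : G} (hab : Commute a b) (hb : b ^ r = 1) (v : Y) :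
    v = ∑ i : ZMod r, ∑ l : ZMod r, φ ((a * b ^ i.val) ^ l.val) v + ∑ l : ZMod r, φ (b ^ l.val) v
      + ∑ l : ZMod r, ∑ m : ZMod r, φ (a ^ l.val * b ^ m.val) v := by
  classical
  set F : ZMod r → ZMod r → Y := fun l m => φ (a ^ l.val * b ^ m.val) v
  have hF : ∀ i l : ZMod r, φ ((a * b ^ i.val) ^ l.val) v = F l (i * l) := fun i l => by
    have : (i * l).val = i.val * l.val % r := ZMod.val_mul i l
    rw [(hab.pow_right i.val).mul_pow, ← pow_mul]
    show _ = φ (a ^ l.val * b ^ (i * l).val) v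
    rw [this, ← pow_eq_pow_mod _ hb]
  have hb0 : ∀ l : ZMod r, φ (b ^ l.val) v = F 0 l := fun l => by simp [F]
  simp only [hF, hb0]
  change v = _ + _ + ∑ l, ∑ m, F l m
  rw [Finset.sum_comm]
  have h0 : ∑ i : ZMod r, F 0 (i * 0) = v := by
    simp only [mul_zero, F, ZMod.val_zero, pow_zero, mul_one, map_one, Module.End.one_apply, Finset.sum_const,
      Finset.card_univ, ZMod.card]
    exact nsmul_of_odd ((Fact.out : r.Prime).eq_two_or_odd'.resolve_left hr2) v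
  have hl : ∀ l : ZMod r, l ≠ 0 → ∑ i : ZMod r, F l (i * l) = ∑ m : ZMod r, F l m := fun l hl =>
    Fintype.sum_equiv (Equiv.mulRight₀ l hl) _ _ fun i => rfl
  rw [← Finset.add_sum_erase _ _ (Finset.mem_univ (0 : ZMod r)), h0,
    ← Finset.add_sum_erase (f := fun l => ∑ m, F l m) _ (Finset.mem_univ (0 : ZMod r)),
    Finset.sum_congr rfl fun l hl' => hl l (Finset.ne_of_mem_erase hl'), add_assoc v, add_assoc v]
  conv_rhs => rw [add_comm (∑ x ∈ Finset.univ.erase 0, ∑ m, F x m) (∑ x, F 0 x), add_self_zero, add_zero]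

variable [Finite Y]

/-- The subspaces fixed by the members of the family. -/
noncomputable abbrev famSp (E : Subgroup (Y ≃ₗ[ZMod 2] Y)) (T : Subgroup (Y ≃ₗ[ZMod 2] Y)) :
    Submodule (ZMod 2) Y := fixedSp T ⊓ fpfSp E

/-- The maximal subgroups of `E` with a non-zero fixed vector in the moved space. -/
def fam (E : Subgroup (Y ≃ₗ[ZMod 2] Y)) : Set (Subgroup (Y ≃ₗ[ZMod 2] Y)) :=
  {T | T ≤ E ∧ T ≠ E ∧ (∀ a ∈ E, a ∉ T → E ≤ T ⊔ Subgroup.zpowers a) ∧ famSp E T ≠ ⊥}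

section Family

variable {r : ℕ} [Fact r.Prime] {E : Subgroup (Y ≃ₗ[ZMod 2] Y)} (hr2 : r ≠ 2)
  (hcomm : ∀ a ∈ E, ∀ b ∈ E, a * b = b * a) (hexp : ∀ a ∈ E, a ^ r = 1)

include hexp in
theorem isPGroup_of_exp : IsPGroup r E := fun g => ⟨1, Subtype.ext (by simpa using hexp g.1 g.2)⟩

include hr2 hexp in
theorem odd_sub {T : Subgroup (Y ≃ₗ[ZMod 2] Y)} (hT : T ≤ E) : Odd (Nat.card T) :=
  odd_card_of_pGroup hr2 ((isPGroup_of_exp hexp).to_le hT)

include hr2 hexp hcomm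

theorem le_span (T : Subgroup (Y ≃ₗ[ZMod 2] Y)) (hT : T ≤ E) {v : Y} (hv : v ∈ famSp E T) :
    v ∈ ⨆ T ∈ fam E, famSp E T := by
  obtain ⟨n, hn⟩ : ∃ n, Nat.card E - Nat.card T = n := ⟨_, rfl⟩
  induction n using Nat.strong_induction_on generalizing T v with
  | _ n ih =>
    by_cases hv0 : v = 0
    · rw [hv0]; exact zero_mem _
    by_cases hTE : T = E
    · subst hTE
      exact absurd (eq_zero_of_fixed_fpf (odd_sub hr2 hexp le_rfl) hv.1 hv.2) hv0
    by_cases hmax : ∀ a ∈ E, a ∉ T → E ≤ T ⊔ Subgroup.zpowers a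
    · refine Submodule.mem_iSup_of_mem T (Submodule.mem_iSup_of_mem ⟨hT, hTE, hmax, fun e => hv0 ?_⟩ hv)
      rw [e] at hv; exact hv
    push Not at hmax
    obtain ⟨a, ha, haT, hle⟩ := hmax
    obtain ⟨b, hb, hbT⟩ := SetLike.not_le_iff_exists.1 hle
    have hab : Commute a b := hcomm a ha b hb
    have hfix : ∀ c ∈ E, ∀ t ∈ T, t (c v) = c v := fun c hc t ht => by
      show (t * c) v = c v
      rw [hcomm t (hT ht) c hc]
      exact congrArg c (hv.1 t ht)
    have hY0 : ∀ c ∈ E, c v ∈ fpfSp E := fun c hc =>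
      fpfSp_inv (fun g hg => mul_mem (mul_mem hc hg) (inv_mem hc)) hv.2
    have hstep : ∀ c ∈ E, c ∉ T → ∀ z ∈ famSp E (T ⊔ Subgroup.zpowers c), z ∈ ⨆ T ∈ fam E, famSp E T := by
      intro c hc hcT z hz
      have hsup : T ⊔ Subgroup.zpowers c ≤ E := sup_le hT (Subgroup.zpowers_le.2 hc)
      refine ih _ ?_ _ hsup hz rfl
      have h1 : Nat.card T < Nat.card ↥(T ⊔ Subgroup.zpowers c) := by
        refine lt_of_le_of_ne (Subgroup.card_le_of_le le_sup_left) fun e => hcT ?_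
        rw [Subgroup.eq_of_le_of_card_ge le_sup_left e.ge]
        exact Subgroup.mem_sup_right (Subgroup.mem_zpowers c)
      have h2 := Subgroup.card_le_of_le hsup
      omega
    have hcyc : ∀ c ∈ E, c ∉ T → ∑ l : ZMod r, (c ^ l.val) v ∈ ⨆ T ∈ fam E, famSp E T := fun c hc hcT => by
      refine hstep c hc hcT _ ⟨fixedSp_sup (fun t ht => ?_) (fixedSp_zpowers ?_), ?_⟩
      · rw [map_sum]
        exact Finset.sum_congr rfl fun l _ => hfix _ (pow_mem hc _) t ht
      · rw [map_sum]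
        refine Fintype.sum_equiv (Equiv.addRight (1 : ZMod r)) _ _ fun l => ?_
        show (c * c ^ l.val) v = (c ^ (l + 1).val) v
        rw [← pow_succ', ZMod.val_add, ← pow_eq_pow_mod _ (hexp c hc), ZMod.val_one]
      · exact Submodule.sum_mem _ fun l _ => hY0 _ (pow_mem hc _)
    let φ : (Y ≃ₗ[ZMod 2] Y) →* Module.End (ZMod 2) Y :=
      { toFun := fun g => (g : Y →ₗ[ZMod 2] Y), map_one' := rfl, map_mul' := fun _ _ => rfl }
    rw [vec_identity hr2 φ hab (hexp b hb) v]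
    refine add_mem (add_mem (Submodule.sum_mem _ fun i _ => hcyc _ (mul_mem ha (pow_mem hb _)) fun hi => ?_)
      (hcyc b hb fun hbT' => hbT (Subgroup.mem_sup_left hbT'))) ?_
    · by_cases hi0 : i = 0
      · rw [hi0, ZMod.val_zero, pow_zero, mul_one] at hi
        exact haT hi
      have hbi : b ^ i.val ∈ T ⊔ Subgroup.zpowers a := by
        rw [show b ^ i.val = a⁻¹ * (a * b ^ i.val) by rw [inv_mul_cancel_left]]
        exact mul_mem (Subgroup.mem_sup_right (inv_mem (Subgroup.mem_zpowers a))) (Subgroup.mem_sup_left hi)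
      apply hbT
      have hcop : Nat.Coprime i.val (orderOf b) := by
        refine Nat.Coprime.coprime_dvd_right (orderOf_dvd_of_pow_eq_one (hexp b hb)) ?_
        refine Nat.Coprime.symm ((Fact.out : r.Prime).coprime_iff_not_dvd.2 fun hd => hi0 ?_)
        rw [← ZMod.natCast_zmod_val i, (ZMod.natCast_eq_zero_iff _ r).2 hd]
      obtain ⟨m, hm⟩ := exists_pow_eq_self_of_coprime hcop
      rw [← hm]
      exact pow_mem hbi m
    · refine hstep a ha haT _ ⟨fixedSp_sup (fun t ht => ?_) (fixedSp_zpowers ?_), ?_⟩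
      · rw [map_sum]
        refine Finset.sum_congr rfl fun l _ => ?_
        rw [map_sum]
        exact Finset.sum_congr rfl fun m _ => hfix _ (mul_mem (pow_mem ha _) (pow_mem hb _)) t ht
      · rw [map_sum]
        refine Fintype.sum_equiv (Equiv.addRight (1 : ZMod r)) _ _ fun l => ?_
        rw [map_sum]
        refine Finset.sum_congr rfl fun m _ => ?_
        show (a * (a ^ l.val * b ^ m.val)) v = (a ^ (l + 1).val * b ^ m.val) v
        rw [← mul_assoc, ← pow_succ', ZMod.val_add, ← pow_eq_pow_mod _ (hexp a ha), ZMod.val_one]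
      · exact Submodule.sum_mem _ fun l _ => Submodule.sum_mem _ fun m _ =>
          hY0 _ (mul_mem (pow_mem ha _) (pow_mem hb _))

theorem avg_zero_of_ne {T T' : Subgroup (Y ≃ₗ[ZMod 2] Y)} (hT : T ∈ fam E) (hT' : T' ∈ fam E) (hne : T ≠ T')
    {v : Y} (hv : v ∈ famSp E T') : avg T v = 0 := by
  obtain ⟨t, ht⟩ : ∃ t, t ∈ T' ∧ t ∉ T ∨ t ∈ T ∧ t ∉ T' := by
    by_contra h'
    push Not at h'
    exact hne (le_antisymm (fun t ht => (h' t).2 ht) (fun t ht => (h' t).1 ht))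
  have hEle : E ≤ T ⊔ T' := by
    rcases ht with ⟨h1, h2⟩ | ⟨h1, h2⟩
    · exact (hT.2.2.1 t (hT'.1 h1) h2).trans (sup_le le_sup_left ((Subgroup.zpowers_le.2 h1).trans le_sup_right))
    · exact (hT'.2.2.1 t (hT.1 h1) h2).trans (sup_le le_sup_right ((Subgroup.zpowers_le.2 h1).trans le_sup_left))
  have hn : ∀ c ∈ E, ∀ g ∈ T, c * g * c⁻¹ ∈ T := fun c hc g hg => by
    rw [hcomm c hc g (hT.1 hg), mul_inv_cancel_right]; exact hg
  refine eq_zero_of_fixed_fpf (odd_sub hr2 hexp le_rfl) (fun g hg => ?_) ?_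
  · have hT'fix : avg T v ∈ fixedSp T' := fun t ht => by
      rw [avg_comm (hn t (hT'.1 ht)), hv.1 t ht]
    exact fixedSp_sup (avg_fixed v) hT'fix g (hEle hg)
  · rw [fpfSp, LinearMap.mem_ker]
    haveI := Fintype.ofFinite T
    rw [avg_apply (R := T), map_sum]
    exact Finset.sum_eq_zero fun g _ => (avg_comp (hT.1 g.2) v).trans (LinearMap.mem_ker.1 hv.2)

theorem card_fam_mul_le {d j : ℕ} (hd : 0 < d) (hfam : ∀ T ∈ fam E, d ≤ Module.finrank (ZMod 2) (famSp E T))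
    (hY : Module.finrank (ZMod 2) Y ≤ j * d) : Nat.card (fam E) ≤ j := by
  classical
  haveI := Fintype.ofFinite (fam E)
  let Φ : ((T : fam E) → famSp E T.1) →ₗ[ZMod 2] Y :=
    ∑ T : fam E, (famSp E T.1).subtype ∘ₗ LinearMap.proj T
  have hΦ : Function.Injective Φ := by
    rw [← LinearMap.ker_eq_bot, LinearMap.ker_eq_bot']
    intro f hf
    funext T
    apply Subtype.ext
    have h1 := congrArg (avg T.1) hf
    simp only [Φ, LinearMap.sum_apply, LinearMap.comp_apply, LinearMap.proj_apply, Submodule.subtype_apply,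
      map_sum, map_zero] at h1
    rw [Finset.sum_eq_single T (fun S _ hS => avg_zero_of_ne hr2 hcomm hexp T.2 S.2
      (fun e => hS (Subtype.ext e.symm)) (f S).2) (fun h => absurd (Finset.mem_univ _) h)] at h1
    rw [avg_of_fixed (odd_sub hr2 hexp T.2.1) (f T).2.1] at h1
    exact h1
  have h1 := LinearMap.finrank_le_finrank_of_injective hΦ
  rw [Module.finrank_pi_fintype] at h1
  have h2 : Nat.card (fam E) * d ≤ ∑ T : fam E, Module.finrank (ZMod 2) (famSp E T.1) := by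
    rw [Nat.card_eq_fintype_card, ← Finset.card_univ, ← smul_eq_mul, ← Finset.sum_const]
    exact Finset.sum_le_sum fun T _ => hfam T.1 T.2
  exact Nat.le_of_mul_le_mul_right (h2.trans (h1.trans hY)) hd

end Family

section Kernel

variable {A : Type u} [AddCommGroup A] [Module (ZMod 2) A] [Finite A] {N : Type w} [Group N] [Finite N]

theorem map_ker_ne_bot {k r q d j : ℕ} [Fact r.Prime] [Fact q.Prime] (hr2 : r ≠ 2)
    (hk : Module.finrank (ZMod 2) A = k) (hk3 : 3 ≤ k) (α : N →* (A ≃ₗ[ZMod 2] A)) (hα : TwoTrans α.range)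
    (hq : q ∣ 2 ^ k - 1) (hd : orderOf (2 : ZMod r) = d) (hjq : j < orderOf (2 : ZMod q))
    (hcop : Nat.Coprime (orderOf (2 : ZMod q)) d) (β : N →* (Y ≃ₗ[ZMod 2] Y))
    (R : Subgroup (Y ≃ₗ[ZMod 2] Y)) (hR : IsPGroup r R) (hN : ∀ n : N, ∀ g ∈ R, β n * g * (β n)⁻¹ ∈ R)
    (hfix : fixedSp R = ⊥) (hY : Module.finrank (ZMod 2) Y ≤ j * d) : β.ker.map α ≠ ⊥ := by
  obtain ⟨m, hm⟩ : ∃ m, Module.finrank (ZMod 2) Y = m := ⟨_, rfl⟩
  induction m using Nat.strong_induction_on generalizing Y with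
  | _ m ih =>
  have htr : ∀ C : Subgroup N, C.Normal → C.map α ≠ ⊥ → q ∣ Nat.card (C.map α) := fun C hC hne => by
    refine hq.trans (pred_dvd_card hk (by omega) (trans_of_normal hα ?_ hne))
    rintro _ ⟨n, rfl⟩ _ ⟨c, hc, rfl⟩
    exact ⟨n * c * n⁻¹, hC.conj_mem c hc n, by simp⟩
  by_cases hR1 : R = ⊥
  · -- nothing moves
    have hall : ∀ g : Y ≃ₗ[ZMod 2] Y, g = 1 := fun g => LinearEquiv.ext fun v => by
      have hv : ∀ v : Y, v = 0 := fun v => by
        have : v ∈ fixedSp R := fun h hh => by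
          rw [hR1, Subgroup.mem_bot] at hh
          rw [hh]; rfl
        rwa [hfix, Submodule.mem_bot] at this
      rw [hv (g v), hv ((1 : Y ≃ₗ[ZMod 2] Y) v)]
    intro e
    haveI : Nontrivial A := Module.nontrivial_of_finrank_pos (R := ZMod 2) (by omega)
    obtain ⟨a, ha⟩ := exists_ne (0 : A)
    obtain ⟨b, -, hb⟩ : ∃ b, b ∈ (⊤ : Submodule (ZMod 2) A) ∧ b ∉ Submodule.span (ZMod 2) {a} :=
      SetLike.exists_of_lt (lt_top_iff_ne_top.2 fun e => by
        have h1 := finrank_span_singleton (K := ZMod 2) ha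
        rw [e, finrank_top, hk] at h1
        omega)
    have hab : a ≠ b := fun e => hb (e ▸ Submodule.mem_span_singleton_self a)
    have hb0 : b ≠ 0 := fun e => hb (e ▸ zero_mem _)
    obtain ⟨_, ⟨n, rfl⟩, e1, -⟩ := hα a b b a ha hb0 hab hb0 ha (Ne.symm hab)
    have : α n ∈ β.ker.map α := ⟨n, hall _, rfl⟩
    rw [e, Subgroup.mem_bot] at this
    rw [this] at e1
    exact hab e1
  have hjd : 0 < orderOf (2 : ZMod q) := by omega
  have hr1 := (Fact.out : r.Prime)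
  have hd0 : 0 < d := by
    rw [← hd]
    refine orderOf_pos_iff.2 (isOfFinOrder_iff_pow_eq_one.2 ⟨r - 1, by have := hr1.two_le; omega, ?_⟩)
    refine ZMod.pow_card_sub_one_eq_one fun h => hr2 ?_
    have h' : ((2 : ℕ) : ZMod r) = 0 := by exact_mod_cast h
    exact (Nat.prime_dvd_prime_iff_eq hr1 Nat.prime_two).1 ((ZMod.natCast_eq_zero_iff _ _).1 h')
  -- the elementary central subgroup
  let E : Subgroup (Y ≃ₗ[ZMod 2] Y) :=
    { carrier := {z | z ∈ R ∧ (∀ g ∈ R, g * z = z * g) ∧ z ^ r = 1}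
      mul_mem' := fun {a b} ⟨ha1, ha2, ha3⟩ ⟨hb1, hb2, hb3⟩ =>
        ⟨mul_mem ha1 hb1, fun g hg => by rw [← mul_assoc, ha2 g hg, mul_assoc, hb2 g hg, mul_assoc],
          by rw [Commute.mul_pow (hb2 a ha1) r, ha3, hb3, one_mul]⟩
      one_mem' := ⟨one_mem _, fun g _ => by rw [mul_one, one_mul], one_pow r⟩
      inv_mem' := fun {a} ⟨ha1, ha2, ha3⟩ =>
        ⟨inv_mem ha1, fun g hg => (Commute.inv_right (ha2 g hg)).eq, by rw [inv_pow, ha3, inv_one]⟩ }
  have hcomm : ∀ a ∈ E, ∀ b ∈ E, a * b = b * a := fun a ha b hb => (hb.2.1 a ha.1)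
  have hexp : ∀ a ∈ E, a ^ r = 1 := fun a ha => ha.2.2
  have hEp : IsPGroup r E := isPGroup_of_exp hexp
  have hEodd : Odd (Nat.card E) := odd_sub hr2 hexp le_rfl
  have hEne : ∃ z ∈ E, z ≠ 1 := by
    haveI : Nontrivial R := (Subgroup.nontrivial_iff_ne_bot R).2 hR1
    haveI : Nontrivial (Subgroup.center R) := hR.center_nontrivial
    obtain ⟨c, hc⟩ := (hR.to_subgroup (Subgroup.center R)).exists_card_eq
    have hrd : r ∣ Nat.card (Subgroup.center R) := by
      have := Finite.one_lt_card (α := Subgroup.center R)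
      rw [hc] at this ⊢
      exact dvd_pow_self r (by rintro rfl; simp at this)
    obtain ⟨z, hz⟩ := exists_prime_orderOf_dvd_card' r hrd
    refine ⟨z.1.1, ⟨z.1.2, fun g hg => ?_, ?_⟩, fun e => ?_⟩
    · exact congrArg Subtype.val (Subgroup.mem_center_iff.1 z.2 ⟨g, hg⟩)
    · have := pow_orderOf_eq_one z
      rw [hz] at this
      exact congrArg (fun x : Subgroup.center R => x.1.1) this
    · have : z = 1 := Subtype.ext (Subtype.ext e)
      rw [this, orderOf_one] at hz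
      exact hr1.ne_one hz.symm
  have hNE : ∀ n : N, ∀ z ∈ E, β n * z * (β n)⁻¹ ∈ E := fun n z hz => by
    refine ⟨hN n z hz.1, fun g hg => ?_, ?_⟩
    · have hg' : (β n)⁻¹ * g * β n ∈ R := by
        have := hN n⁻¹ g hg
        rwa [map_inv, inv_inv] at this
      have h := hz.2.1 _ hg'
      calc g * (β n * z * (β n)⁻¹) = β n * (((β n)⁻¹ * g * β n) * z) * (β n)⁻¹ := by group
        _ = β n * (z * ((β n)⁻¹ * g * β n)) * (β n)⁻¹ := by rw [h]
        _ = β n * z * (β n)⁻¹ * g := by group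
    · rw [conj_pow, hz.2.2, mul_one, mul_inv_cancel]
  have hRE : ∀ g ∈ R, ∀ z ∈ E, g * z * g⁻¹ ∈ E := fun g hg z hz => by
    rw [hz.2.1 g hg, mul_inv_cancel_right]; exact hz
  -- the fixed space of `E`
  have hβinv : ∀ n : N, β n ∈ invSub (fixedSp E) := fun n => by
    refine mem_invSub_of (fun v hv => fixedSp_inv (fun z hz => ?_) hv) (fun v hv => fixedSp_inv (fun z hz => ?_) hv)
    · have := hNE n⁻¹ z hz
      rwa [map_inv, inv_inv] at this
    · have := hNE n z hz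
      rwa [inv_inv]
  have hRinv : R ≤ invSub (fixedSp E) := fun g hg => by
    refine mem_invSub_of (fun v hv => fixedSp_inv (fun z hz => ?_) hv) (fun v hv => fixedSp_inv (fun z hz => ?_) hv)
    · have := hRE g⁻¹ (inv_mem hg) z hz
      rwa [inv_inv] at this
    · have := hRE g hg z hz
      rwa [inv_inv]
  set β₁ : N →* (fixedSp E ≃ₗ[ZMod 2] fixedSp E) := (resHom (fixedSp E)).comp (β.codRestrict _ hβinv) with hβ₁
  have hfix₁ : fixedSp ((R.subgroupOf (invSub (fixedSp E))).map (resHom (fixedSp E))) = ⊥ := by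
    rw [eq_bot_iff]
    intro v hv
    have : v.1 ∈ fixedSp R := fun g hg => congrArg Subtype.val (hv _ ⟨⟨g, hRinv hg⟩, hg, rfl⟩)
    rw [hfix, Submodule.mem_bot] at this
    rw [Submodule.mem_bot]
    exact Subtype.ext this
  have hlt : Module.finrank (ZMod 2) (fixedSp E) < Module.finrank (ZMod 2) Y := by
    refine Submodule.finrank_lt fun e => ?_
    obtain ⟨z, hz, hz1⟩ := hEne
    exact hz1 (LinearEquiv.ext fun v => (e ▸ Submodule.mem_top : v ∈ fixedSp E) z hz)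
  have hM : β₁.ker.map α ≠ ⊥ := by
    refine ih _ (hm ▸ hlt) (Y := fixedSp E) β₁ _ ((hR.of_equiv
      (Subgroup.subgroupOfEquivOfLe hRinv).symm).map _) ?_ hfix₁ (by omega) rfl
    rintro n _ ⟨g, hg, rfl⟩
    refine ⟨(β.codRestrict _ hβinv) n * g * ((β.codRestrict _ hβinv) n)⁻¹, hN n g.1 hg, ?_⟩
    rw [map_mul, map_mul, map_inv]
    rfl
  have hMfix : ∀ n ∈ β₁.ker, ∀ v ∈ fixedSp E, β n v = v := fun n hn => resHom_eq_one.1 hn
  -- the action on the family
  let Φ₀ : N → fam E → fam E := fun n T => ⟨T.1.map (MulAut.conj (β n)).toMonoidHom, by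
    obtain ⟨hTE, hTne, hTmax, hTfix⟩ := T.2
    have hmemE : ∀ z, z ∈ E ↔ MulAut.conj (β n) z ∈ E := fun z => by
      refine ⟨hNE n z, fun h => ?_⟩
      have h' := hNE n⁻¹ _ h
      rw [map_inv, inv_inv, MulAut.conj_apply] at h'
      simpa [mul_assoc] using h'
    have hEmap : E.map (MulAut.conj (β n)).toMonoidHom = E := by
      ext z
      refine ⟨?_, fun hz => ⟨(MulAut.conj (β n)).symm z, ?_, MulEquiv.apply_symm_apply _ z⟩⟩
      · rintro ⟨z, hz, rfl⟩; exact (hmemE z).1 hz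
      · refine (hmemE _).2 ?_
        rw [MulEquiv.apply_symm_apply]; exact hz
    have hinj : Function.Injective (MulAut.conj (β n)).toMonoidHom := (MulAut.conj (β n)).injective
    refine ⟨(Subgroup.map_mono hTE).trans hEmap.le, fun e => hTne (Subgroup.map_injective hinj (e.trans hEmap.symm)),
      fun a ha ha' => ?_, ?_⟩
    · obtain ⟨b, hb, rfl⟩ : a ∈ E.map (MulAut.conj (β n)).toMonoidHom := hEmap.symm ▸ ha
      refine hEmap.symm.le.trans ((Subgroup.map_mono (hTmax b hb fun h => ha' ⟨b, h, rfl⟩)).trans ?_)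
      rw [Subgroup.map_sup, MonoidHom.map_zpowers]
    · obtain ⟨v, hv, hv0⟩ := Submodule.exists_mem_ne_zero_of_ne_bot hTfix
      refine Submodule.ne_bot_iff _ |>.2 ⟨β n v, ⟨?_, fpfSp_inv (hNE n) hv.2⟩,
        fun e => hv0 ((β n).injective (by rw [e, map_zero]))⟩
      rintro _ ⟨t, ht, rfl⟩
      show β n (t ((β n)⁻¹ (β n v))) = β n v
      rw [inv_apply_self, hv.1 t ht]⟩
  have hΦmul : ∀ n n' T, Φ₀ (n * n') T = Φ₀ n (Φ₀ n' T) := fun n n' T => Subtype.ext (by
    show T.1.map (MulAut.conj (β (n * n'))).toMonoidHom =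
      (T.1.map (MulAut.conj (β n')).toMonoidHom).map (MulAut.conj (β n)).toMonoidHom
    rw [Subgroup.map_map]
    congr 1
    ext z
    simp [map_mul, mul_assoc])
  have hΦone : ∀ T, Φ₀ 1 T = T := fun T => Subtype.ext (by
    show T.1.map (MulAut.conj (β 1)).toMonoidHom = _
    have : (MulAut.conj (β 1)).toMonoidHom = MonoidHom.id _ := by ext z; simp
    rw [this, Subgroup.map_id])
  letI : MulAction N (fam E) := { smul := Φ₀, one_smul := hΦone, mul_smul := hΦmul }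
  set Φ := MulAction.toPermHom N (fam E)
  have hfamd : ∀ T ∈ fam E, d ≤ Module.finrank (ZMod 2) (famSp E T) := fun T hT => by
    rw [← hd]
    refine ord_le_finrank hR ?_ ?_ hT.2.2.2
    · intro g hg v hv
      refine ⟨fixedSp_inv (fun t ht => ?_) hv.1, fpfSp_inv (hRE g hg) hv.2⟩
      rw [show g⁻¹ * t * g = g⁻¹ * (t * g) from mul_assoc _ _ _, ← (hT.1 ht).2.1 g hg, inv_mul_cancel_left]
      exact ht
    · intro v _ hv'
      rwa [hfix, Submodule.mem_bot] at hv'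
  have hcardfam : Nat.card (fam E) ≤ j := card_fam_mul_le hr2 hcomm hexp hd0 hfamd hY
  have hqj : j < q := by
    have : orderOf (2 : ZMod q) ∣ q - 1 := by
      refine ZMod.orderOf_dvd_card_sub_one fun h => ?_
      have h' : ((2 : ℕ) : ZMod q) = 0 := by exact_mod_cast h
      have h2 := (Nat.prime_dvd_prime_iff_eq Fact.out Nat.prime_two).1 ((ZMod.natCast_eq_zero_iff _ _).1 h')
      subst h2
      have hodd : ¬ 2 ∣ 2 ^ k - 1 := by
        have : 2 ∣ 2 ^ k := dvd_pow_self 2 (by omega)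
        have := Nat.one_le_two_pow (n := k)
        omega
      exact hodd hq
    have hq2 := (Fact.out : q.Prime).two_le
    have := Nat.le_of_dvd (by omega) this
    omega
  -- the kernel on the family
  set K₁ := β₁.ker ⊓ Φ.ker with hK₁
  haveI hK₁n : K₁.Normal := Subgroup.normal_inf_normal _ _
  have hK₁ne : K₁.map α ≠ ⊥ := by
    obtain ⟨g, hg, hg1, a, ha⟩ := exists_prime_power_element α β₁.ker Fact.out (htr _ inferInstance hM)
    intro e
    have hgK : g ∈ K₁ := by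
      refine ⟨hg, orderOf_eq_one_iff.1 ?_⟩
      have h1 : orderOf (Φ g) ∣ q ^ a := ha ▸ orderOf_map_dvd Φ g
      have h2 : orderOf (Φ g) ∣ (Nat.card (fam E)).factorial := by
        rw [← Nat.card_perm]; exact orderOf_dvd_natCard (Φ g)
      obtain ⟨b, -, hb⟩ := (Nat.dvd_prime_pow Fact.out).1 h1
      rcases Nat.eq_zero_or_pos b with rfl | hb0
      · rw [hb, pow_zero]
      · exfalso
        have := (Fact.out : q.Prime).dvd_factorial.1 ((dvd_pow_self q hb0.ne').trans (hb ▸ h2))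
        omega
    have : α g ∈ K₁.map α := ⟨g, hgK, rfl⟩
    rw [e, Subgroup.mem_bot] at this
    exact hg1 this
  set K₂ := ⁅K₁, K₁⁆
  haveI hK₂n : K₂.Normal := Subgroup.commutator_normal K₁ K₁
  have hK₂ne : K₂.map α ≠ ⊥ := fun e => by
    refine hK₁ne (eq_bot_of_abelian_normal hk hk3 hα (Subgroup.map_le_range α K₁) ?_ ?_)
    · rintro _ ⟨n, rfl⟩ _ ⟨c, hc, rfl⟩
      exact ⟨n * c * n⁻¹, hK₁n.conj_mem c hc n, by simp⟩
    · rintro _ ⟨a, ha, rfl⟩ _ ⟨b, hb, rfl⟩
      have : α (a * b * a⁻¹ * b⁻¹) ∈ K₂.map α := ⟨_, Subgroup.commutator_mem_commutator ha hb, rfl⟩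
      rw [e, Subgroup.mem_bot] at this
      simpa [mul_inv_eq_one, mul_inv_eq_iff_eq_mul] using this
  -- commutators centralise `E`
  have hcent : ∀ n ∈ K₂, ∀ z ∈ E, ∀ v, β n (z v) = z (β n v) := by
    let M₂ : Subgroup N :=
      { carrier := {n | ∀ z ∈ E, β n * z = z * β n}
        mul_mem' := fun {a b} ha hb z hz => by rw [map_mul, mul_assoc, hb z hz, ← mul_assoc, ha z hz, mul_assoc]
        one_mem' := fun z _ => by rw [map_one, one_mul, mul_one]
        inv_mem' := fun {a} ha z hz => by rw [map_inv]; exact (Commute.inv_left (ha z hz)).eq }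
    suffices h : K₂ ≤ M₂ by
      intro n hn z hz v
      exact LinearEquiv.congr_fun (h hn z hz) v
    rw [Subgroup.commutator_le]
    intro m hm m' hm' z hz
    refine LinearEquiv.ext fun v => ?_
    show β ⁅m, m'⁆ (z v) = z (β ⁅m, m'⁆ v)
    let S : Submodule (ZMod 2) Y :=
      { carrier := {v | β ⁅m, m'⁆ (z v) = z (β ⁅m, m'⁆ v)}
        add_mem' := fun {a b} (ha : β ⁅m, m'⁆ (z a) = z (β ⁅m, m'⁆ a)) (hb : β ⁅m, m'⁆ (z b) = z (β ⁅m, m'⁆ b)) => by
          show β ⁅m, m'⁆ (z (a + b)) = z (β ⁅m, m'⁆ (a + b))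
          rw [map_add z, map_add, map_add (β ⁅m, m'⁆), map_add z, ha, hb]
        zero_mem' := by simp
        smul_mem' := fun c a (ha : β ⁅m, m'⁆ (z a) = z (β ⁅m, m'⁆ a)) => by
          show β ⁅m, m'⁆ (z (c • a)) = z (β ⁅m, m'⁆ (c • a))
          rw [map_smul z, map_smul, map_smul (β ⁅m, m'⁆), map_smul z, ha] }
    suffices hS : S = ⊤ from (hS ▸ Submodule.mem_top : v ∈ S)
    rw [eq_top_iff, ← codisjoint_iff.1 (isCompl_fixed_fpf hEodd).2]
    refine sup_le (fun v hv => ?_) (fun v hv => ?_)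
    · show β ⁅m, m'⁆ (z v) = z (β ⁅m, m'⁆ v)
      have hc : ⁅m, m'⁆ ∈ β₁.ker := by
        haveI : β₁.ker.Normal := MonoidHom.normal_ker _
        exact (Subgroup.commutator_le_left β₁.ker β₁.ker) (Subgroup.commutator_mem_commutator hm.1 hm'.1)
      rw [hv z hz, hMfix _ hc v hv, hv z hz]
    refine (?_ : (⨆ T ∈ fam E, famSp E T) ≤ S) (le_span hr2 hcomm hexp ⊥ bot_le ⟨fun t ht => by
      rw [Subgroup.mem_bot] at ht; rw [ht]; rfl, hv⟩)
    refine iSup₂_le fun T hT v hv => ?_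
    show β ⁅m, m'⁆ (z v) = z (β ⁅m, m'⁆ v)
    -- work on one member of the family
    set F := famSp E T
    have hEF : ∀ c ∈ E, c ∈ invSub F := fun c hc => by
      have key : ∀ c ∈ E, ∀ v ∈ F, c v ∈ F := fun c hc v hv =>
        ⟨fixedSp_inv (fun t ht => by
          rw [mul_assoc, hcomm t (hT.1 ht) c hc, inv_mul_cancel_left]; exact ht) hv.1,
         fpfSp_inv (fun t ht => mul_mem (mul_mem hc ht) (inv_mem hc)) hv.2⟩
      exact mem_invSub_of (key c hc) (key _ (inv_mem hc))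
    have hKF : ∀ m ∈ K₁, ∀ v ∈ F, β m v ∈ F := fun m hm v hv => by
      refine ⟨fixedSp_inv (fun t ht => ?_) hv.1, fpfSp_inv (hNE m) hv.2⟩
      have hfixT : Φ₀ m⁻¹ ⟨T, hT⟩ = ⟨T, hT⟩ := by
        have := (inv_mem hm : m⁻¹ ∈ K₁).2
        exact DFunLike.congr_fun (MonoidHom.mem_ker.1 this) ⟨T, hT⟩
      have h' : MulAut.conj (β m⁻¹) t ∈ T := by
        have e := congrArg Subtype.val hfixT
        exact (SetLike.ext_iff.1 e _).1 ⟨t, ht, rfl⟩
      rw [MulAut.conj_apply, map_inv, inv_inv] at h'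
      exact h'
    have hKF' : ∀ m ∈ K₁, β m ∈ invSub F := fun m hm => mem_invSub_of (hKF m hm) fun v hv => by
      rw [← map_inv]; exact hKF _ (inv_mem hm) v hv
    obtain ⟨a, haE, haT⟩ : ∃ a ∈ E, a ∉ T := SetLike.exists_of_lt (lt_of_le_of_ne hT.1 hT.2.1)
    set ρ := resHom F
    have hgen : ∀ c ∈ E, ∀ hc : c ∈ invSub F, ρ ⟨c, hc⟩ ∈ Subgroup.zpowers (ρ ⟨a, hEF a haE⟩) := by
      intro c hc hc'
      have hle : T ⊔ Subgroup.zpowers a ≤
          ((Subgroup.zpowers (ρ ⟨a, hEF a haE⟩)).comap ρ).map (invSub F).subtype := by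
        refine sup_le (fun t ht => ⟨⟨t, hEF t (hT.1 ht)⟩, ?_, rfl⟩)
          (Subgroup.zpowers_le.2 ⟨⟨a, hEF a haE⟩, Subgroup.mem_zpowers _, rfl⟩)
        show ρ ⟨t, hEF t (hT.1 ht)⟩ ∈ Subgroup.zpowers (ρ ⟨a, hEF a haE⟩)
        rw [show ρ ⟨t, hEF t (hT.1 ht)⟩ = 1 from resHom_eq_one.2 fun w hw => hw.1 t ht]
        exact one_mem _
      obtain ⟨⟨c', hc''⟩, hmem, e⟩ := hle (hT.2.2.1 a haE haT hc)
      change c' = c at e
      subst e
      exact hmem
    have hconj : ∀ m (hm : m ∈ K₁), (ρ ⟨β m, hKF' m hm⟩)⁻¹ * ρ ⟨a, hEF a haE⟩ * (ρ ⟨β m, hKF' m hm⟩)⁻¹⁻¹ ∈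
        Subgroup.zpowers (ρ ⟨a, hEF a haE⟩) := fun m hm => by
      have hc : (β m)⁻¹ * a * β m ∈ E := by
        have := hNE m⁻¹ a haE
        rwa [map_inv, inv_inv] at this
      rw [← map_inv, ← map_mul, ← map_inv, ← map_mul]
      have e : ((⟨β m, hKF' m hm⟩ : invSub F))⁻¹ * ⟨a, hEF a haE⟩ * (⟨β m, hKF' m hm⟩ : invSub F)⁻¹⁻¹ =
          ⟨(β m)⁻¹ * a * β m, hEF _ hc⟩ := by
        rw [inv_inv]; rfl
      rw [e]
      exact hgen _ hc _
    obtain ⟨i, hi⟩ := Subgroup.mem_zpowers_iff.1 (hgen z hz (hEF z hz))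
    have hzc := (commute_comm_of_zpowers (hconj m hm) (hconj m' hm')).zpow_right i
    rw [hi, ← map_inv, ← map_inv, ← map_mul, ← map_mul, ← map_mul] at hzc
    have h := congrArg Subtype.val (LinearEquiv.congr_fun hzc.eq ⟨v, hv⟩)
    have e : β ⁅m, m'⁆ = β m * β m' * (β m)⁻¹ * (β m')⁻¹ := by
      simp [commutatorElement_def]
    rw [e]
    exact h
  obtain ⟨g, hg, hg1, b, hb⟩ := exists_prime_power_element α K₂ Fact.out (htr _ hK₂n hK₂ne)
  intro e
  -- the element acts trivially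
  have hgY : β g = 1 := by
    have hgM : g ∈ β₁.ker := ((Subgroup.commutator_le_left K₁ K₁) hg).1
    set Gg := Subgroup.zpowers (β g)
    have hGp : IsPGroup q Gg := by
      obtain ⟨c, -, hc⟩ := (Nat.dvd_prime_pow Fact.out).1 (hb ▸ orderOf_map_dvd β g)
      exact IsPGroup.of_card (n := c) (by rw [Nat.card_zpowers, hc])
    have hqo : q ≠ 2 := by
      rintro rfl
      have : 2 ∣ 2 ^ k := dvd_pow_self 2 (by omega)
      have := Nat.one_le_two_pow (n := k)
      omega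
    have hGodd : Odd (Nat.card Gg) := odd_card_of_pGroup hqo hGp
    have hGinv : ∀ h ∈ Gg, ∀ v ∈ fpfSp Gg, h v ∈ fpfSp Gg := fun h hh v hv =>
      fpfSp_inv (fun t ht => mul_mem (mul_mem hh ht) (inv_mem hh)) hv
    have h1 := ord_dvd_finrank hGp hGinv fun v hv hv' => eq_zero_of_fixed_fpf hGodd hv' hv
    have hEinv : ∀ z ∈ E, ∀ v ∈ fpfSp Gg, z v ∈ fpfSp Gg := fun z hz v hv => by
      refine fpfSp_inv (fun t ht => ?_) hv
      obtain ⟨i, rfl⟩ := Subgroup.mem_zpowers_iff.1 ht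
      have hc : Commute (β g) z := LinearEquiv.ext fun v => hcent g hg z hz v
      rw [← ((hc.zpow_left i).eq), mul_inv_cancel_right]
      exact zpow_mem (Subgroup.mem_zpowers _) i
    have h2 := ord_dvd_finrank hEp hEinv fun v hv hv' =>
      eq_zero_of_fixed_fpf hGodd (fixedSp_zpowers (hMfix g hgM v hv')) hv
    rw [hd] at h2
    have h3 := hcop.mul_dvd_of_dvd_of_dvd h1 h2
    have h4 : Module.finrank (ZMod 2) (fpfSp Gg) = 0 := by
      by_contra hne
      have h5 := Nat.le_of_dvd (Nat.pos_of_ne_zero hne) h3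
      have h6 := (Submodule.finrank_le (fpfSp Gg)).trans hY
      have h7 := Nat.le_of_mul_le_mul_right (h5.trans h6) hd0
      omega
    rw [Submodule.finrank_eq_zero] at h4
    have htop : fixedSp Gg = ⊤ := by
      have := codisjoint_iff.1 (isCompl_fixed_fpf hGodd).2
      rwa [h4, sup_bot_eq] at this
    exact LinearEquiv.ext fun v => (htop ▸ Submodule.mem_top : v ∈ fixedSp Gg) _ (Subgroup.mem_zpowers _)
  have : α g ∈ β.ker.map α := ⟨g, hgY, rfl⟩
  rw [e, Subgroup.mem_bot] at this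
  exact hg1 this

end Kernel

end Cfsg.Lib.AntiflagTwo
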