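import Mathlib
import Cfsg.Agent.AntiflagTwo.WittKer
import Cfsg.Agent.Components.Misc.Zsigmondy

/-!
The Witt lemma: for an odd prime dividing the order of a two-point stabiliser, the fixed space of a Sylow
subgroup yields an element of prime order with small moved space.
-/

set_option autoImplicit false
set_option linter.style.haveILetI false

namespace Cfsg.Lib.AntiflagTwo

open scoped Pointwise

universe u

variable {V : Type u} [AddCommGroup V] [Module (ZMod 2) V]

theorem natCast_two_ne_zero {r : ℕ} (hr : r.Prime) (hr2 : r ≠ 2) : (2 : ZMod r) ≠ 0 := fun h => by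
  have h' : ((2 : ℕ) : ZMod r) = 0 := by exact_mod_cast h
  exact hr2 ((Nat.prime_dvd_prime_iff_eq hr Nat.prime_two).1 ((ZMod.natCast_eq_zero_iff _ _).1 h'))

theorem orderOf_two_eq {q k : ℕ} (hk : 0 < k) (hd : q ∣ 2 ^ k - 1)
    (hmin : ∀ i, 0 < i → i < k → ¬ q ∣ 2 ^ i - 1) : orderOf (2 : ZMod q) = k := by
  have key : ∀ i, (2 : ZMod q) ^ i = 1 ↔ q ∣ 2 ^ i - 1 := fun i => by
    rw [← ZMod.natCast_eq_zero_iff, Nat.cast_sub Nat.one_le_two_pow, sub_eq_zero, Nat.cast_pow, Nat.cast_ofNat,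
      Nat.cast_one]
  rw [orderOf_eq_iff hk]
  exact ⟨(key k).2 hd, fun i hik hi h => hmin i hi hik ((key i).1 h)⟩

section Small

variable {Z : Type u} [AddCommGroup Z] [Module (ZMod 2) Z] [Finite Z]

theorem small_trivial {r d : ℕ} [Fact r.Prime] (hr2 : r ≠ 2) (hdim : Module.finrank (ZMod 2) Z = d)
    (hd : orderOf (2 : ZMod r) = d) (hdodd : Odd d) (R : Subgroup (Z ≃ₗ[ZMod 2] Z)) (hR : IsPGroup r R)
    (hfix : fixedSp R = ⊥) (h : Z ≃ₗ[ZMod 2] Z) (hnorm : ∀ g ∈ R, h * g * h⁻¹ ∈ R)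
    (hh : ∃ a, orderOf h ∣ 2 ^ a) : h = 1 := by
  have hd0 : 0 < d := hdodd.pos
  have hZ : ∀ z : Z ≃ₗ[ZMod 2] Z, z ∈ R → (∀ g ∈ R, g * z = z * g) → z ≠ 1 →
      let C := Subgroup.centralizer ({z} : Set (Z ≃ₗ[ZMod 2] Z))
      (∀ a ∈ C, ∀ b ∈ C, a * b = b * a) ∧ (∀ u v : Z, u ≠ 0 → v ≠ 0 → ∃ c ∈ C, c u = v) ∧
        Nat.card C = 2 ^ d - 1 := by
    intro z hz hzc hz1 C
    have hmemC : ∀ c, c ∈ C ↔ z * c = c * z := fun c => by
      rw [Subgroup.mem_centralizer_iff]; simp
    -- no proper invariant subspace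
    have hirr : ∀ U : Submodule (ZMod 2) Z, (∀ v ∈ U, z v ∈ U) → U ≠ ⊥ → U = ⊤ := by
      intro U hU hne
      have hzp : IsPGroup r (Subgroup.zpowers z) := hR.to_le (Subgroup.zpowers_le.2 hz)
      have hinv : ∀ g ∈ Subgroup.zpowers z, ∀ v ∈ U, g v ∈ U := by
        intro g hg v hv
        obtain ⟨i, rfl⟩ := mem_powers_iff_mem_zpowers.2 hg
        induction i with
        | zero => simpa using hv
        | succ i ih =>
          show (z ^ (i + 1)) v ∈ U
          rw [pow_succ']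
          exact hU _ (ih (Subgroup.pow_mem _ (Subgroup.mem_zpowers z) i))
      have hfz : fixedSp (Subgroup.zpowers z) = ⊥ := by
        by_contra hne'
        have hRinv : ∀ g ∈ R, ∀ v ∈ fixedSp (Subgroup.zpowers z), g v ∈ fixedSp (Subgroup.zpowers z) :=
          fun g hg v hv => fixedSp_zpowers (by
            show (z * g) v = g v
            rw [← hzc g hg]
            exact congrArg g (hv z (Subgroup.mem_zpowers z)))
        have hle := ord_le_finrank hR hRinv
          (fun v _ hv => by rwa [hfix, Submodule.mem_bot] at hv) hne'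
        refine hz1 (LinearEquiv.ext fun v => ?_)
        have htop : fixedSp (Subgroup.zpowers z) = ⊤ :=
          Submodule.eq_top_of_finrank_eq (le_antisymm (Submodule.finrank_le _) (by omega))
        exact (htop ▸ Submodule.mem_top : v ∈ fixedSp (Subgroup.zpowers z)) z (Subgroup.mem_zpowers z)
      have hle := ord_le_finrank hzp hinv (fun v _ hv => by rwa [hfz, Submodule.mem_bot] at hv) hne
      exact Submodule.eq_top_of_finrank_eq (le_antisymm (Submodule.finrank_le _) (by omega))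
    set ze : Module.End (ZMod 2) Z := (z : Z →ₗ[ZMod 2] Z)
    have hcyc : ∀ u : Z, u ≠ 0 → ∀ v : Z, ∃ p : Polynomial (ZMod 2), Polynomial.aeval ze p u = v := by
      intro u hu
      let U : Submodule (ZMod 2) Z := LinearMap.range
        ((LinearMap.applyₗ u).comp (Polynomial.aeval ze).toLinearMap : Polynomial (ZMod 2) →ₗ[ZMod 2] Z)
      have hU : U = ⊤ := by
        refine hirr U ?_ ?_
        · rintro _ ⟨p, rfl⟩
          refine ⟨Polynomial.X * p, ?_⟩
          show Polynomial.aeval ze (Polynomial.X * p) u = z (Polynomial.aeval ze p u)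
          rw [map_mul, Polynomial.aeval_X]
          rfl
        · intro e
          have : u ∈ U := ⟨1, by simp⟩
          rw [e, Submodule.mem_bot] at this
          exact hu this
      intro v
      obtain ⟨p, hp⟩ := (hU ▸ Submodule.mem_top : v ∈ U)
      exact ⟨p, hp⟩
    have hpc : ∀ (c : Z ≃ₗ[ZMod 2] Z), c ∈ C → ∀ (p : Polynomial (ZMod 2)) (u : Z),
        c (Polynomial.aeval ze p u) = Polynomial.aeval ze p (c u) := by
      intro c hc p u
      induction p using Polynomial.induction_on' with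
      | add p q hp hq => simp [hp, hq]
      | monomial i a =>
        simp only [Polynomial.aeval_monomial, Module.End.mul_apply, Module.algebraMap_end_apply]
        rw [map_smul]
        congr 1
        induction i with
        | zero => rfl
        | succ i ih =>
          rw [pow_succ', Module.End.mul_apply, Module.End.mul_apply, ← ih]
          exact (LinearEquiv.congr_fun ((hmemC c).1 hc) _).symm
    have htrans : ∀ u v : Z, u ≠ 0 → v ≠ 0 → ∃ c ∈ C, c u = v := by
      intro u v hu hv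
      obtain ⟨p, hp⟩ := hcyc u hu v
      have hinj : Function.Injective (Polynomial.aeval ze p) := by
        rw [← LinearMap.ker_eq_bot]
        by_contra hne
        refine hv ?_
        have htop := hirr _ (fun w hw => ?_) hne
        · rw [← hp]; exact LinearMap.mem_ker.1 (htop ▸ Submodule.mem_top)
        · rw [LinearMap.mem_ker] at hw ⊢
          rw [← hpc z ((hmemC z).2 rfl) p w, hw, map_zero]
      refine ⟨LinearEquiv.ofBijective (Polynomial.aeval ze p) ⟨hinj, LinearMap.injective_iff_surjective.1 hinj⟩,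
        (hmemC _).2 (LinearEquiv.ext fun w => ?_), hp⟩
      exact hpc z ((hmemC z).2 rfl) p w
    have hcomm : ∀ a ∈ C, ∀ b ∈ C, a * b = b * a := fun a ha b hb => LinearEquiv.ext fun u => by
      by_cases hu : u = 0
      · subst hu; simp
      obtain ⟨p, hp⟩ := hcyc u hu (b u)
      show a (b u) = b (a u)
      obtain ⟨q, hq⟩ := hcyc u hu (a u)
      rw [← hp, hpc a ha, ← hq, hpc b hb, ← hp, ← Module.End.mul_apply, ← Module.End.mul_apply, ← map_mul,
        ← map_mul, mul_comm]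
    exact ⟨hcomm, htrans,
      (card_dvd_of_abelian_transitive hdim hd0 le_rfl (fun a ha c hc => mul_mem (mul_mem ha hc) (inv_mem ha))
        hcomm htrans).1⟩
  -- a central element
  have hR1 : R ≠ ⊥ := fun e => by
    haveI : Nontrivial Z := Module.nontrivial_of_finrank_pos (R := ZMod 2) (hdim ▸ hd0)
    obtain ⟨v, hv⟩ := exists_ne (0 : Z)
    have : v ∈ fixedSp R := fun g hg => by
      rw [e, Subgroup.mem_bot] at hg
      rw [hg]; rfl
    rw [hfix, Submodule.mem_bot] at this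
    exact hv this
  haveI : Nontrivial R := (Subgroup.nontrivial_iff_ne_bot R).2 hR1
  haveI : Nontrivial (Subgroup.center R) := hR.center_nontrivial
  obtain ⟨zc, hzc⟩ := exists_ne (1 : Subgroup.center R)
  set z := zc.1.1
  have hz : z ∈ R := zc.1.2
  have hzcomm : ∀ g ∈ R, g * z = z * g := fun g hg =>
    congrArg Subtype.val (Subgroup.mem_center_iff.1 zc.2 ⟨g, hg⟩)
  have hz1 : z ≠ 1 := fun e => hzc (Subtype.ext (Subtype.ext e))
  have hnorm' : ∀ g ∈ R, h⁻¹ * g * h ∈ R := by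
    have hinj : Function.Injective fun g : R => (⟨h * g.1 * h⁻¹, hnorm g.1 g.2⟩ : R) := fun a b e =>
      Subtype.ext (mul_left_cancel (mul_right_cancel (congrArg Subtype.val e)))
    intro g hg
    obtain ⟨g', e⟩ := (Finite.injective_iff_bijective.1 hinj).2 ⟨g, hg⟩
    have e' : h * g'.1 * h⁻¹ = g := congrArg Subtype.val e
    rw [← e', show h⁻¹ * (h * g'.1 * h⁻¹) * h = g'.1 by group]
    exact g'.2
  set z' := h * z * h⁻¹
  have hz'c : ∀ g ∈ R, g * z' = z' * g := fun g hg => by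
    have e := hzcomm _ (hnorm' g hg)
    calc g * z' = h * ((h⁻¹ * g * h) * z) * h⁻¹ := by simp only [z']; group
      _ = h * (z * (h⁻¹ * g * h)) * h⁻¹ := by rw [e]
      _ = z' * g := by simp only [z']; group
  have hz'1 : z' ≠ 1 := fun e => hz1 (by simpa [z'] using e)
  obtain ⟨hcomm, htrans, hcard⟩ := hZ z hz hzcomm hz1
  obtain ⟨-, -, hcard'⟩ := hZ z' (hnorm z hz) hz'c hz'1
  set C := Subgroup.centralizer ({z} : Set (Z ≃ₗ[ZMod 2] Z))
  have hCC : Subgroup.centralizer ({z'} : Set (Z ≃ₗ[ZMod 2] Z)) = C := by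
    refine (Subgroup.eq_of_le_of_card_ge ?_ (by rw [hcard, hcard'])).symm
    intro c hc
    rw [Subgroup.mem_centralizer_iff]
    rintro _ rfl
    refine (hcomm c hc z' ?_).symm
    rw [Subgroup.mem_centralizer_iff]
    rintro _ rfl
    exact (hzcomm z' (hnorm z hz)).symm
  have hhN : h ∈ Subgroup.normalizer (C : Set (Z ≃ₗ[ZMod 2] Z)) := by
    rw [Subgroup.mem_normalizer_iff]
    intro c
    show c ∈ C ↔ h * c * h⁻¹ ∈ C
    conv_rhs => rw [← hCC]
    rw [Subgroup.mem_centralizer_iff, Subgroup.mem_centralizer_iff]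
    simp only [Set.mem_singleton_iff, forall_eq]
    show z * c = c * z ↔ z' * (h * c * h⁻¹) = h * c * h⁻¹ * z'
    constructor
    · intro e
      calc z' * (h * c * h⁻¹) = h * (z * c) * h⁻¹ := by simp only [z']; group
        _ = h * (c * z) * h⁻¹ := by rw [e]
        _ = h * c * h⁻¹ * z' := by simp only [z']; group
    · intro e
      calc z * c = h⁻¹ * (z' * (h * c * h⁻¹)) * h := by simp only [z']; group
        _ = h⁻¹ * (h * c * h⁻¹ * z') * h := by rw [e]
        _ = c * z := by simp only [z']; group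
  obtain ⟨-, hdvd⟩ := card_dvd_of_abelian_transitive hdim hd0 Subgroup.le_normalizer
    (fun a ha c hc => (Subgroup.mem_normalizer_iff.1 ha c).1 hc) hcomm htrans
  obtain ⟨a, ha⟩ := hh
  have h1 : orderOf h ∣ d * (2 ^ d - 1) := by
    refine dvd_trans ?_ hdvd
    rw [← Subgroup.orderOf_mk h hhN]
    exact orderOf_dvd_natCard _
  have hodd : Odd (d * (2 ^ d - 1)) :=
    hdodd.mul (Nat.Even.sub_odd Nat.one_le_two_pow ((Nat.even_pow.2 ⟨even_two, hd0.ne'⟩)) odd_one)
  have h3 : Nat.Coprime (d * (2 ^ d - 1)) (2 ^ a) := (Nat.coprime_two_right.2 hodd).pow_right a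
  exact orderOf_eq_one_iff.1 (Nat.eq_one_of_dvd_coprimes h3 h1 ha)

end Small

variable [Finite V]

theorem witt {n : ℕ} (hn : Module.finrank (ZMod 2) V = n) (hp : n.Prime) (h5 : 5 ≤ n) (IH : SmallIH.{u} n)
    {H : Subgroup (V ≃ₗ[ZMod 2] V)} (h2 : TwoTrans H) (hT : NoTransvection H) {x y : V} (hx : x ≠ 0) (hy : y ≠ 0)
    (hxy : x ≠ y) {r : ℕ} (hr : r.Prime) (hr2 : r ≠ 2) (hrd : r ∣ Nat.card (fix2 H x y)) :
    ∃ k j, n = k + j * orderOf (2 : ZMod r) ∧ 0 < j ∧ 2 ≤ k ∧ (j < k → (k = 6 → j < 3) → 4 ≤ k ∧ k ≠ 5 ∧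
      ∃ g ∈ H, ∃ e, g x = x ∧ (orderOf g).Prime ∧ k < orderOf g ∧ Module.finrank (ZMod 2) (moved g) = e ∧
        x ∉ moved g ∧ (e = k ∨ (k = 6 ∧ e = 3)) ∧
        (k ≠ 6 → orderOf (2 : ZMod (orderOf g)) = k)) := by
  haveI := Fact.mk hr
  obtain ⟨R₀⟩ : Nonempty (Sylow r (fix2 H x y)) := inferInstance
  set R := (R₀ : Subgroup (fix2 H x y)).map (fix2 H x y).subtype with hRdef
  have hRp : IsPGroup r R := R₀.isPGroup'.map _
  have hRle : R ≤ fix2 H x y := Subgroup.map_subtype_le _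
  have hRH : R ≤ H := hRle.trans (inf_le_left.trans inf_le_left)
  have hRodd : Odd (Nat.card R) := odd_card_of_pGroup hr2 hRp
  have hRcard : Nat.card R = r ^ (Nat.card (fix2 H x y)).factorization r := by
    rw [hRdef, Subgroup.card_subtype, Sylow.card_eq_multiplicity]
  have hR1 : R ≠ ⊥ := fun e => by
    rw [e, Subgroup.card_bot] at hRcard
    have h0 : (Nat.card (fix2 H x y)).factorization r = 0 := by
      by_contra h0
      have := Nat.one_lt_pow h0 hr.one_lt
      omega
    rcases (Nat.factorization_eq_zero_iff _ _).1 h0 with h' | h' | h'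
    · exact h' hr
    · exact h' hrd
    · exact Nat.card_pos.ne' h'
  have hxA : x ∈ fixedSp R := fun g hg => (hRle hg).1.2
  have hyA : y ∈ fixedSp R := fun g hg => (hRle hg).2
  set A := fixedSp R with hA
  set W := fpfSp R with hW
  set d := orderOf (2 : ZMod r) with hd
  have hWinv : ∀ g ∈ R, ∀ v ∈ W, g v ∈ W := fun g hg v hv =>
    fpfSp_inv (fun t ht => mul_mem (mul_mem hg ht) (inv_mem hg)) hv
  have hWd : d ∣ Module.finrank (ZMod 2) W :=
    ord_dvd_finrank hRp hWinv fun v hv hv' => eq_zero_of_fixed_fpf hRodd hv' hv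
  obtain ⟨j, hj⟩ := hWd
  have hW0 : W ≠ ⊥ := fun e => hR1 (by
    rw [eq_bot_iff]
    intro g hg
    rw [Subgroup.mem_bot]
    have htop := codisjoint_iff.1 (isCompl_fixed_fpf hRodd).2
    rw [← hW, e, sup_bot_eq] at htop
    exact LinearEquiv.ext fun v => (htop ▸ Submodule.mem_top : v ∈ fixedSp R) g hg)
  have hsum : Module.finrank (ZMod 2) A + Module.finrank (ZMod 2) W = n := hn ▸ finrank_fixed_add hRodd
  set k := Module.finrank (ZMod 2) A with hk
  have hj0 : 0 < j := by
    rcases Nat.eq_zero_or_pos j with rfl | h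
    · exact absurd (Submodule.finrank_eq_zero.1 (by rw [hj, mul_zero])) hW0
    · exact h
  have hnjk : n = k + j * d := by rw [← hsum, hj, mul_comm]
  have hk2 : 2 ≤ k := by
    rw [hk]
    have hle : Submodule.span (ZMod 2) {x, y} ≤ A := Submodule.span_le.2 (by
      rintro v (rfl | rfl)
      exacts [hxA, hyA])
    refine le_trans ?_ (Submodule.finrank_mono hle)
    have hlt : Submodule.span (ZMod 2) {x} < Submodule.span (ZMod 2) {x, y} := by
      refine lt_of_le_of_ne (Submodule.span_mono (by simp)) fun e => ?_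
      have : y ∈ Submodule.span (ZMod 2) {x} := e ▸ Submodule.subset_span (by simp)
      obtain ⟨c, hc⟩ := Submodule.mem_span_singleton.1 this
      rcases zmod_two_cases c with rfl | rfl
      · exact hy (by rw [← hc, zero_smul])
      · exact hxy (by rw [← hc, one_smul])
    have h1 := Submodule.finrank_lt_finrank_of_lt hlt
    rw [finrank_span_singleton hx] at h1
    omega
  refine ⟨k, j, hnjk, hj0, hk2, fun hjk hk6 => ?_⟩
  have hd0 : 0 < d := by
    rcases Nat.eq_zero_or_pos d with e | h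
    · exact absurd (Submodule.finrank_eq_zero.1 (by rw [hj, e, zero_mul])) hW0
    · exact h
  have hkn : k < n := by rw [hnjk]; have := Nat.mul_pos hj0 hd0; omega
  have hcop : Nat.Coprime k d := by
    have h1 : Nat.gcd k d ∣ n := by
      rw [hnjk]
      exact Nat.dvd_add (Nat.gcd_dvd_left k d) ((Nat.gcd_dvd_right k d).mul_left j)
    rcases (Nat.dvd_prime hp).1 h1 with h | h
    · exact h
    · have := Nat.le_of_dvd (by omega) (h ▸ Nat.gcd_dvd_left k d)
      omega
  -- the normaliser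
  let N : Subgroup (V ≃ₗ[ZMod 2] V) :=
    H ⊓ Subgroup.normalizer (R : Set (V ≃ₗ[ZMod 2] V))
  have hNconj : ∀ g ∈ N, ∀ t ∈ R, g * t * g⁻¹ ∈ R := fun g hg t ht =>
    (Subgroup.mem_normalizer_iff.1 hg.2 t).1 ht
  have hNconj' : ∀ g ∈ N, ∀ t ∈ R, g⁻¹ * t * g ∈ R := fun g hg t ht => by
    have := hNconj g⁻¹ (inv_mem hg) t ht
    rwa [inv_inv] at this
  have hNA : ∀ g ∈ N, g ∈ invSub A := fun g hg =>
    mem_invSub_of (fun v hv => fixedSp_inv (hNconj' g hg) hv)
      (fun v hv => fixedSp_inv (hNconj' g⁻¹ (inv_mem hg)) hv)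
  have hNW : ∀ g ∈ N, g ∈ invSub W := fun g hg =>
    mem_invSub_of (fun v hv => fpfSp_inv (hNconj g hg) hv) (fun v hv => fpfSp_inv (hNconj g⁻¹ (inv_mem hg)) hv)
  set α : N →* (A ≃ₗ[ZMod 2] A) := (resHom A).comp (Subgroup.inclusion fun g hg => hNA g hg) with hαdef
  set β : N →* (W ≃ₗ[ZMod 2] W) := (resHom W).comp (Subgroup.inclusion fun g hg => hNW g hg) with hβdef
  -- transitivity on the fixed space
  have hmove : ∀ a b c e : V, a ∈ A → b ∈ A → c ∈ A → e ∈ A → a ≠ 0 → b ≠ 0 → a ≠ b → c ≠ 0 → e ≠ 0 → c ≠ e →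
      ∃ g ∈ N, g a = c ∧ g b = e := by
    intro a b c e ha hb hc he ha0 hb0 hab hc0 he0 hce
    obtain ⟨h, hh, h1, h1'⟩ := h2 a b c e ha0 hb0 hab hc0 he0 hce
    obtain ⟨h₀, hh₀, h3, h4⟩ := h2 x y c e hx hy hxy hc0 he0 hce
    set F := fix2 H c e
    have hFcard : Nat.card F = Nat.card (fix2 H x y) := by
      refine Nat.card_congr ⟨fun g => ⟨h₀⁻¹ * g.1 * h₀, ?_⟩, fun g => ⟨h₀ * g.1 * h₀⁻¹, ?_⟩, fun g => ?_, fun g => ?_⟩
      · obtain ⟨⟨gH, gc⟩, ge⟩ := g.2
        refine ⟨⟨H.mul_mem (H.mul_mem (H.inv_mem hh₀) gH) hh₀, ?_⟩, ?_⟩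
        · show h₀⁻¹ (g.1 (h₀ x)) = x
          rw [h3, show g.1 c = c from gc, inv_apply_eq h3]
        · show h₀⁻¹ (g.1 (h₀ y)) = y
          rw [h4, show g.1 e = e from ge, inv_apply_eq h4]
      · obtain ⟨⟨gH, gc⟩, ge⟩ := g.2
        refine ⟨⟨H.mul_mem (H.mul_mem hh₀ gH) (H.inv_mem hh₀), ?_⟩, ?_⟩
        · show h₀ (g.1 (h₀⁻¹ c)) = c
          rw [inv_apply_eq h3, show g.1 x = x from gc, h3]
        · show h₀ (g.1 (h₀⁻¹ e)) = e
          rw [inv_apply_eq h4, show g.1 y = y from ge, h4]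
      · exact Subtype.ext (by simp [mul_assoc])
      · exact Subtype.ext (by simp [mul_assoc])
    have hRF : R ≤ F := fun g hg => ⟨⟨hRH hg, hc g hg⟩, he g hg⟩
    set R' := R.map (MulAut.conj h).toMonoidHom
    have hR'F : R' ≤ F := by
      rintro _ ⟨g, hg, rfl⟩
      refine ⟨⟨H.mul_mem (H.mul_mem hh (hRH hg)) (H.inv_mem hh), ?_⟩, ?_⟩
      · show h (g (h⁻¹ c)) = c
        rw [inv_apply_eq h1, ha g hg, h1]
      · show h (g (h⁻¹ e)) = e
        rw [inv_apply_eq h1', hb g hg, h1']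
    have hc1 : Nat.card (R.subgroupOf F) = r ^ (Nat.card F).factorization r := by
      rw [Nat.card_congr (Subgroup.subgroupOfEquivOfLe hRF).toEquiv, hRcard, hFcard]
    have hc2 : Nat.card (R'.subgroupOf F) = r ^ (Nat.card F).factorization r := by
      rw [Nat.card_congr (Subgroup.subgroupOfEquivOfLe hR'F).toEquiv,
        Nat.card_congr (Subgroup.equivMapOfInjective R _ (MulAut.conj h).injective).symm.toEquiv, hRcard, hFcard]
    obtain ⟨m, hm⟩ := MulAction.exists_smul_eq F (Sylow.ofCard (R'.subgroupOf F) hc2) (Sylow.ofCard (R.subgroupOf F) hc1)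
    have hm' : MulAut.conj m • (R'.subgroupOf F) = R.subgroupOf F := by
      have := congrArg (fun P : Sylow r F => (P : Subgroup F)) hm
      simpa [Sylow.coe_subgroup_smul, Sylow.coe_ofCard] using this
    refine ⟨m.1 * h, ⟨mul_mem m.2.1.1 hh, Subgroup.mem_normalizer_fintype fun g hg => ?_⟩, ?_, ?_⟩
    · have hg' : h * g * h⁻¹ ∈ R' := ⟨g, hg, rfl⟩
      have : MulAut.conj m (⟨h * g * h⁻¹, hR'F hg'⟩ : F) ∈ R.subgroupOf F := by
        rw [← hm']
        exact Subgroup.smul_mem_pointwise_smul _ _ _ (Subgroup.mem_subgroupOf.2 hg')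
      rw [Subgroup.mem_subgroupOf] at this
      simpa [mul_assoc] using this
    · show m.1 (h a) = c
      rw [h1]; exact m.2.1.2
    · show m.1 (h b) = e
      rw [h1']; exact m.2.2
  have hα : TwoTrans α.range := by
    intro a b c e ha hb hab hc he hce
    obtain ⟨g, hg, e1, e2⟩ := hmove a.1 b.1 c.1 e.1 a.2 b.2 c.2 e.2 (fun h => ha (Subtype.ext h))
      (fun h => hb (Subtype.ext h)) (fun h => hab (Subtype.ext h)) (fun h => hc (Subtype.ext h))
      (fun h => he (Subtype.ext h)) (fun h => hce (Subtype.ext h))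
    exact ⟨α ⟨g, hg⟩, ⟨_, rfl⟩, Subtype.ext e1, Subtype.ext e2⟩
  set RW := (R.subgroupOf (invSub W)).map (resHom W)
  have hRWinv : R ≤ invSub W := fun g hg =>
    mem_invSub_of (hWinv g hg) (hWinv g⁻¹ (inv_mem hg))
  have hRWp : IsPGroup r RW := (hRp.of_equiv (Subgroup.subgroupOfEquivOfLe hRWinv).symm).map _
  have hRWfix : fixedSp RW = ⊥ := by
    rw [eq_bot_iff]
    intro v hv
    rw [Submodule.mem_bot]
    refine Subtype.ext (eq_zero_of_fixed_fpf hRodd (fun g hg => ?_) v.2)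
    exact congrArg Subtype.val (hv _ ⟨⟨g, hRWinv hg⟩, hg, rfl⟩)
  have hRWN : ∀ g : N, ∀ t ∈ RW, β g * t * (β g)⁻¹ ∈ RW := by
    rintro g _ ⟨t, ht, rfl⟩
    refine ⟨⟨g.1, hNW g.1 g.2⟩ * t * (⟨g.1, hNW g.1 g.2⟩ : invSub W)⁻¹, hNconj g.1 g.2 _ ht, ?_⟩
    rw [map_mul, map_mul, map_inv]
    rfl
  have hsplit : ∀ v : V, ∃ a ∈ A, ∃ w ∈ W, v = a + w := fun v => by
    obtain ⟨a, ha, w, hw, e⟩ :=
      Submodule.mem_sup.1 ((codisjoint_iff.1 (isCompl_fixed_fpf hRodd).2).symm ▸ Submodule.mem_top : v ∈ A ⊔ W)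
    exact ⟨a, ha, w, hw, e.symm⟩
  by_cases hk2' : k = 2
  · -- a swap that is trivial on the moved space would be a transvection
    exfalso
    have hj1 : j = 1 := by omega
    subst hj1
    have hdodd : Odd d := by
      have := hp.odd_of_ne_two (by omega)
      rw [hnjk, hk2', one_mul] at this
      rcases Nat.even_or_odd d with he | ho
      · exact absurd this (Nat.not_odd_iff_even.2 (even_two.add he))
      · exact ho
    obtain ⟨g₀, hg₀, e1, e2⟩ := hmove x y y x hxA hyA hyA hxA hx hy hxy hy hx (Ne.symm hxy)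
    obtain ⟨a, o, ho, hao⟩ := Nat.exists_eq_pow_mul_and_not_dvd (orderOf_pos g₀).ne' 2 (by norm_num)
    obtain ⟨o', rfl⟩ : ∃ o', o = 2 * o' + 1 := ⟨o / 2, by omega⟩
    set g := g₀ ^ (2 * o' + 1) with hg
    have hgN : g ∈ N := pow_mem hg₀ _
    have hsw : ∀ i, (g₀ ^ (2 * i)) x = x ∧ (g₀ ^ (2 * i)) y = y := by
      intro i
      induction i with
      | zero => exact ⟨rfl, rfl⟩
      | succ i ih =>
        rw [Nat.mul_succ, show 2 * i + 2 = 2 + 2 * i by omega, pow_add]
        constructor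
        · show (g₀ ^ 2) ((g₀ ^ (2 * i)) x) = x
          rw [ih.1, pow_two]
          show g₀ (g₀ x) = x
          rw [e1, e2]
        · show (g₀ ^ 2) ((g₀ ^ (2 * i)) y) = y
          rw [ih.2, pow_two]
          show g₀ (g₀ y) = y
          rw [e2, e1]
    have hgx : g x = y := by
      rw [hg, pow_succ']
      show g₀ ((g₀ ^ (2 * o')) x) = y
      rw [(hsw o').1, e1]
    have hgy : g y = x := by
      rw [hg, pow_succ']
      show g₀ ((g₀ ^ (2 * o')) y) = x
      rw [(hsw o').2, e2]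
    have hpow : g ^ 2 ^ a = 1 := by
      rw [hg, ← pow_mul, mul_comm, ← hao, pow_orderOf_eq_one]
    have hW1 : β ⟨g, hgN⟩ = 1 := by
      refine small_trivial (Z := W) hr2 (by rw [hj, mul_one]) rfl hdodd RW hRWp hRWfix _ (hRWN _) ⟨a, ?_⟩
      refine orderOf_dvd_of_pow_eq_one ?_
      rw [← map_pow, show (⟨g, hgN⟩ : N) ^ 2 ^ a = 1 from Subtype.ext hpow, map_one]
    have hWg : ∀ w ∈ W, g w = w := resHom_eq_one.1 hW1
    have hAeq : ∀ v ∈ A, v = 0 ∨ v = x ∨ v = y ∨ v = x + y := by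
      have hle : Submodule.span (ZMod 2) {x, y} ≤ A := Submodule.span_le.2 (by
        rintro v (rfl | rfl)
        exacts [hxA, hyA])
      have hspan : Submodule.span (ZMod 2) {x, y} = A := by
        refine Submodule.eq_of_le_of_finrank_le hle ?_
        rw [← hk, hk2']
        have hlt : Submodule.span (ZMod 2) {x} < Submodule.span (ZMod 2) {x, y} := by
          refine lt_of_le_of_ne (Submodule.span_mono (by simp)) fun e => ?_
          have : y ∈ Submodule.span (ZMod 2) {x} := e ▸ Submodule.subset_span (by simp)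
          obtain ⟨c, hc⟩ := Submodule.mem_span_singleton.1 this
          rcases zmod_two_cases c with rfl | rfl
          · exact hy (by rw [← hc, zero_smul])
          · exact hxy (by rw [← hc, one_smul])
        have h1 := Submodule.finrank_lt_finrank_of_lt hlt
        rw [finrank_span_singleton hx] at h1
        omega
      intro v hv
      rw [← hspan, Submodule.mem_span_pair] at hv
      obtain ⟨c, c', rfl⟩ := hv
      rcases zmod_two_cases c with rfl | rfl <;> rcases zmod_two_cases c' with rfl | rfl <;> simp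
    have hxy0 : x + y ≠ 0 := fun e => hxy (by rwa [← sub_eq_add_two, sub_eq_zero] at e)
    have hrange : ∀ v, g v - v ∈ Submodule.span (ZMod 2) {x + y} := fun v => by
      obtain ⟨a, ha, w, hw, rfl⟩ := hsplit v
      rw [map_add, hWg w hw, add_sub_add_right_eq_sub]
      rcases hAeq a ha with rfl | rfl | rfl | rfl
      · simp
      · rw [hgx, sub_eq_add_two, add_comm]; exact Submodule.mem_span_singleton_self _
      · rw [hgy, sub_eq_add_two]; exact Submodule.mem_span_singleton_self _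
      · rw [map_add, hgx, hgy, add_comm y x, sub_self]; exact zero_mem _
    obtain ⟨φ, hφ, hφbot⟩ := (⊥ : Submodule (ZMod 2) V).exists_dual_map_eq_bot_of_notMem
      (x := x + y) (by simpa using hxy0) inferInstance
    have hφ1 : φ (x + y) = 1 := (zmod_two_cases _).resolve_left hφ
    have hg1 := hT g hgN.1 (φ.comp ((g : V →ₗ[ZMod 2] V) - LinearMap.id)) (x + y) fun v => by
      obtain ⟨c, hc⟩ := Submodule.mem_span_singleton.1 (hrange v)
      have : φ.comp ((g : V →ₗ[ZMod 2] V) - LinearMap.id) v = c := by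
        show φ (g v - v) = c
        rw [← hc, map_smul, hφ1, smul_eq_mul, mul_one]
      rw [this, hc, add_sub_cancel]
    rw [hg1] at hgx
    exact hxy hgx
  have hk3 : 3 ≤ k := by omega
  obtain ⟨q, hq, hqd, hqe⟩ : ∃ q : ℕ, q.Prime ∧ q ∣ 2 ^ k - 1 ∧
      (orderOf (2 : ZMod q) = k ∨ (k = 6 ∧ q = 7 ∧ orderOf (2 : ZMod q) = 3)) := by
    by_cases h6 : k = 6
    · refine ⟨7, by norm_num, by rw [h6]; norm_num, Or.inr ⟨h6, rfl, ?_⟩⟩
      refine orderOf_two_eq (by norm_num) (by norm_num) fun i hi hi' => ?_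
      interval_cases i <;> norm_num
    · obtain ⟨q, hq, hqd, hmin⟩ := Cfsg.Lib.Zsigmondy.zsigmondy 2 k (by norm_num) (by omega) (fun h => h6 h.2)
        (fun h => by omega)
      exact ⟨q, hq, hqd, Or.inl (orderOf_two_eq (by omega) hqd hmin)⟩
  haveI := Fact.mk hq
  set e := orderOf (2 : ZMod q) with he
  have hje : j < e := by
    rcases hqe with h | ⟨h6, -, h3⟩
    · omega
    · have := hk6 h6; omega
  have hek : e ∣ k := by
    rcases hqe with h | ⟨h6, -, h3⟩
    · rw [h]
    · rw [h3, h6]; norm_num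
  have hK : β.ker.map α ≠ ⊥ :=
    map_ker_ne_bot hr2 rfl hk3 α hα hqd rfl hje (hcop.coprime_dvd_left hek) β RW hRWp hRWN hRWfix
      (le_of_eq (by rw [hj, mul_comm]))
  have hKnorm : ∀ m ∈ α.range, ∀ c ∈ β.ker.map α, m * c * m⁻¹ ∈ β.ker.map α := by
    rintro _ ⟨m, rfl⟩ _ ⟨c, hc, rfl⟩
    exact ⟨m * c * m⁻¹, (MonoidHom.normal_ker β).conj_mem c hc m, by simp⟩
  have hKfix : ∀ g ∈ β.ker, ∀ w ∈ W, g.1 w = w := fun g hg => resHom_eq_one.1 hg
  have hsmall : ∀ k', k = k' → (2 ^ k' - 1).Prime → False := by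
    intro k' hk' hprime
    subst hk'
    have htop := IH A α.range hkn hk3 hprime hα
    have hnormal : (β.ker.map α).Normal := ⟨fun c hc m => hKnorm m (htop ▸ Subgroup.mem_top m) c hc⟩
    obtain ⟨t, ⟨g, hg, rfl⟩, ht1, f, a, hf⟩ := exists_transvection_of_normal (k := k) rfl hk3 hnormal hK
    let π : V →ₗ[ZMod 2] A := (avg R).codRestrict A fun v => avg_fixed v
    have hg1 := hT g.1 g.2.1 (f.comp π) a.1 fun v => by
      obtain ⟨b, hb, w, hw, rfl⟩ := hsplit v
      have hπ : π (b + w) = ⟨b, hb⟩ := Subtype.ext (by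
        show avg R (b + w) = b
        rw [map_add, avg_of_fixed hRodd hb, show avg R w = 0 from LinearMap.mem_ker.1 hw, add_zero])
      have h' : g.1 b = b + f ⟨b, hb⟩ • a.1 := congrArg Subtype.val (hf ⟨b, hb⟩)
      rw [LinearMap.comp_apply, hπ, map_add, hKfix g hg w hw, h', add_right_comm]
    exact ht1 (by rw [show g = 1 from Subtype.ext hg1, map_one])
  have hk3' : k ≠ 3 := fun h => hsmall 3 h (by norm_num)
  have hk5 : k ≠ 5 := fun h => hsmall 5 h (by norm_num)
  refine ⟨by omega, hk5, ?_⟩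
  have hinjK : ∀ g ∈ β.ker, α g = 1 → g = 1 := fun g hg h => by
    refine Subtype.ext (LinearEquiv.ext fun v => ?_)
    obtain ⟨a, ha, w, hw, rfl⟩ := hsplit v
    show g.1 (a + w) = a + w
    have hga : g.1 a = a := resHom_eq_one.1 h a ha
    rw [map_add, hKfix g hg w hw, hga]
  let Kα : β.ker →* (A ≃ₗ[ZMod 2] A) := α.comp β.ker.subtype
  have hKinj : Function.Injective Kα :=
    (injective_iff_map_eq_one Kα).2 fun g hg => Subtype.ext (hinjK g.1 g.2 hg)
  have hKcard : q ∣ Nat.card β.ker := by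
    have hc : Nat.card (β.ker.map α) = Nat.card β.ker := by
      rw [show β.ker.map α = Kα.range by rw [MonoidHom.range_comp, Subgroup.range_subtype]]
      exact (Nat.card_congr (MonoidHom.ofInjective hKinj).toEquiv).symm
    rw [← hc]
    exact hqd.trans (pred_dvd_card rfl (by omega) (trans_of_normal hα hKnorm hK))
  obtain ⟨g₁, hg₁⟩ := exists_prime_orderOf_dvd_card' q hKcard
  set g := g₁.1.1 with hgdef
  have hgo : orderOf g = q := by rw [hgdef, Subgroup.orderOf_coe, Subgroup.orderOf_coe, hg₁]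
  have hgW : ∀ w ∈ W, g w = w := hKfix g₁.1 g₁.2
  have hgA : ∀ a ∈ A, g a ∈ A := fun a ha => ((hNA g g₁.1.2) a).2 ha
  have hmovedA : moved g ≤ A := by
    rintro _ ⟨v, rfl⟩
    obtain ⟨a, ha, w, hw, rfl⟩ := hsplit v
    show g (a + w) - (a + w) ∈ A
    rw [map_add, hgW w hw, add_sub_add_right_eq_sub]
    exact sub_mem (hgA a ha) ha
  set Gg := Subgroup.zpowers g
  have hGp : IsPGroup q Gg := IsPGroup.of_card (n := 1) (by rw [Nat.card_zpowers, hgo, pow_one])
  have hq2 : q ≠ 2 := by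
    rintro rfl
    have : 2 ∣ 2 ^ k := dvd_pow_self 2 (by omega)
    have := Nat.one_le_two_pow (n := k)
    omega
  have hGodd : Odd (Nat.card Gg) := odd_card_of_pGroup hq2 hGp
  have hmoved : moved g = fpfSp Gg := by
    have hle : moved g ≤ fpfSp Gg := by
      rintro _ ⟨v, rfl⟩
      show avg Gg (g v - v) = 0
      rw [map_sub, avg_comp (Subgroup.mem_zpowers g), sub_self]
    refine Submodule.eq_of_le_of_finrank_le hle ?_
    have h1 : fixedSp Gg = LinearMap.ker ((g : V →ₗ[ZMod 2] V) - LinearMap.id) := by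
      ext v
      rw [LinearMap.mem_ker]
      show _ ↔ g v - v = 0
      rw [sub_eq_zero]
      exact ⟨fun h => h g (Subgroup.mem_zpowers g), fun h => fixedSp_zpowers h⟩
    have h2' := finrank_fixed_add hGodd
    have h3 := LinearMap.finrank_range_add_finrank_ker ((g : V →ₗ[ZMod 2] V) - LinearMap.id)
    rw [h1] at h2'
    have h3' : Module.finrank (ZMod 2) (moved g) +
        Module.finrank (ZMod 2) (LinearMap.ker ((g : V →ₗ[ZMod 2] V) - LinearMap.id)) =
          Module.finrank (ZMod 2) V := h3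
    omega
  have hEdvd : e ∣ Module.finrank (ZMod 2) (moved g) := by
    rw [hmoved]
    exact ord_dvd_finrank hGp (fun t ht v hv =>
      fpfSp_inv (fun s hs => mul_mem (mul_mem ht hs) (inv_mem ht)) hv)
      fun v hv hv' => eq_zero_of_fixed_fpf hGodd hv' hv
  have hEpos : Module.finrank (ZMod 2) (moved g) ≠ 0 := fun h0 => by
    rw [Submodule.finrank_eq_zero] at h0
    have : g = 1 := LinearEquiv.ext fun v => sub_eq_zero.1 (by
      have : g v - v ∈ moved g := ⟨v, rfl⟩
      rwa [h0, Submodule.mem_bot] at this)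
    rw [this, orderOf_one] at hgo
    exact hq.ne_one hgo.symm
  have hEle : Module.finrank (ZMod 2) (moved g) ≤ k := Submodule.finrank_mono hmovedA
  obtain ⟨w, hw, hw0⟩ := Submodule.exists_mem_ne_zero_of_ne_bot hW0
  obtain ⟨y', hy', hwy⟩ : ∃ y' : V, y' ≠ 0 ∧ w ≠ y' := by
    by_cases h : w = x
    · exact ⟨y, hy, fun e => hxy (h.symm.trans e)⟩
    · exact ⟨x, hx, h⟩
  obtain ⟨h, hh, h1, -⟩ := h2 w y' x y hw0 hy' hwy hx hy hxy
  set g' := h * g * h⁻¹
  have hmoved' : moved g' = (moved g).map (h : V →ₗ[ZMod 2] V) := by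
    ext v
    constructor
    · rintro ⟨u, rfl⟩
      refine ⟨g (h⁻¹ u) - h⁻¹ u, ⟨h⁻¹ u, rfl⟩, ?_⟩
      show h (g (h⁻¹ u) - h⁻¹ u) = g' u - u
      rw [map_sub, apply_inv_self]
      rfl
    · rintro ⟨_, ⟨u, rfl⟩, rfl⟩
      refine ⟨h u, ?_⟩
      show g' (h u) - h u = h (g u - u)
      rw [map_sub, show g' (h u) = h (g (h⁻¹ (h u))) from rfl, inv_apply_self]
  have hfr : Module.finrank (ZMod 2) (moved g') = Module.finrank (ZMod 2) (moved g) := by
    rw [hmoved', LinearEquiv.finrank_map_eq]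
  have hgo' : orderOf g' = q :=
    (orderOf_injective (MulAut.conj h).toMonoidHom (MulAut.conj h).injective g).trans hgo
  refine ⟨g', mul_mem (mul_mem hh g₁.1.2.1) (inv_mem hh), _, ?_, by rw [hgo']; exact hq, ?_, hfr, ?_, ?_,
    fun h6 => by rw [hgo']; exact hqe.resolve_right fun hc => h6 hc.1⟩
  · show h (g (h⁻¹ x)) = x
    rw [inv_apply_eq h1, hgW w hw, h1]
  · rw [hgo']
    rcases hqe with h' | ⟨h6, h7, -⟩
    · have h8 : e ∣ q - 1 := ZMod.orderOf_dvd_card_sub_one (natCast_two_ne_zero hq hq2)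
      have := hq.two_le
      have := Nat.le_of_dvd (by omega) h8
      omega
    · omega
  · rw [hmoved']
    rintro ⟨u, hu, hux⟩
    have : u = w := h.injective (hux.trans h1.symm)
    subst this
    exact hw0 (eq_zero_of_fixed_fpf hRodd (hmovedA hu) hw)
  · obtain ⟨c, hc⟩ := hEdvd
    rcases hqe with h' | ⟨h6, -, h3⟩
    · refine Or.inl (le_antisymm hEle ?_)
      exact Nat.le_of_dvd (Nat.pos_of_ne_zero hEpos) (h' ▸ ⟨c, hc⟩)
    · rw [h3] at hc
      have hc2 : c = 1 ∨ c = 2 := by omega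
      rcases hc2 with rfl | rfl
      · exact Or.inr ⟨h6, by omega⟩
      · exact Or.inl (by omega)

end Cfsg.Lib.AntiflagTwo
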