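import Mathlib
import Cfsg.Agent.AntiflagTwo.Goal
import Cfsg.Agent.AntiflagTwo.Antiflag
import Cfsg.Agent.AntiflagTwo.Field
import Cfsg.Agent.AntiflagTwo.Spread
import Cfsg.Agent.AntiflagTwo.Classify
import Cfsg.Agent.AntiflagTwo.Kill
import Cfsg.Agent.AntiflagTwo.Except
import Cfsg.Agent.AntiflagTwo.Witt
import Cfsg.Agent.Components.Misc.Zsigmondy

/-!
Two-transitive linear groups of Mersenne dimension at least five contain transvections.
-/

set_option autoImplicit false
set_option linter.unusedSectionVars false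
set_option linter.style.haveILetI false

namespace Cfsg.Lib.AntiflagTwo

open Module

universe u

variable {F : Type*} [Field F] [Finite F] {U : Type u} [AddCommGroup U] [Module (ZMod 2) U]
  [Module F U] [Finite U] {G : Subgroup (U ≃ₗ[ZMod 2] U)}

theorem deg_dvd_moved (h : Setting F G) {l : U ≃ₗ[ZMod 2] U}
    (hlin : ∀ (c : F) (u : U), l (c • u) = c • l u) : deg F ∣ finrank (ZMod 2) (moved l) := by
  let M : Submodule F U :=
    { carrier := (moved l : Set U)
      add_mem' := (moved l).add_mem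
      zero_mem' := (moved l).zero_mem
      smul_mem' := by
        rintro c _ ⟨u, rfl⟩
        refine ⟨c • u, ?_⟩
        show l (c • u) - c • u = c • (l u - u)
        rw [hlin, smul_sub] }
  refine ⟨finrank F M, ?_⟩
  rw [← finrank_two h M]
  rfl

theorem eq_zero_of_fixed_moved {l : U ≃ₗ[ZMod 2] U} {r : ℕ} (hr : Odd r) (hl : l ^ r = 1) {v : U}
    (hv : v ∈ moved l) (hfix : l v = v) : v = 0 := by
  obtain ⟨u, rfl⟩ := hv
  set w := (((l : U →ₗ[ZMod 2] U) - LinearMap.id) : U →ₗ[ZMod 2] U) u with hw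
  have hlu : l u = u + w := by rw [hw]; simp
  have hi : ∀ i : ℕ, (l ^ i) u = u + i • w := by
    intro i
    induction i with
    | zero => simp
    | succ i ih =>
      rw [pow_succ', LinearEquiv.mul_apply, ih, map_add, map_nsmul, hfix, hlu, succ_nsmul, add_assoc,
        add_comm w]
  have h1 := hi r
  rw [hl, nsmul_of_odd hr] at h1
  exact (add_eq_left.1 h1.symm)

/-- The endgame in an antiflag setting. -/
theorem false_of_setting (h : Setting F G) (hm : 2 ≤ finrank F U) {L : Subgroup (U ≃ₗ[ZMod 2] U)}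
    (hLG : L ≤ G) (hN3 : 3 ≤ finrank F U) {y : U} (hy : y ≠ 0)
    (hmax : ∀ K : Subring (Module.End (ZMod 2) U), IsField K →
        (∀ g ∈ G, ∀ φ ∈ K, conjEnd g φ ∈ K) → Nat.card K ≤ Nat.card F)
    (h2G : 2 ^ (deg F * finrank F U) ∣ Nat.card G) {n : ℕ} (hn : n = deg F * finrank F U + 1)
    (hpn : n.Prime) (hp : (2 ^ n - 1).Prime)
    {c : ℕ} (hc : Nat.card (L ⊓ MulAction.stabilizer (U ≃ₗ[ZMod 2] U) y : Subgroup _) = 2 * c)
    (hmod : ∃ e, (e = 1 ∨ e = n) ∧ 2 ^ n - 1 ∣ c + e)
    (hGL : ∀ g ∈ G, ∃ a : F, a ≠ 0 ∧ ∃ l ∈ L, ∀ u, g u = a • l u)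
    (hwitt : ∀ r : ℕ, r.Prime → r ≠ 2 → r ∣ c → ∃ k j, n = k + j * orderOf (2 : ZMod r) ∧ 0 < j ∧ 2 ≤ k ∧
      (j < k → (k = 6 → j < 3) → 4 ≤ k ∧ k ≠ 5 ∧ ∃ l ∈ L, ∃ e, (∃ s, s.Prime ∧ k < s ∧ l ^ s = 1 ∧
        (k ≠ 6 → orderOf (2 : ZMod s) = k)) ∧ finrank (ZMod 2) (moved l) = e ∧
        (e = k ∨ (k = 6 ∧ e = 3)))) : False := by
  haveI := char_two h
  haveI : Module.Finite F U := Module.Finite.of_finite
  set D := finrank F (wsp F G y) with hD
  set e := finrank F (comp F G y) with he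
  set N := finrank F U with hN
  set b := deg F with hb
  have hb0 : 0 < b := (card_F h).2
  have hD2 : 2 ≤ D := finrank_wsp h hm hy
  have hDe : D ≤ e := Submodule.finrank_mono (wsp_le_comp h hm hy)
  have heN : e ≤ N := Submodule.finrank_le _
  -- the component is everything or half
  have hNe : N = e ∨ N = 2 * e := by
    obtain ⟨⟨t, ht⟩, -⟩ := dvd_finrank h hm hy
    rw [← hN, ← he] at ht
    by_cases h3 : 3 * e ≤ N
    · obtain ⟨K, hK, hinv, hlt⟩ := spread_field h hm hy h3
      exact absurd (hmax K hK hinv) (Nat.not_le.2 hlt)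
    · have ht3 : t < 3 := by
        by_contra hc3
        have := Nat.mul_le_mul_left e (Nat.not_lt.1 hc3)
        omega
      interval_cases t <;> omega
  have hclass := classify h hm hy
  have hD3 : 3 ≤ D := by
    by_contra hlt
    have hD2' : D = 2 := by omega
    have he2 : e = 2 := by
      rcases hclass with hc1 | hc1 | hc1
      · rw [← hD, ← he] at hc1; omega
      · rw [← hD, ← he] at hc1; omega
      · rw [← hD, ← he] at hc1; omega
    exact not_line_spread h hm hy (by omega) he2 h2G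
  have hs : Shape D e N := ⟨hclass, hNe⟩
  -- the exceptional parameters
  have hx : ¬ Exceptional b D e N := by
    intro hx
    obtain ⟨e', he', hdvd⟩ := hmod
    haveI := finite_equiv (V := U)
    exact not_exceptional h hm hy hx hn he'
      (hc ▸ Subgroup.card_dvd_of_le (inf_le_inf_right _ hLG)) hdvd
  have h6 := not_six hn hb0 hD3 hs hpn hp hx
  set d := b * (D - 1) with hd
  have hd2 : 2 * b ≤ d := by rw [hd, mul_comm]; exact Nat.mul_le_mul_left b (by omega)
  -- the primitive prime divisor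
  obtain ⟨r, hr, hrd, hmin⟩ := Cfsg.Lib.Zsigmondy.zsigmondy 2 d (by norm_num) (by omega)
    (fun hc6 => h6 hc6.2) (by
      rintro ⟨-, i, hi⟩
      rcases i with _ | i
      · simp at hi
      · rw [pow_succ] at hi; omega)
  have hord : orderOf (2 : ZMod r) = d := orderOf_two_eq (by omega) hrd hmin
  haveI := Fact.mk hr
  have hr2 : r ≠ 2 := by
    rintro rfl
    exact not_two_dvd_pow_sub_one (by omega) hrd
  have hdr : d < r := by
    have h8 := ZMod.orderOf_dvd_card_sub_one (natCast_two_ne_zero hr hr2)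
    rw [hord] at h8
    have := hr.two_le
    have := Nat.le_of_dvd (by omega) h8
    omega
  have hrb : ¬ r ∣ b := fun hd' => by
    have := Nat.le_of_dvd hb0 hd'
    omega
  have hrq : ¬ r ∣ Nat.card F - 1 := by
    rw [(card_F h).1]
    exact hmin b hb0 (by omega)
  have hrS : r ∣ Nat.card (lineStab F G y) := hrd.trans (dvd_card_lineStab h hm hy)
  have hrc := dvd_card_vecStab h hLG hGL hy hr hrS hrq hrb
  rw [hc] at hrc
  have hrc' : r ∣ c := (hr.dvd_mul.1 hrc).resolve_left fun h2' =>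
    hr2 ((Nat.prime_dvd_prime_iff_eq hr Nat.prime_two).1 h2')
  obtain ⟨k, j, hkj, hj, hk, hrest⟩ := hwitt r hr hr2 hrc'
  rw [hord] at hkj
  obtain ⟨hjk, hk6, hbk1, hbk, hone⟩ := fixed_dim hn hb0 hD3 hs hpn hp hx hkj hj hk
  obtain ⟨hk4, hk5, l, hl, e', ⟨s, hsp, hks, hls, hsord⟩, hmv, hcase⟩ := hrest hjk hk6
  haveI := Fact.mk hsp
  by_cases hb1 : b = 1
  · -- over the prime field: a spread
    obtain ⟨hN2, hek, hk6'⟩ := hone hb1 hk4 hk5
    have he'k : e' = k := hcase.resolve_right fun hc6 => hk6' hc6.1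
    have hso := hsord hk6'
    have hs2 : s ≠ 2 := by omega
    have hsodd : Odd s := hsp.odd_of_ne_two hs2
    have hU : finrank (ZMod 2) U = N := by rw [finrank_prime h, ← hb, hb1, one_mul]
    have hkN : k < N := by
      have := Nat.mul_pos hj (show 0 < d by omega)
      have h3 : 2 * j ≤ j * d := by rw [mul_comm 2 j]; exact Nat.mul_le_mul_left j (by omega)
      rw [hn, hb1, one_mul] at hkj
      omega
    set δ := (l : U →ₗ[ZMod 2] U) - LinearMap.id with hδ
    have hker : finrank (ZMod 2) (LinearMap.ker δ) = N - k := by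
      have h3 := LinearMap.finrank_range_add_finrank_ker δ
      have h4 : finrank (ZMod 2) (LinearMap.range δ) = k := he'k ▸ hmv
      omega
    obtain ⟨u, hu, hu0⟩ : ∃ u, u ∈ LinearMap.ker δ ∧ u ≠ 0 := by
      refine Submodule.exists_mem_ne_zero_of_ne_bot fun hb' => ?_
      rw [hb', finrank_bot] at hker
      omega
    have hlu : l u = u := sub_eq_zero.1 (LinearMap.mem_ker.1 hu)
    set E := comp F G u with hE
    have hEe : finrank (ZMod 2) (two E) = e := by
      rw [finrank_two h, ← hb, hb1, one_mul, hE, finrank_comp_eq h hm hy hu0]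
    have hinv : ∀ v ∈ E, l v ∈ E := by
      intro v hv
      have e2 := comp_map h hm (hLG hl) hu0
      rw [hlu] at e2
      rw [hE, e2]; exact (apply_mem_img h (hLG hl)).2 hv
    set R := LinearMap.range (δ ∘ₗ (two E).subtype) with hR
    by_cases hR0 : R = ⊥
    · have hle : two E ≤ LinearMap.ker δ := by
        intro v hv
        have : δ v ∈ R := ⟨⟨v, hv⟩, rfl⟩
        rw [hR0, Submodule.mem_bot] at this
        exact this
      have h3 := Submodule.finrank_mono hle
      omega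
    have hlp : IsPGroup s (Subgroup.zpowers l) := by
      haveI := finite_equiv (V := U)
      have ho : orderOf l = s ∨ orderOf l = 1 :=
        ((Nat.dvd_prime hsp).1 (orderOf_dvd_of_pow_eq_one hls)).symm
      rcases ho with ho | ho
      · exact IsPGroup.of_card (n := 1) (by rw [Nat.card_zpowers, ho, pow_one])
      · exact IsPGroup.of_card (n := 0) (by rw [Nat.card_zpowers, ho, pow_zero])
    have hRinv : ∀ g ∈ Subgroup.zpowers l, ∀ v ∈ R, g v ∈ R := by
      haveI := finite_equiv (V := U)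
      intro g hg v hv
      obtain ⟨i, rfl⟩ := mem_powers_iff_mem_zpowers.2 hg
      induction i with
      | zero => simpa using hv
      | succ i ih =>
        obtain ⟨w, hw⟩ := ih (Subgroup.pow_mem _ (Subgroup.mem_zpowers l) i)
        show (l ^ (i + 1)) v ∈ R
        rw [pow_succ', LinearEquiv.mul_apply, ← hw]
        refine ⟨⟨l w.1, hinv w.1 w.2⟩, ?_⟩
        show l (l w.1) - l w.1 = l (l w.1 - w.1)
        rw [map_sub]
    have hdvd := ord_le_finrank hlp hRinv (fun v hv hv' => by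
      refine eq_zero_of_fixed_moved hsodd hls ?_ (hv' l (Subgroup.mem_zpowers l))
      obtain ⟨w, rfl⟩ := hv
      exact ⟨w.1, rfl⟩) hR0
    have hRle : finrank (ZMod 2) R ≤ e := hEe ▸ LinearMap.finrank_range_le _
    rw [hso] at hdvd
    omega
  · have hsb : ¬ s ∣ b := fun hd' => by
      have := Nat.le_of_dvd hb0 hd'
      omega
    have hlin := linear_of_prime h (hLG hl) hsp hls hsb
    have hbe := deg_dvd_moved h hlin
    rw [hmv, ← hb] at hbe
    rcases hcase with rfl | ⟨h6k, rfl⟩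
    · have h1 := Nat.dvd_sub hbe hbk1
      rw [show e' - (e' - 1) = 1 by omega, Nat.dvd_one] at h1
      exact hb1 h1
    · rw [h6k] at hbk1
      have h1 := Nat.dvd_gcd hbe hbk1
      norm_num at h1
      exact hb1 h1

theorem transvectionExists : TransvectionExists.{u} := by
  intro V _ _ _ n H hn hpn h5 hp IH h2 hT
  haveI : Module.Finite (ZMod 2) V := Module.Finite.of_finite
  obtain ⟨x, hx⟩ : ∃ x : V, x ≠ 0 :=
    Module.finrank_pos_iff_exists_ne_zero.1 (by omega : 0 < finrank (ZMod 2) V)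
  set P := Submodule.span (ZMod 2) {x} with hP
  haveI : Finite (V ⧸ P) := Finite.of_surjective _ (Submodule.mkQ_surjective _)
  have hU : finrank (ZMod 2) (V ⧸ P) = n - 1 := by
    have := Submodule.finrank_quotient_add_finrank P
    rw [hn, hP, finrank_span_singleton hx] at this
    rw [hP]
    omega
  haveI : Module.Finite (ZMod 2) (V ⧸ P) := Module.Finite.of_finite
  obtain ⟨yb, hyb⟩ : ∃ u : V ⧸ P, u ≠ 0 :=
    Module.finrank_pos_iff_exists_ne_zero.1 (by omega : 0 < finrank (ZMod 2) (V ⧸ P))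
  obtain ⟨F, _, _, _, G, hLG, hS, hGL, hmax⟩ := exists_setting ⟨yb, hyb⟩ (quotHom H x).range
    (antiflag hn (by omega) h2 hx)
  haveI := finite_equiv (V := V ⧸ P)
  have hbN : deg F * finrank F (V ⧸ P) = n - 1 := by rw [← finrank_prime hS, hU]
  have h2L := two_pow_dvd_card hn (by omega) h2 hx hT
  have h2G : 2 ^ (deg F * finrank F (V ⧸ P)) ∣ Nat.card G := by
    rw [hbN]; exact h2L.trans (Subgroup.card_dvd_of_le hLG)
  have hN3 := three_le_finrank hS h2G
  obtain ⟨y, rfl⟩ := Submodule.mkQ_surjective P yb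
  have hy0 : y ≠ 0 := fun h0 => hyb (by simp [h0])
  have hyx : y ≠ x := fun h0 => hyb (by
    rw [h0]
    exact (Submodule.Quotient.mk_eq_zero P).2 (Submodule.mem_span_singleton_self x))
  refine false_of_setting hS (by omega) hLG hN3 hyb
    (fun K hK hinv => hmax K hK fun l hl => hinv l (hLG hl)) h2G (n := n) (by omega) hpn hp
    (c := Nat.card (fix2 H x y)) ?_ (card_fix2_mod hn (by omega) h2 hx hp hy0 hyx) hGL ?_
  · exact card_stab hn (by omega) h2 hx hT hy0 hyx
  intro r hr hr2 hrd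
  obtain ⟨k, j, hkj, hj, hk, hrest⟩ := witt hn hpn h5 IH h2 hT hx hy0 (Ne.symm hyx) hr hr2 hrd
  refine ⟨k, j, hkj, hj, hk, fun hjk hk6 => ?_⟩
  obtain ⟨hk4, hk5, g, hg, e, hgx, hgo, hkg, hmv, hxm, hcase, hord⟩ := hrest hjk hk6
  refine ⟨hk4, hk5, quotHom H x ⟨g, hg, hgx⟩, ⟨_, rfl⟩, e,
    ⟨orderOf g, hgo, hkg, ?_, hord⟩, ?_, hcase⟩
  · rw [← map_pow, show (⟨g, hg, hgx⟩ : ↥(H ⊓ MulAction.stabilizer (V ≃ₗ[ZMod 2] V) x)) ^ orderOf g = 1
      from Subtype.ext (pow_orderOf_eq_one g), map_one]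
  · have hinj : Function.Injective (P.mkQ ∘ₗ (moved g).subtype) := by
      rw [← LinearMap.ker_eq_bot, eq_bot_iff]
      intro v hv
      rw [Submodule.mem_bot]
      have h1 : v.1 ∈ P := (Submodule.Quotient.mk_eq_zero P).1 hv
      rcases mem_span_two.1 h1 with h0 | h0
      · exact Subtype.ext h0
      · exact absurd (h0 ▸ v.2) hxm
    have he : moved (quotHom H x ⟨g, hg, hgx⟩) = LinearMap.range (P.mkQ ∘ₗ (moved g).subtype) := by
      ext w
      constructor
      · rintro ⟨a, rfl⟩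
        obtain ⟨a, rfl⟩ := Submodule.mkQ_surjective P a
        exact ⟨⟨g a - a, ⟨a, rfl⟩⟩, rfl⟩
      · rintro ⟨⟨_, ⟨a, rfl⟩⟩, rfl⟩
        exact ⟨P.mkQ a, rfl⟩
    rw [he, LinearMap.finrank_range_of_inj hinj, hmv]

end Cfsg.Lib.AntiflagTwo
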